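import Cfsg.Agent.Lib.Helper8.BalL.FieldA

/-!
# Field automorphisms of `PSL_n`: the centraliser of the subfield subgroup in `Aut(PSL_n)`
(helper8)
-/

set_option autoImplicit false

namespace Cfsg.Agent.Lib.Helper8.BalL

open Matrix Cfsg Cfsg.Agent.AutPSLCount Cfsg.Agent.Lib.Helper8.AutSp

variable {F : Type*} [Field F] {n : ℕ} {F₀ : Type*} [Field F₀]

/-! ### general lemmas on `tv` -/

theorem tv_transpose (v φ : Fin n → F) : (tv v φ)ᵀ = tv φ v := by
  ext i j
  rw [Matrix.transpose_apply, tv_apply, tv_apply, mul_comm]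
  by_cases h : i = j
  · rw [if_pos h, if_pos h.symm]
  · rw [if_neg h, if_neg (Ne.symm h)]

theorem tv_mul_neg (v φ : Fin n → F) (h : φ ⬝ᵥ v = 0) : tv v φ * tv v (-φ) = 1 := by
  rw [Matrix.ext_iff_mulVec]
  intro x
  rw [← Matrix.mulVec_mulVec, tv_mulVec, tv_mulVec, Matrix.one_mulVec, dotProduct_add,
    dotProduct_smul, h, neg_dotProduct]
  simp only [smul_eq_mul, mul_zero, add_zero, neg_smul]
  abel

theorem tvSL_inv (v φ : Fin n → F₀) (h : φ ⬝ᵥ v = 0) :
    (tvSL v φ h)⁻¹ = tvSL v (-φ) (by rw [neg_dotProduct, h, neg_zero]) := by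
  rw [inv_eq_iff_mul_eq_one]
  apply Subtype.ext
  rw [Matrix.SpecialLinearGroup.coe_mul, tvSL_val, tvSL_val, Matrix.SpecialLinearGroup.coe_one]
  exact tv_mul_neg v φ h

/-! ### the relation given by a fixed point -/

/-- a fixed point of a semilinear automorphism, on matrices -/
theorem rel_of_fix (g : GL (Fin n) F) (τ : RingAut F) (s : SLn n F)
    (h : (Dh g * Ph τ : MulAut (PSLn n F)) (pr s) = pr s) :
    ∃ ζ : F, g.val * s.val.map (τ : F →+* F) = ζ • (s.val * g.val) := by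
  rw [semilin_apply] at h
  obtain ⟨ζ, hζ⟩ := pr_eq_smul _ _ h.symm
  refine ⟨ζ, ?_⟩
  rw [conjSL_apply, conjFun_val, fieldSL_val] at hζ
  have h3 : g⁻¹.val * g.val = 1 := by rw [← Units.val_mul, inv_mul_cancel, Units.val_one]
  calc g.val * s.val.map (τ : F →+* F)
      = g.val * s.val.map τ * g⁻¹.val * g.val := by
        rw [Matrix.mul_assoc, Matrix.mul_assoc, h3, Matrix.mul_one]
        rfl
    _ = ζ • (s.val * g.val) := by rw [hζ, Matrix.smul_mul]

theorem graphsemi_apply (g : GL (Fin n) F) (τ : RingAut F) (s : SLn n F) :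
    (Dh g * Ph τ * Γ : MulAut (PSLn n F)) (pr s) = pr (conjSL g (fieldSL τ (itSL s))) := rfl

/-- a fixed point of a semilinear graph automorphism, on matrices -/
theorem rel_of_fix_graph (g : GL (Fin n) F) (τ : RingAut F) (s : SLn n F)
    (h : (Dh g * Ph τ * Γ : MulAut (PSLn n F)) (pr s) = pr s) :
    ∃ ζ : F, g.val * ((s⁻¹).valᵀ).map (τ : F →+* F) = ζ • (s.val * g.val) := by
  rw [graphsemi_apply] at h
  obtain ⟨ζ, hζ⟩ := pr_eq_smul _ _ h.symm
  refine ⟨ζ, ?_⟩
  rw [conjSL_apply, conjFun_val, fieldSL_val, itSL_apply] at hζ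
  have h3 : g⁻¹.val * g.val = 1 := by rw [← Units.val_mul, inv_mul_cancel, Units.val_one]
  calc g.val * ((s⁻¹).valᵀ).map (τ : F →+* F)
      = g.val * ((s⁻¹).valᵀ).map τ * g⁻¹.val * g.val := by
        rw [Matrix.mul_assoc, Matrix.mul_assoc, h3, Matrix.mul_one]
        rfl
    _ = ζ • (s.val * g.val) := by
        have hζ' : g.val * ((s⁻¹).valᵀ).map τ * g⁻¹.val = ζ • s.val := hζ
        rw [hζ', Matrix.smul_mul]

theorem Dh_eq_one_of_scalar (hn : 2 ≤ n) (g : GL (Fin n) F) (c : F)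
    (hc : g.val = c • (1 : Matrix (Fin n) (Fin n) F)) : (Dh g : MulAut (PSLn n F)) = 1 := by
  have hg : g ∈ (Dh : GL (Fin n) F →* MulAut (PSLn n F)).ker := by
    rw [Dh_ker hn, Matrix.GeneralLinearGroup.mem_center_iff_val_mem_range_scalar]
    refine ⟨c, ?_⟩
    rw [hc]
    ext u v
    simp [Matrix.scalar_apply, Matrix.diagonal_apply, Matrix.one_apply]
  exact hg

/-! ### the centraliser of the subfield subgroup -/

/-- the centraliser of the subfield subgroup in `PSL_n(F)` is trivial -/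
theorem jF_cent (hn : 2 ≤ n) (ι : F₀ →+* F) (k : PSLn n F)
    (hk : ∀ s : PSLn n F₀, k * jF ι s * k⁻¹ = jF ι s) : k = 1 := by
  obtain ⟨x, rfl⟩ := pr_surjective k
  have hxu : IsUnit x.val := by
    rw [Matrix.isUnit_iff_isUnit_det, x.2]
    exact isUnit_one
  have H : ∀ s : SLn n F₀, ∃ ζ : F, x.val * ((mapSL ι s).val).map (RingHom.id F) =
      ζ • ((mapSL ι s).val * x.val) := by
    intro s
    have h1 := hk (pr s)
    rw [jF_pr, ← map_inv, ← map_mul, ← map_mul] at h1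
    obtain ⟨ζ, hζ⟩ := pr_eq_smul _ _ h1.symm
    refine ⟨ζ, ?_⟩
    have h3 : (x⁻¹).val * x.val = 1 := by
      rw [← Matrix.SpecialLinearGroup.coe_mul, inv_mul_cancel, Matrix.SpecialLinearGroup.coe_one]
    have e : ((mapSL ι s).val).map (RingHom.id F) = (mapSL ι s).val := by
      ext i j
      rfl
    rw [e]
    calc x.val * (mapSL ι s).val = (x * mapSL ι s * x⁻¹).val * x.val := by
          rw [Matrix.SpecialLinearGroup.coe_mul, Matrix.SpecialLinearGroup.coe_mul,
            Matrix.mul_assoc, h3, Matrix.mul_one]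
      _ = ζ • ((mapSL ι s).val * x.val) := by rw [hζ, Matrix.smul_mul]
  obtain ⟨-, c, hc⟩ := cent_sub_matrix hn ι x.val hxu (RingHom.id F) H
  apply (QuotientGroup.eq_one_iff _).2
  rw [Matrix.SpecialLinearGroup.mem_center_iff]
  refine ⟨c, ?_, ?_⟩
  · have hdet := x.2
    rw [hc, Matrix.det_smul, Matrix.det_one, mul_one] at hdet
    exact hdet
  · rw [hc]
    ext u v
    simp [Matrix.scalar_apply, Matrix.diagonal_apply, Matrix.one_apply]

/-- a semilinear automorphism fixing the subfield subgroup pointwise is a field automorphism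
fixing the subfield -/
theorem cent_sub_semilin (hn : 2 ≤ n) (ι : F₀ →+* F) (g : GL (Fin n) F) (τ : RingAut F)
    (hw : ∀ s : PSLn n F₀, (Dh g * Ph τ : MulAut (PSLn n F)) (jF ι s) = jF ι s) :
    (∀ t : F₀, τ (ι t) = ι t) ∧ (Dh g : MulAut (PSLn n F)) = 1 := by
  have H : ∀ s : SLn n F₀, ∃ ζ : F, g.val * ((mapSL ι s).val).map (τ : F →+* F) =
      ζ • ((mapSL ι s).val * g.val) := by
    intro s
    exact rel_of_fix g τ (mapSL ι s) (hw (pr s))
  obtain ⟨hτ, c, hc⟩ := cent_sub_matrix hn ι g.val ⟨g, rfl⟩ (τ : F →+* F) H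
  exact ⟨hτ, Dh_eq_one_of_scalar hn g c hc⟩

/-- a semilinear graph automorphism does not fix the subfield subgroup pointwise -/
theorem cent_sub_graph (hn : 3 ≤ n) (ι : F₀ →+* F) (g : GL (Fin n) F) (τ : RingAut F)
    (hw : ∀ s : PSLn n F₀, (Dh g * Ph τ * Γ : MulAut (PSLn n F)) (jF ι s) = jF ι s) : False := by
  have hinj := (Matrix.mulVec_injective_iff_isUnit).2 (⟨g, rfl⟩ : IsUnit g.val)
  -- the transvections `1 + e_b e_0ᵀ`
  have key : ∀ b : Fin n, b ≠ ⟨0, by omega⟩ → ∃ c : F,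
      g.val *ᵥ (-(Pi.single (⟨0, by omega⟩ : Fin n) 1)) = c • (Pi.single b 1 : Fin n → F) := by
    intro b hb
    have hdot : (Pi.single (⟨0, by omega⟩ : Fin n) 1 : Fin n → F₀) ⬝ᵥ (Pi.single b 1) = 0 := by
      rw [single_dotProduct, Pi.single_eq_of_ne (Ne.symm hb), mul_zero]
    obtain ⟨ζ, hζ⟩ := rel_of_fix_graph g τ (mapSL ι (tvSL _ _ hdot)) (hw (pr (tvSL _ _ hdot)))
    rw [← map_inv, tvSL_inv, mapSL_val, mapSL_val, tvSL_val, tvSL_val, tv_map, tv_map,
      tv_transpose, tv_map] at hζ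
    have hv : (fun k => ι ((Pi.single b 1 : Fin n → F₀) k)) = (Pi.single b 1 : Fin n → F) := by
      funext k
      simp only [Pi.single_apply]
      split_ifs <;> simp
    have hφ : (fun k => (τ : F →+* F) ((fun k => ι ((-(Pi.single (⟨0, by omega⟩ : Fin n) 1) :
        Fin n → F₀) k)) k)) = -(Pi.single (⟨0, by omega⟩ : Fin n) 1 : Fin n → F) := by
      funext k
      simp only [Pi.neg_apply, Pi.single_apply]
      split_ifs <;> simp
    have hne : (fun k => (τ : F →+* F) ((fun k => ι ((Pi.single b 1 : Fin n → F₀) k)) k)) ≠ 0 := by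
      intro h0
      have := congrFun h0 b
      simp only [Pi.single_eq_same, map_one, Pi.zero_apply] at this
      exact one_ne_zero this
    obtain ⟨c, hc⟩ := tv_center hn g.val ⟨g, rfl⟩ _ _ _ _ hne ζ hζ
    rw [hφ, hv] at hc
    exact ⟨c, hc⟩
  obtain ⟨c1, hc1⟩ := key ⟨1, by omega⟩ (by intro h; simpa using congrArg Fin.val h)
  obtain ⟨c2, hc2⟩ := key ⟨2, by omega⟩ (by intro h; simpa using congrArg Fin.val h)
  have h12 : (⟨1, by omega⟩ : Fin n) ≠ ⟨2, by omega⟩ := by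
    intro h; simpa using congrArg Fin.val h
  have e := congrFun (hc1.symm.trans hc2) ⟨1, by omega⟩
  rw [Pi.smul_apply, Pi.smul_apply, Pi.single_eq_same, Pi.single_eq_of_ne h12, smul_eq_mul,
    smul_eq_mul, mul_one, mul_zero] at e
  rw [e, zero_smul] at hc1
  have h0 : (-(Pi.single (⟨0, by omega⟩ : Fin n) 1) : Fin n → F) = 0 :=
    hinj (by rw [hc1, Matrix.mulVec_zero])
  have := congrFun h0 ⟨0, by omega⟩
  rw [Pi.neg_apply, Pi.single_eq_same, Pi.zero_apply, neg_eq_zero] at this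
  exact one_ne_zero this

/-- **the centraliser of the subfield subgroup in `Aut(PSL_n(F))`** consists of field
automorphisms fixing the subfield -/
theorem cent_sub_aut (hn : 2 ≤ n) (hfac : Fac n F) (ι : F₀ →+* F) (w : MulAut (PSLn n F))
    (hw : ∀ s : PSLn n F₀, w (jF ι s) = jF ι s) :
    ∃ τ : RingAut F, (∀ t : F₀, τ (ι t) = ι t) ∧ w = Ph τ := by
  obtain ⟨g, τ, c, hc, rfl⟩ := hfac w
  rcases hc with rfl | rfl
  · rw [mul_one] at hw ⊢
    obtain ⟨hτ, hg⟩ := cent_sub_semilin hn ι g τ hw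
    exact ⟨τ, hτ, by rw [hg, one_mul]⟩
  · rcases Nat.lt_or_ge n 3 with h3 | h3
    · have h2 : n = 2 := by omega
      subst h2
      have e : (Dh g * Ph τ * Γ : MulAut (PSLn 2 F)) =
          Dh (g * Matrix.GeneralLinearGroup.map (τ : F →+* F) w2) * Ph τ := by
        rw [Γ_two, mul_assoc, Ph_Dh, ← mul_assoc, ← map_mul]
      rw [e] at hw ⊢
      obtain ⟨hτ, hg⟩ := cent_sub_semilin hn ι _ τ hw
      exact ⟨τ, hτ, by rw [hg, one_mul]⟩
    · exact (cent_sub_graph h3 ι g τ hw).elim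

end Cfsg.Agent.Lib.Helper8.BalL
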