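import Cfsg.Agent.Lib.Helper8.BalL.FieldB
import Cfsg.Agent.Lib.Helper7.AutPSL.GraphFieldCent
import Cfsg.Agent.S0249

/-!
# Graph-field involutions of `PSL_n`: the centraliser of the unitary group (helper8)

A semilinear map normalising `SU_n(F, σ)` up to scalars is a scalar, and its field automorphism
is trivial (`n ≥ 3`, `F` finite of odd characteristic).
-/

set_option autoImplicit false

namespace Cfsg.Agent.Lib.Helper8.BalL

open Matrix Cfsg Cfsg.Agent.AutPSLCount Cfsg.Agent.Lib.H7AutPSL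

variable {F : Type*} [Field F] {n : ℕ}

/-- unitary matrices for the involution `σ` -/
def IsU (σ : RingAut F) (s : SLn n F) : Prop := s.val * (s.val.map σ)ᵀ = 1

/-! ### unitary transvections -/

theorem utv_dot (σ : RingAut F) (v : Fin n → F) (c : F)
    (hv : (fun i => σ (v i)) ⬝ᵥ v = 0) : (fun i => σ (v i)) ⬝ᵥ (c • v) = 0 := by
  rw [dotProduct_smul, hv, smul_zero]

/-- the unitary transvection `x ↦ x + c ⟨x, v⟩ v` -/
def utv (σ : RingAut F) (v : Fin n → F) (c : F) (hv : (fun i => σ (v i)) ⬝ᵥ v = 0) : SLn n F :=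
  tvSL (c • v) (fun i => σ (v i)) (utv_dot σ v c hv)

theorem utv_val (σ : RingAut F) (v : Fin n → F) (c : F) (hv : (fun i => σ (v i)) ⬝ᵥ v = 0) :
    (utv σ v c hv).val = tv (c • v) (fun i => σ (v i)) := rfl

theorem utv_isU (σ : RingAut F) (hσσ : ∀ t, σ (σ t) = t) (v : Fin n → F) (c : F)
    (hv : (fun i => σ (v i)) ⬝ᵥ v = 0) (hc : c + σ c = 0) : IsU σ (utv σ v c hv) := by
  unfold IsU
  rw [utv_val]
  have e : (tv (c • v) (fun i => σ (v i))).map σ =
      tv (fun i => (σ : F →+* F) ((c • v) i)) (fun i => (σ : F →+* F) (σ (v i))) :=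
    tv_map (σ : F →+* F) _ _
  rw [e, tv_transpose, Matrix.ext_iff_mulVec]
  intro x
  rw [← Matrix.mulVec_mulVec, tv_mulVec, tv_mulVec, Matrix.one_mulVec, dotProduct_add,
    dotProduct_smul]
  have h1 : (fun i => σ (v i)) ⬝ᵥ (fun i => (σ : F →+* F) (σ (v i))) = 0 := by
    have : (fun i => (σ : F →+* F) (σ (v i))) = v := by
      funext i
      exact hσσ (v i)
    rw [this, hv]
  rw [h1, smul_zero, add_zero]
  have h2 : (fun i => (σ : F →+* F) ((c • v) i)) ⬝ᵥ x = σ c * ((fun i => σ (v i)) ⬝ᵥ x) := by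
    rw [dotProduct, dotProduct, Finset.mul_sum]
    apply Finset.sum_congr rfl
    intro i _
    simp only [Pi.smul_apply, smul_eq_mul, RingHom.coe_coe, map_mul]
    ring
  rw [h2]
  have h3 : (fun i => (σ : F →+* F) (σ (v i))) = v := by
    funext i
    exact hσσ (v i)
  rw [h3, smul_smul, add_assoc, ← add_smul]
  have : σ c * ((fun i => σ (v i)) ⬝ᵥ x) + ((fun i => σ (v i)) ⬝ᵥ x) * c = 0 := by
    linear_combination ((fun i => σ (v i)) ⬝ᵥ x) * hc
  rw [this, zero_smul, add_zero]

/-! ### semilinear maps normalising the unitary group -/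

section cent

variable [Fintype F] (σ : RingAut F) (hσ2 : σ ^ 2 = 1) (hσ1 : σ ≠ 1)

omit [Fintype F] in
include hσ2 hσ1 in
theorem exists_skew : ∃ c : F, c ≠ 0 ∧ c + σ c = 0 := by
  have hσσ := aut_sq_apply σ hσ2
  obtain ⟨a, ha⟩ : ∃ a : F, σ a ≠ a := by
    by_contra hcon
    push Not at hcon
    exact hσ1 (RingEquiv.ext hcon)
  refine ⟨a - σ a, sub_ne_zero.2 (Ne.symm ha), ?_⟩
  rw [map_sub, hσσ]
  ring

include hσ2 hσ1 in
/-- the norm is surjective onto the fixed field (including zero) -/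
theorem exists_norm (c : F) (hc : σ c = c) : ∃ μ : F, μ * σ μ = c := by
  by_cases hc0 : c = 0
  · exact ⟨0, by rw [zero_mul, hc0]⟩
  · have hinj : ∀ i j, i < 2 → j < 2 → σ ^ i = σ ^ j → i = j := by
      intro i j hi hj hij
      interval_cases i <;> interval_cases j
      · rfl
      · rw [pow_zero, pow_one] at hij; exact absurd hij.symm hσ1
      · rw [pow_zero, pow_one] at hij; exact absurd hij hσ1
      · rfl
    obtain ⟨μ, -, hμ⟩ := norm_surj σ 2 (by norm_num) hσ2 hinj c hc0 hc
    rw [fnorm_two] at hμ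
    exact ⟨μ, hμ⟩

end cent

/-! ### vectors with few nonzero coordinates -/

/-- the vector `e_i + a e_j + b e_k` -/
def vec3 (i j k : Fin n) (a b : F) : Fin n → F :=
  Pi.single i 1 + a • Pi.single j 1 + b • Pi.single k 1

theorem vec3_map (τ : F →+* F) (i j k : Fin n) (a b : F) :
    (fun l => τ (vec3 i j k a b l)) = vec3 i j k (τ a) (τ b) := by
  funext l
  unfold vec3
  simp only [Pi.add_apply, Pi.smul_apply, smul_eq_mul, map_add, map_mul, Pi.single_apply]
  split_ifs <;> simp

theorem vec3_dot (i j k : Fin n) (hij : i ≠ j) (hik : i ≠ k) (hjk : j ≠ k) (a b a' b' : F) :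
    vec3 i j k a b ⬝ᵥ vec3 i j k a' b' = 1 + a * a' + b * b' := by
  unfold vec3
  simp only [add_dotProduct, dotProduct_add, smul_dotProduct, dotProduct_smul, single_dotProduct,
    Pi.single_apply, smul_eq_mul]
  simp only [if_pos, if_neg hij, if_neg hij.symm, if_neg hik, if_neg hik.symm, if_neg hjk,
    if_neg hjk.symm]
  ring

theorem vec3_ne_zero (i j k : Fin n) (hij : i ≠ j) (hik : i ≠ k) (a b : F) :
    vec3 i j k a b ≠ 0 := by
  intro h
  have := congrFun h i
  unfold vec3 at this
  simp only [Pi.add_apply, Pi.smul_apply, smul_eq_mul, Pi.single_eq_same,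
    Pi.single_eq_of_ne hij, Pi.single_eq_of_ne hik, mul_zero, add_zero, Pi.zero_apply] at this
  exact one_ne_zero this

theorem mulVec_vec3 (h : Matrix (Fin n) (Fin n) F) (i j k : Fin n) (a b : F) (l : Fin n) :
    (h *ᵥ vec3 i j k a b) l = h l i + a * h l j + b * h l k := by
  unfold vec3
  rw [Matrix.mulVec_add, Matrix.mulVec_add, Matrix.mulVec_smul, Matrix.mulVec_smul,
    Matrix.mulVec_single_one, Matrix.mulVec_single_one, Matrix.mulVec_single_one]
  simp only [Pi.add_apply, Pi.smul_apply, smul_eq_mul, Matrix.col_apply]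

theorem vec3_apply_fst (i j k : Fin n) (hij : i ≠ j) (hik : i ≠ k) (a b : F) :
    vec3 i j k a b i = 1 := by
  unfold vec3
  simp only [Pi.add_apply, Pi.smul_apply, smul_eq_mul, Pi.single_eq_same,
    Pi.single_eq_of_ne hij, Pi.single_eq_of_ne hik, mul_zero, add_zero]

theorem vec3_apply_snd (i j k : Fin n) (hij : i ≠ j) (hjk : j ≠ k) (a b : F) :
    vec3 i j k a b j = a := by
  unfold vec3
  simp only [Pi.add_apply, Pi.smul_apply, smul_eq_mul, Pi.single_eq_same,
    Pi.single_eq_of_ne hij.symm, Pi.single_eq_of_ne hjk, mul_zero, add_zero, zero_add, mul_one]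

theorem vec3_apply_other (i j k l : Fin n) (hli : l ≠ i) (hlj : l ≠ j) (hlk : l ≠ k) (a b : F) :
    vec3 i j k a b l = 0 := by
  unfold vec3
  simp only [Pi.add_apply, Pi.smul_apply, smul_eq_mul, Pi.single_eq_of_ne hli,
    Pi.single_eq_of_ne hlj, Pi.single_eq_of_ne hlk, mul_zero, add_zero]

section cent

variable [Fintype F] (σ : RingAut F) (hσ2 : σ ^ 2 = 1) (hσ1 : σ ≠ 1)

include hσ2 hσ1 in
/-- a semilinear map normalising the unitary group preserves the isotropic lines -/
theorem iso_line (hn : 3 ≤ n) (h : Matrix (Fin n) (Fin n) F) (hh : IsUnit h) (τ : F →+* F)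
    (H : ∀ s : SLn n F, IsU σ s → ∃ ζ : F, h * s.val.map τ = ζ • (s.val * h))
    (v : Fin n → F) (hv0 : v ≠ 0) (hv : (fun i => σ (v i)) ⬝ᵥ v = 0) :
    ∃ d : F, h *ᵥ (fun i => τ (v i)) = d • v := by
  have hσσ := aut_sq_apply σ hσ2
  obtain ⟨c, hc0, hc⟩ := exists_skew σ hσ2 hσ1
  obtain ⟨ζ, hζ⟩ := H (utv σ v c hv) (utv_isU σ hσσ v c hv hc)
  rw [utv_val, tv_map] at hζ
  have hne : (fun i => τ (σ (v i))) ≠ 0 := by
    intro h0
    apply hv0
    funext i
    have := congrFun h0 i
    rw [Pi.zero_apply, map_eq_zero, map_eq_zero] at this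
    exact this
  obtain ⟨d, hd⟩ := tv_center hn h hh _ _ _ _ hne ζ hζ
  have e : (fun i => τ ((c • v) i)) = τ c • (fun i => τ (v i)) := by
    funext i
    simp only [Pi.smul_apply, smul_eq_mul, map_mul]
  rw [e, Matrix.mulVec_smul] at hd
  have hτc : τ c ≠ 0 := (map_ne_zero τ).2 hc0
  refine ⟨(τ c)⁻¹ * (d * c), ?_⟩
  rw [← smul_smul, ← smul_smul, ← hd, smul_smul, inv_mul_cancel₀ hτc, one_smul]

include hσ2 hσ1 in
/-- **the centraliser of the unitary group**: a semilinear map normalising `SU_n(F, σ)` up to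
scalars is a scalar with trivial field automorphism -/
theorem centU_matrix (h2 : (2 : F) ≠ 0) (hn : 3 ≤ n) (h : Matrix (Fin n) (Fin n) F)
    (hh : IsUnit h) (τ : F →+* F)
    (H : ∀ s : SLn n F, IsU σ s → ∃ ζ : F, h * s.val.map τ = ζ • (s.val * h)) :
    (∀ t : F, τ t = t) ∧ ∃ c : F, h = c • (1 : Matrix (Fin n) (Fin n) F) := by
  have hσσ := aut_sq_apply σ hσ2
  have hinj := (Matrix.mulVec_injective_iff_isUnit).2 hh
  have hline := iso_line σ hσ2 hσ1 hn h hh τ H
  -- the relation for the isotropic vector `e_i + a e_j + b e_k`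
  have hrel : ∀ (i j k : Fin n) (hij : i ≠ j) (hik : i ≠ k) (hjk : j ≠ k) (a b : F),
      1 + σ a * a + σ b * b = 0 → ∃ d : F, ∀ l : Fin n,
        h l i + τ a * h l j + τ b * h l k = d * vec3 i j k a b l := by
    intro i j k hij hik hjk a b hab
    have hiso : (fun l => σ (vec3 i j k a b l)) ⬝ᵥ vec3 i j k a b = 0 := by
      have := vec3_map (σ : F →+* F) i j k a b
      rw [show (fun l => σ (vec3 i j k a b l)) = vec3 i j k (σ a) (σ b) from this,
        vec3_dot i j k hij hik hjk]
      exact hab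
    obtain ⟨d, hd⟩ := hline (vec3 i j k a b) (vec3_ne_zero i j k hij hik a b) hiso
    rw [vec3_map] at hd
    refine ⟨d, fun l => ?_⟩
    have := congrFun hd l
    rw [mulVec_vec3, Pi.smul_apply, smul_eq_mul] at this
    exact this
  obtain ⟨lam, hlam⟩ := exists_norm σ hσ2 hσ1 (-1) (by rw [map_neg, map_one])
  -- `h` is diagonal
  have hdiag : ∀ i l : Fin n, l ≠ i → h l i = 0 := by
    intro i l hli
    obtain ⟨j, hji, hjl⟩ := Cfsg.Agent.S0249.exists_third hn i l
    have hik : i ≠ l := Ne.symm hli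
    obtain ⟨d1, hd1⟩ := hrel i j l (Ne.symm hji) hik hjl lam 0 (by
      rw [map_zero, zero_mul, add_zero]
      linear_combination hlam)
    obtain ⟨d2, hd2⟩ := hrel i j l (Ne.symm hji) hik hjl (-lam) 0 (by
      rw [map_zero, zero_mul, add_zero, map_neg]
      linear_combination hlam)
    -- evaluate at a further coordinate? no: at `l` itself, where the vector vanishes
    have e1 := hd1 l
    have e2 := hd2 l
    have hv1 : vec3 i j l lam 0 l = 0 := by
      unfold vec3
      simp only [Pi.add_apply, Pi.smul_apply, smul_eq_mul, Pi.single_eq_of_ne hli,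
        Pi.single_eq_of_ne (Ne.symm hjl), mul_zero, add_zero, zero_mul]
    have hv2 : vec3 i j l (-lam) 0 l = 0 := by
      unfold vec3
      simp only [Pi.add_apply, Pi.smul_apply, smul_eq_mul, Pi.single_eq_of_ne hli,
        Pi.single_eq_of_ne (Ne.symm hjl), mul_zero, add_zero, zero_mul]
    rw [hv1, mul_zero, map_zero, zero_mul, add_zero] at e1
    rw [hv2, mul_zero, map_zero, zero_mul, add_zero, map_neg] at e2
    have : (2 : F) * h l i = 0 := by linear_combination e1 + e2
    rcases mul_eq_zero.1 this with h' | h'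
    · exact absurd h' h2
    · exact h'
  -- the diagonal entries agree and `τ` is trivial
  have hkey : ∀ (i j : Fin n), i ≠ j → ∀ a : F, τ a * h j j = h i i * a := by
    intro i j hij a
    obtain ⟨k, hki, hkj⟩ := Cfsg.Agent.S0249.exists_third hn i j
    obtain ⟨b, hb⟩ := exists_norm σ hσ2 hσ1 (-1 - σ a * a) (by
      rw [map_sub, map_neg, map_one, map_mul, hσσ]
      ring)
    obtain ⟨d, hd⟩ := hrel i j k hij (Ne.symm hki) (Ne.symm hkj) a b (by
      linear_combination hb + (σ b * b - b * σ b))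
    have e1 := hd i
    have e2 := hd j
    rw [vec3_apply_fst i j k hij (Ne.symm hki), hdiag j i hij, hdiag k i (Ne.symm hki), mul_zero,
      mul_zero, add_zero, add_zero, mul_one] at e1
    rw [vec3_apply_snd i j k hij (Ne.symm hkj), hdiag i j (Ne.symm hij), hdiag k j (Ne.symm hkj),
      mul_zero, add_zero, zero_add] at e2
    rw [e2, e1]
  have hother : ∀ i : Fin n, ∃ j : Fin n, i ≠ j := by
    intro i
    obtain ⟨k, hki, -⟩ := Cfsg.Agent.S0249.exists_third hn i i
    exact ⟨k, Ne.symm hki⟩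
  have hceq : ∀ i j : Fin n, h i i = h j j := by
    intro i j
    by_cases hij : i = j
    · rw [hij]
    · have := hkey i j hij 1
      rw [map_one, one_mul, mul_one] at this
      exact this.symm
  have hc0 : ∀ i : Fin n, h i i ≠ 0 := by
    intro i h0
    have h1 : h *ᵥ Pi.single i 1 = 0 := by
      funext l
      rw [Matrix.mulVec_single_one, Matrix.col_apply, Pi.zero_apply]
      by_cases hli : l = i
      · rw [hli, h0]
      · exact hdiag i l hli
    have h3 : (Pi.single i 1 : Fin n → F) = 0 := hinj (by rw [h1, Matrix.mulVec_zero])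
    have := congrFun h3 i
    rw [Pi.single_eq_same, Pi.zero_apply] at this
    exact one_ne_zero this
  constructor
  · intro t
    obtain ⟨j, hij⟩ := hother (⟨0, by omega⟩ : Fin n)
    have := hkey _ j hij t
    rw [hceq ⟨0, by omega⟩ j, mul_comm] at this
    exact mul_left_cancel₀ (hc0 j) this
  · refine ⟨h ⟨0, by omega⟩ ⟨0, by omega⟩, ?_⟩
    ext i j
    rw [Matrix.smul_apply, Matrix.one_apply, smul_eq_mul]
    by_cases hij : i = j
    · rw [if_pos hij, mul_one, hij]
      exact hceq j _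
    · rw [if_neg hij, mul_zero]
      exact hdiag j i hij

end cent

end Cfsg.Agent.Lib.Helper8.BalL
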