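import Cfsg.Agent.S1324

/-!
# Odd-order normal subgroups and a Klein four-group: the abstract argument (helper8)

`odd_comm`: an element with a central odd power that commutes with an involution modulo the
centre commutes with it.  `core_of_sign_group`: a subgroup `N`, of odd order modulo the centre,
normalised by an elementary abelian `2`-group `E` of rank at least two modulo the centre, is
central as soon as its elements that commute with one of `e₁`, `e₂`, `e₁ e₂` for all
`e₁ e₂ ∈ E` are central (generation by centralisers of hyperplanes, `S1324`).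
-/

set_option autoImplicit false

namespace Cfsg.Agent.Lib.Helper8.BalL

theorem conj_pow_central {G : Type*} [Group G] (g e c : G)
    (hc : c ∈ Subgroup.center G) (h : g * e * g⁻¹ = c * e) (m : ℕ) :
    g ^ m * e * (g ^ m)⁻¹ = c ^ m * e := by
  induction m with
  | zero => simp
  | succ m ih =>
    have hcm : ∀ x : G, c * x = x * c := fun x => (Subgroup.mem_center_iff.1 hc x).symm
    calc g ^ (m + 1) * e * (g ^ (m + 1))⁻¹ = g * (g ^ m * e * (g ^ m)⁻¹) * g⁻¹ := by
          rw [pow_succ']; group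
      _ = g * (c ^ m * e) * g⁻¹ := by rw [ih]
      _ = c ^ m * (g * e * g⁻¹) := by
          have hcm' : ∀ x : G, c ^ m * x = x * c ^ m := fun x =>
            (Subgroup.mem_center_iff.1 (Subgroup.pow_mem _ hc m) x).symm
          calc g * (c ^ m * e) * g⁻¹ = (g * c ^ m) * e * g⁻¹ := by simp only [mul_assoc]
            _ = (c ^ m * g) * e * g⁻¹ := by rw [hcm' g]
            _ = c ^ m * (g * e * g⁻¹) := by simp only [mul_assoc]
      _ = c ^ m * (c * e) := by rw [h]
      _ = c ^ (m + 1) * e := by rw [pow_succ, mul_assoc]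

/-- the odd trick -/
theorem odd_comm {G : Type*} [Group G] (g e : G) (he : e * e = 1)
    (hc : g * e * g⁻¹ * e⁻¹ ∈ Subgroup.center G) (k : ℕ) (hk : Odd k)
    (hg : g ^ k ∈ Subgroup.center G) : g * e = e * g := by
  set c := g * e * g⁻¹ * e⁻¹ with hcdef
  have h1 : g * e * g⁻¹ = c * e := by rw [hcdef]; group
  have hcm : ∀ x : G, c * x = x * c := fun x => (Subgroup.mem_center_iff.1 hc x).symm
  -- `c² = 1`
  have hc2 : c * c = 1 := by
    have : (c * e) * (c * e) = 1 := by
      rw [← h1]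
      calc g * e * g⁻¹ * (g * e * g⁻¹) = g * (e * e) * g⁻¹ := by group
        _ = 1 := by rw [he]; group
    calc c * c = c * c * (e * e) := by rw [he, mul_one]
      _ = (c * e) * (c * e) := by
          rw [mul_assoc c e, ← mul_assoc e c e, ← hcm e]
          simp only [mul_assoc]
      _ = 1 := this
  -- `c ^ k = 1`
  have hck : c ^ k = 1 := by
    have h2 := conj_pow_central g e c hc h1 k
    have h3 : g ^ k * e * (g ^ k)⁻¹ = e := by
      rw [← (Subgroup.mem_center_iff.1 hg e)]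
      group
    rw [h3] at h2
    have : c ^ k * e = 1 * e := by rw [one_mul]; exact h2.symm
    exact mul_right_cancel this
  obtain ⟨s, rfl⟩ := hk
  have hc1 : c = 1 := by
    have : c ^ (2 * s + 1) = c := by
      rw [pow_succ, pow_mul, pow_two, hc2, one_pow, one_mul]
    rw [this] at hck
    exact hck
  rw [hc1, one_mul] at h1
  calc g * e = g * e * g⁻¹ * g := by group
    _ = e * g := by rw [h1]

/-- **the sign group argument**: `N`, of odd order modulo the centre, is normalised by an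
elementary abelian `2`-group `E` of rank at least two modulo the centre; if every element of `N`
commuting with a "hyperplane" `B'` of `E` is central, then `N` is central -/
theorem core_of_sign_group' {G : Type*} [Group G] [Finite G] (N E : Subgroup G)
    (hE2 : ∀ e ∈ E, e * e = 1) (hEc : ∀ e₁ ∈ E, ∀ e₂ ∈ E, e₁ * e₂ = e₂ * e₁)
    (hEN : ∀ e ∈ E, ∀ g ∈ N, e * g * e⁻¹ ∈ N)
    (hodd : ∀ g ∈ N, ∃ k, Odd k ∧ g ^ k ∈ Subgroup.center G)
    (hbig : ∃ e₁ ∈ E, ∃ e₂ ∈ E, e₁ ∉ Subgroup.center G ∧ e₂ ∉ Subgroup.center G ∧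
      e₁ * e₂ ∉ Subgroup.center G)
    (key : ∀ g ∈ N, ∀ B' : Subgroup G, B' ≤ E →
      (∀ e₁ ∈ E, ∀ e₂ ∈ E, e₁ ∈ B' ∨ e₂ ∈ B' ∨ e₁ * e₂ ∈ B') →
      (∀ e ∈ B', g * e = e * g) → g ∈ Subgroup.center G) :
    N ≤ Subgroup.center G := by
  classical
  let π : G →* G ⧸ Subgroup.center G := QuotientGroup.mk' (Subgroup.center G)
  have hπ1 : ∀ g : G, π g = 1 ↔ g ∈ Subgroup.center G := fun g =>
    QuotientGroup.eq_one_iff g
  set A : Subgroup (G ⧸ Subgroup.center G) := E.map π with hAdef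
  set X : Subgroup (G ⧸ Subgroup.center G) := N.map π with hXdef
  have : Fact (Nat.Prime 2) := ⟨Nat.prime_two⟩
  -- `A` is elementary abelian
  have hA : Cfsg.IsElementaryAbelian 2 A := by
    refine ⟨⟨⟨?_⟩⟩, ?_⟩
    · rintro ⟨_, e₁, he₁, rfl⟩ ⟨_, e₂, he₂, rfl⟩
      apply Subtype.ext
      show π e₁ * π e₂ = π e₂ * π e₁
      rw [← map_mul, ← map_mul, hEc e₁ he₁ e₂ he₂]
    · rintro _ ⟨e, he, rfl⟩
      rw [← map_pow, pow_two, hE2 e he, map_one]
  -- `A` has at least four elements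
  have hA2 : 2 ^ 2 ≤ Nat.card ↥A := by
    obtain ⟨e₁, he₁, e₂, he₂, h1, h2, h12⟩ := hbig
    have hm1 : π e₁ ∈ A := ⟨e₁, he₁, rfl⟩
    have hm2 : π e₂ ∈ A := ⟨e₂, he₂, rfl⟩
    have hz : Subgroup.zpowers (π e₁) ≤ A := by
      rw [Subgroup.zpowers_le]; exact hm1
    have hord : orderOf (π e₁) = 2 := by
      apply orderOf_eq_prime
      · rw [← map_pow, pow_two, hE2 e₁ he₁, map_one]
      · rw [Ne, hπ1]; exact h1
    have hcz : Nat.card ↥(Subgroup.zpowers (π e₁)) = 2 := by
      rw [Nat.card_zpowers, hord]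
    have hnot : π e₂ ∉ Subgroup.zpowers (π e₁) := by
      intro hmem
      rw [Subgroup.mem_zpowers_iff] at hmem
      obtain ⟨k, hk⟩ := hmem
      rcases Int.even_or_odd k with ⟨m, rfl⟩ | ⟨m, rfl⟩
      · have : π e₁ ^ (m + m) = 1 := by
          rw [← two_mul, zpow_mul, zpow_two, ← map_mul, hE2 e₁ he₁, map_one, one_zpow]
        rw [this] at hk
        exact h2 ((hπ1 e₂).1 hk.symm)
      · have : π e₁ ^ (2 * m + 1) = π e₁ := by
          rw [zpow_add, zpow_mul, zpow_two, ← map_mul, hE2 e₁ he₁, map_one, one_zpow, one_mul,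
            zpow_one]
        rw [this] at hk
        apply h12
        rw [← hπ1, map_mul, ← hk, ← map_mul, hE2 e₁ he₁, map_one]
    have hlt : Subgroup.zpowers (π e₁) < A := by
      refine lt_of_le_of_ne hz ?_
      intro h
      rw [h] at hnot
      exact hnot hm2
    have hdvd : Nat.card ↥(Subgroup.zpowers (π e₁)) ∣ Nat.card ↥A := Subgroup.card_dvd_of_le hz
    have hne : Nat.card ↥(Subgroup.zpowers (π e₁)) ≠ Nat.card ↥A := by
      intro h
      exact hlt.ne (Subgroup.eq_of_le_of_card_ge hz h.ge)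
    rw [hcz] at hdvd hne
    obtain ⟨m, hm⟩ := hdvd
    have hpos : 0 < Nat.card ↥A := Nat.card_pos
    rcases m with _ | _ | m
    · omega
    · omega
    · omega
  -- `X` has odd order
  have hX : ¬ 2 ∣ Nat.card ↥X := by
    intro hdvd
    obtain ⟨x, hx⟩ := exists_prime_orderOf_dvd_card' 2 hdvd
    obtain ⟨_, g, hg, rfl⟩ := x
    have hx' : orderOf (π g) = 2 := by
      rw [← hx]
      exact (Subgroup.orderOf_mk (π g) _).symm
    obtain ⟨k, hk, hgk⟩ := hodd g hg
    have : π g ^ k = 1 := by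
      rw [← map_pow, hπ1]; exact hgk
    have hdv : 2 ∣ k := by
      rw [← hx']; exact orderOf_dvd_of_pow_eq_one this
    obtain ⟨s, rfl⟩ := hk
    omega
  -- `A` normalises `X`
  have hAX : A ≤ Subgroup.normalizer (X : Set (G ⧸ Subgroup.center G)) := by
    rintro _ ⟨e, he, rfl⟩
    rw [Subgroup.mem_normalizer_iff]
    intro y
    constructor
    · rintro ⟨g, hg, rfl⟩
      exact ⟨e * g * e⁻¹, hEN e he g hg, by simp [map_mul, map_inv]⟩
    · rintro ⟨g, hg, hgy⟩
      have hgN : g ∈ N := hg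
      refine ⟨e⁻¹ * g * e, ?_, ?_⟩
      · have := hEN e⁻¹ (E.inv_mem he) g hgN
        rwa [inv_inv] at this
      · rw [map_mul, map_mul, map_inv, hgy]
        group
  have hgen := Cfsg.Agent.S1324.result 2 A X hA hA2 hX hAX
  -- every piece is trivial
  have hX1 : X = ⊥ := by
    rw [hgen, eq_bot_iff]
    apply iSup_le
    rintro ⟨B, hBA, hBi⟩ x ⟨hxX, hxB⟩
    obtain ⟨g, hg, rfl⟩ := hxX
    rw [Subgroup.mem_bot, hπ1]
    -- exact commutation with the elements of `E` over `B`
    have hcomm_of : ∀ e ∈ E, π e ∈ B → g * e = e * g := by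
      intro e he heB
      obtain ⟨k, hk, hgk⟩ := hodd g hg
      apply odd_comm g e (hE2 e he) ?_ k hk hgk
      rw [← hπ1]
      have h1 : π e * π g = π g * π e := Subgroup.mem_centralizer_iff.1 hxB (π e) heB
      rw [map_mul, map_mul, map_mul, map_inv, map_inv, ← h1]
      group
    apply key g hg (E ⊓ B.comap π) inf_le_left
    · intro e₁ he₁ e₂ he₂
      have hm1 : π e₁ ∈ A := ⟨e₁, he₁, rfl⟩
      have hm2 : π e₂ ∈ A := ⟨e₂, he₂, rfl⟩
      by_cases hb1 : π e₁ ∈ B
      · exact Or.inl ⟨he₁, hb1⟩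
      by_cases hb2 : π e₂ ∈ B
      · exact Or.inr (Or.inl ⟨he₂, hb2⟩)
      right; right
      refine ⟨E.mul_mem he₁ he₂, ?_⟩
      -- index two
      have hidx : (B.subgroupOf A).index ≤ 2 := hBi
      have hne0 : (B.subgroupOf A).index ≠ 0 := Subgroup.index_ne_zero_of_finite
      have hne1 : (B.subgroupOf A).index ≠ 1 := by
        intro h1
        rw [Subgroup.index_eq_one] at h1
        have : (⟨π e₁, hm1⟩ : ↥A) ∈ B.subgroupOf A := by rw [h1]; trivial
        exact hb1 (Subgroup.mem_subgroupOf.1 this)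
      have h2 : (B.subgroupOf A).index = 2 := by omega
      have := (Subgroup.mul_mem_iff_of_index_two h2 (a := (⟨π e₁, hm1⟩ : ↥A))
        (b := (⟨π e₂, hm2⟩ : ↥A))).2
        ⟨fun h => absurd (Subgroup.mem_subgroupOf.1 h) hb1,
          fun h => absurd (Subgroup.mem_subgroupOf.1 h) hb2⟩
      have h3 := Subgroup.mem_subgroupOf.1 this
      show π (e₁ * e₂) ∈ B
      rw [map_mul]
      exact h3
    · intro e he
      exact hcomm_of e he.1 he.2
  intro g hg
  rw [← hπ1]
  have : π g ∈ X := ⟨g, hg, rfl⟩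
  rw [hX1, Subgroup.mem_bot] at this
  exact this

/-- **the Klein four-group argument**, in the form used for the sign group of determinant one -/
theorem core_of_sign_group {G : Type*} [Group G] [Finite G] (N E : Subgroup G)
    (hE2 : ∀ e ∈ E, e * e = 1) (hEc : ∀ e₁ ∈ E, ∀ e₂ ∈ E, e₁ * e₂ = e₂ * e₁)
    (hEN : ∀ e ∈ E, ∀ g ∈ N, e * g * e⁻¹ ∈ N)
    (hodd : ∀ g ∈ N, ∃ k, Odd k ∧ g ^ k ∈ Subgroup.center G)
    (hbig : ∃ e₁ ∈ E, ∃ e₂ ∈ E, e₁ ∉ Subgroup.center G ∧ e₂ ∉ Subgroup.center G ∧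
      e₁ * e₂ ∉ Subgroup.center G)
    (key : ∀ g ∈ N, (∀ e₁ ∈ E, ∀ e₂ ∈ E,
      g * e₁ = e₁ * g ∨ g * e₂ = e₂ * g ∨ g * (e₁ * e₂) = (e₁ * e₂) * g) →
      g ∈ Subgroup.center G) :
    N ≤ Subgroup.center G := by
  apply core_of_sign_group' N E hE2 hEc hEN hodd hbig
  intro g hg B' _ htri hcomm
  apply key g hg
  intro e₁ he₁ e₂ he₂
  rcases htri e₁ he₁ e₂ he₂ with h | h | h
  · exact Or.inl (hcomm _ h)
  · exact Or.inr (Or.inl (hcomm _ h))
  · exact Or.inr (Or.inr (hcomm _ h))

end Cfsg.Agent.Lib.Helper8.BalL
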