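import Cfsg.Agent.Lib.Helper8.Bal.Abstract

/-!
# Local balance, the abstract argument with the core condition given directly (helper8)

A variant of `core_trivial_abstract`: instead of a dichotomy for the normal subgroups of `S`, the
hypothesis `B1` says directly that `W` meets the image of `S` trivially.
-/

set_option autoImplicit false

namespace Cfsg.Agent.Lib.Helper8.BalL

open Cfsg Cfsg.Agent.Lib.Helper8.AutSp

theorem core_trivial_of_meet {K : Type*} [Group K] {S : Type*} [Group S]
    {p : ℕ} [Fact p.Prime]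
    (φ : MulAut K) (j : S →* K)
    (hjfix : ∀ s : S, φ (j s) = j s)
    (hjnorm : ∀ k : K, φ k = k → ∀ s : S, ∃ s' : S, j s' = k * j s * k⁻¹)
    (hcent : ∀ k : K, (∀ s : S, k * j s * k⁻¹ = j s) → k = 1)
    (W : Subgroup (MulAut K))
    (hWcop : (Nat.card ↥W).Coprime p)
    (hWcent : ∀ w ∈ W, w * φ = φ * w)
    (hWnorm : ∀ k : K, φ k = k → ∀ w ∈ W, MulAut.conj k * w * (MulAut.conj k)⁻¹ ∈ W)
    (B1 : ∀ s : S, MulAut.conj (j s) ∈ W → j s = 1)
    (hpow : ∀ w ∈ W, (∀ s : S, w (j s) = j s) → w ^ p = 1) :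
    W = ⊥ := by
  classical
  have hp : p.Prime := Fact.out
  -- no element of order `p` in `W`
  have hnoP : ∀ w ∈ W, orderOf w ≠ p := by
    intro w hw hord
    have h1 : orderOf (⟨w, hw⟩ : ↥W) = p := by
      rw [← hord]
      exact Subgroup.orderOf_mk w hw
    have h2 : p ∣ Nat.card ↥W := by
      rw [← h1]
      exact orderOf_dvd_natCard _
    have := Nat.eq_one_of_dvd_coprimes hWcop h2 dvd_rfl
    exact hp.one_lt.ne' this
  have B2 : ∀ k : K, φ k = k → MulAut.conj k ∈ W → k = 1 := by
    intro k hk hkW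
    apply hcent
    intro s
    obtain ⟨s', hs'⟩ := hjnorm k hk s
    have h1 : MulAut.conj (j (s' * s⁻¹)) ∈ W := by
      have e : MulAut.conj (j (s' * s⁻¹)) =
          MulAut.conj k * (MulAut.conj (j s) * (MulAut.conj k)⁻¹ *
            (MulAut.conj (j s))⁻¹) := by
        rw [map_mul, hs', map_inv]
        simp only [map_mul, map_inv]
        group
      rw [e]
      exact W.mul_mem hkW (hWnorm _ (hjfix s) _ (W.inv_mem hkW))
    have h2 := B1 _ h1
    rw [map_mul, hs', map_inv, mul_inv_eq_one] at h2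
    exact h2
  have B3 : ∀ w ∈ W, ∀ k : K, φ k = k → w k = k := by
    intro w hw k hk
    have hwk : φ (w k) = w k := by
      have := DFunLike.congr_fun (hWcent w hw) k
      rw [MulAut.mul_apply, MulAut.mul_apply, hk] at this
      exact this.symm
    have h1 : MulAut.conj (w k * k⁻¹) ∈ W := by
      have e : MulAut.conj (w k * k⁻¹) =
          w * (MulAut.conj k * w⁻¹ * (MulAut.conj k)⁻¹) := by
        rw [map_mul, ← aut_mul_conj_mul_inv, map_inv]
        group
      rw [e]
      exact W.mul_mem hw (hWnorm k hk _ (W.inv_mem hw))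
    have h2 := B2 (w k * k⁻¹) (by rw [map_mul, map_inv, hwk, hk]) h1
    rwa [mul_inv_eq_one] at h2
  rw [eq_bot_iff]
  intro w hw
  rw [Subgroup.mem_bot]
  have hwp : w ^ p = 1 := hpow w hw (fun s => B3 w hw _ (hjfix s))
  have hord : orderOf w ∣ p := orderOf_dvd_of_pow_eq_one hwp
  rcases (Nat.dvd_prime hp).1 hord with h1 | h1
  · exact orderOf_eq_one_iff.1 h1
  · exact absurd h1 (hnoP w hw)

end Cfsg.Agent.Lib.Helper8.BalL
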