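import Cfsg.Agent.Lib.Helper8.BalL.CentC

/-!
# The centraliser of the special orthogonal group over a subfield in the semilinear group (helper8)

The relative version of `centO_matrix`: the orthogonal group `SO(a)` lives over a subfield
`ι : F₀ →+* F`, the matrix `h` and the field automorphism `τ` over `F`.  If `h τ(ι s) h⁻¹` is a
scalar multiple of `ι s` for every `s ∈ SO(a)` then `τ` is trivial on `F₀` and `h` is scalar.
-/

set_option autoImplicit false

namespace Cfsg.Agent.Lib.Helper8.BalL

open Matrix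

variable {F₀ : Type*} {F : Type*} [Field F₀] [Field F] {n : ℕ}

/-- the base change of invertible matrices -/
noncomputable abbrev mapG (ι : F₀ →+* F) : GL (Fin n) F₀ →* GL (Fin n) F :=
  Matrix.GeneralLinearGroup.map ι

theorem mapG_val (ι : F₀ →+* F) (s : GL (Fin n) F₀) : (mapG ι s).val = s.val.map ι := rfl

theorem sgM_map_hom (ι : F₀ →+* F) (i j : Fin n) : (sgM (F := F₀) i j).map ι = sgM i j := by
  unfold sgM
  rw [Matrix.diagonal_map (map_zero ι)]
  congr 1
  funext u
  show ι (if u = i ∨ u = j then -1 else 1) = _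
  split_ifs
  · rw [map_neg, map_one]
  · rw [map_one]

theorem mapG_sg (ι : F₀ →+* F) (i j : Fin n) : mapG ι (sg (F := F₀) i j) = sg i j := by
  apply Units.ext
  rw [mapG_val, sg_val, sg_val]
  exact sgM_map_hom ι i j

theorem two_ne_zero_map (ι : F₀ →+* F) (h2 : (2 : F₀) ≠ 0) : (2 : F) ≠ 0 := by
  have := (map_ne_zero ι).2 h2
  rwa [map_ofNat] at this

section cent

variable (ι : F₀ →+* F) (h2 : (2 : F₀) ≠ 0) (hn : 3 ≤ n) (a : Fin n → F₀) (ha : ∀ i, a i ≠ 0)
  (h : GL (Fin n) F) (τ : F ≃+* F)
  (H : ∀ s ∈ SOa a, ∃ ζ : F, h.val * (s.val.map ι).map τ = ζ • (s.val.map ι * h.val))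

include H in
/-- for an element with entries fixed by `τ`, the commutator with `h` is central -/
theorem qc_center_rel (s : GL (Fin n) F₀) (hs : s ∈ SOa a)
    (hfix : (s.val.map ι).map τ = s.val.map ι) :
    h * mapG ι s * h⁻¹ * (mapG ι s)⁻¹ ∈ Subgroup.center (GL (Fin n) F) := by
  obtain ⟨ζ, hζ⟩ := H s hs
  rw [hfix] at hζ
  rw [Matrix.GeneralLinearGroup.mem_center_iff_val_mem_range_scalar]
  refine ⟨ζ, ?_⟩
  rw [Units.val_mul, Units.val_mul, Units.val_mul, mapG_val, hζ]
  have h1 : h.val * h⁻¹.val = 1 := by rw [← Units.val_mul, mul_inv_cancel, Units.val_one]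
  have h3 : s.val.map ι * (mapG ι s)⁻¹.val = 1 := by
    rw [← mapG_val, ← Units.val_mul, mul_inv_cancel, Units.val_one]
  rw [Matrix.smul_mul, Matrix.smul_mul, Matrix.mul_assoc (s.val.map ι), h1, Matrix.mul_one, h3]
  ext u v
  simp [Matrix.scalar_apply, Matrix.diagonal_apply, Matrix.one_apply]

include H in
/-- the scalar attached to an element with fixed entries -/
theorem qc_fixed_rel (s : GL (Fin n) F₀) (hs : s ∈ SOa a)
    (hfix : (s.val.map ι).map τ = s.val.map ι) :
    ∃ ζ : F, h.val * s.val.map ι = ζ • (s.val.map ι * h.val) := by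
  obtain ⟨ζ, hζ⟩ := H s hs
  rw [hfix] at hζ
  exact ⟨ζ, hζ⟩

include h2 ha in
theorem quarter_map_rel (j k : Fin n) (hjk : j ≠ k) (haj : a j = 1) (hak : a k = 1) :
    ((quarter a j k).val.map ι).map τ = (quarter a j k).val.map ι := by
  ext u v
  show τ (ι ((quarter a j k).val u v)) = ι ((quarter a j k).val u v)
  unfold quarter
  rw [quarter_apply h2 a ha j k hjk haj hak]
  simp only [map_mul, map_sub, map_add, apply_ite ι, apply_ite τ, map_neg, map_one, map_zero]

theorem sgM_map_rel (i j : Fin n) :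
    (((sg (F := F₀) i j).val.map ι).map τ) = (sg (F := F₀) i j).val.map ι := by
  rw [sg_val, sgM_map_hom, sgM_map]

include h2 ha H in
/-- `h` commutes with the sign change in a plane with equal coefficients -/
theorem comm_sg_low_rel (j k i : Fin n) (hjk : j ≠ k) (haj : a j = 1) (hak : a k = 1)
    (hij : i ≠ j) (hik : i ≠ k) : h * sg j k = sg j k * h := by
  have h1 := qc_center_rel ι a h τ H (quarter a j k) (quarter_mem h2 a ha j k hjk haj hak)
    (quarter_map_rel ι h2 a ha τ j k hjk haj hak)
  have h3 := qc_center_rel ι a h τ H (sg i j) (Esub_le_SOa a (sg_mem i j hij))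
    (sgM_map_rel ι τ i j)
  have := comm_of_qc h (mapG ι (quarter a j k)) (mapG ι (sg i j)) h1 h3
  have e : mapG ι (quarter a j k) * mapG ι (sg i j) * (mapG ι (quarter a j k))⁻¹ *
      (mapG ι (sg i j))⁻¹ = sg j k := by
    rw [← map_inv, ← map_inv, ← map_mul, ← map_mul, ← map_mul,
      quarter_conj h2 a ha j k i hjk haj hak hij hik,
      inv_eq_of_mul_eq_one_right (sg_mul_self i j), sg_mul_sg i k j hik hij hjk.symm, sg_symm,
      mapG_sg]
  rwa [e] at this

variable (m : Fin n) (hnf : ∀ i, i ≠ m → a i = 1)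

include h2 hn ha H hnf in
/-- the last row and column of `h` -/
theorem last_row_col_rel (u : Fin n) (hum : u ≠ m) : h.val u m = 0 ∧ h.val m u = 0 := by
  obtain ⟨k, hku, hkm⟩ := exists_ne_ne hn u m
  have hc := comm_sg_low_rel ι h2 a ha h τ H u k m hku.symm (hnf u hum) (hnf k hkm) hum.symm
    hkm.symm
  have h' : h.val * sgM u k = sgM u k * h.val := by
    have := congrArg Units.val hc
    rwa [Units.val_mul, Units.val_mul, sg_val] at this
  exact sep_of_comm (two_ne_zero_map ι h2) h.val u k h' u m (Or.inl rfl)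
    (by rintro (h1 | h1); exact hum h1.symm; exact hkm h1.symm)

include h2 hn ha H hnf in
theorem last_diag_ne_rel : h.val m m ≠ 0 := by
  intro h0
  have hcol : h.val *ᵥ Pi.single m 1 = 0 := by
    rw [col_eq]
    funext u
    by_cases hum : u = m
    · subst hum; exact h0
    · exact (last_row_col_rel ι h2 hn a ha h τ H m hnf u hum).1
  have := inv_mulVec_mulVec h (Pi.single m (1 : F))
  rw [hcol, Matrix.mulVec_zero] at this
  have h1 := congrFun this m
  rw [Pi.zero_apply, Pi.single_eq_same] at h1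
  exact one_ne_zero h1.symm

include h2 hn ha H hnf in
/-- `h` commutes with all the sign changes in two coordinates -/
theorem comm_sg_all_rel (j k : Fin n) (hjk : j ≠ k) : h * sg j k = sg j k * h := by
  -- first the pairs containing `m`
  have hm : ∀ j : Fin n, j ≠ m → h * sg j m = sg j m * h := by
    intro j hjm
    obtain ⟨ζ, hζ⟩ := qc_fixed_rel ι a h τ H (sg j m) (Esub_le_SOa a (sg_mem j m hjm))
      (sgM_map_rel ι τ j m)
    rw [sg_val, sgM_map_hom] at hζ
    have e := congrFun (congrFun hζ m) m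
    rw [mul_apply_of_signDiag' _ _ (isSignDiag_sgM j m), Matrix.smul_apply,
      mul_apply_of_signDiag _ _ (isSignDiag_sgM j m), sgM_apply_eq, if_pos (Or.inr rfl),
      smul_eq_mul] at e
    have hne := last_diag_ne_rel ι h2 hn a ha h τ H m hnf
    have hζ1 : ζ = 1 := by
      have : h.val m m * (ζ - 1) = 0 := by linear_combination e
      rcases mul_eq_zero.1 this with h' | h'
      · exact absurd h' hne
      · linear_combination h'
    rw [hζ1, one_smul] at hζ
    apply Units.ext
    rw [Units.val_mul, Units.val_mul, sg_val]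
    exact hζ
  by_cases hkm : k = m
  · subst hkm
    exact hm j hjk
  · by_cases hjm : j = m
    · subst hjm
      rw [sg_symm]
      exact hm k hkm
    · exact comm_sg_low_rel ι h2 a ha h τ H j k m hjk (hnf j hjm) (hnf k hkm) (Ne.symm hjm)
        (Ne.symm hkm)

include h2 hn ha H hnf in
/-- `h` is diagonal -/
theorem h_diag_rel (u v : Fin n) (huv : u ≠ v) : h.val u v = 0 := by
  obtain ⟨k, hku, hkv⟩ := exists_ne_ne hn u v
  have hc := comm_sg_all_rel ι h2 hn a ha h τ H m hnf u k hku.symm
  have h' : h.val * sgM u k = sgM u k * h.val := by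
    have := congrArg Units.val hc
    rwa [Units.val_mul, Units.val_mul, sg_val] at this
  exact (sep_of_comm (two_ne_zero_map ι h2) h.val u k h' u v (Or.inl rfl)
    (by rintro (h1 | h1); exact huv h1.symm; exact hkv h1.symm)).1

include h2 hn ha H hnf in
theorem h_diag_ne_rel (u : Fin n) : h.val u u ≠ 0 := by
  intro h0
  have hcol : h.val *ᵥ Pi.single u 1 = 0 := by
    rw [col_eq]
    funext w
    by_cases hwu : w = u
    · subst hwu; exact h0
    · exact h_diag_rel ι h2 hn a ha h τ H m hnf w u hwu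
  have := inv_mulVec_mulVec h (Pi.single u (1 : F))
  rw [hcol, Matrix.mulVec_zero] at this
  have h1 := congrFun this u
  rw [Pi.zero_apply, Pi.single_eq_same] at h1
  exact one_ne_zero h1.symm

include h2 hn ha H hnf in
/-- the entrywise form of the hypothesis -/
theorem entry_rel_rel (s : GL (Fin n) F₀) (hs : s ∈ SOa a) :
    ∃ ζ : F, ∀ u v : Fin n,
      h.val u u * τ (ι (s.val u v)) = ζ * (ι (s.val u v) * h.val v v) := by
  obtain ⟨ζ, hζ⟩ := H s hs
  refine ⟨ζ, fun u v => ?_⟩
  have e := congrFun (congrFun hζ u) v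
  rw [Matrix.mul_apply, Matrix.smul_apply, Matrix.mul_apply, smul_eq_mul,
    Finset.sum_eq_single u, Finset.sum_eq_single v] at e
  · exact e
  · intro w _ hwv
    rw [h_diag_rel ι h2 hn a ha h τ H m hnf w v hwv, mul_zero]
  · intro hv; exact absurd (Finset.mem_univ v) hv
  · intro w _ hwu
    rw [h_diag_rel ι h2 hn a ha h τ H m hnf u w (Ne.symm hwu), zero_mul]
  · intro hu; exact absurd (Finset.mem_univ u) hu

include h2 hn ha H hnf in
/-- the diagonal entries of `h` at two coordinates of coefficient one agree -/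
theorem diag_eq_low_rel (j k : Fin n) (hjk : j ≠ k) (hjm : j ≠ m) (hkm : k ≠ m) :
    h.val k k = h.val j j := by
  obtain ⟨ζ, he⟩ := entry_rel_rel ι h2 hn a ha h τ H m hnf (quarter a j k)
    (quarter_mem h2 a ha j k hjk (hnf j hjm) (hnf k hkm))
  have hq := quarter_apply h2 a ha j k hjk (hnf j hjm) (hnf k hkm)
  have e1 := he m m
  have e2 := he k j
  unfold quarter at e1 e2
  rw [hq] at e1 e2
  simp only [if_neg (Ne.symm hjm), if_neg (Ne.symm hkm), if_neg hjk.symm, if_neg hjk, if_true]
    at e1 e2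
  have hm := h_diag_ne_rel ι h2 hn a ha h τ H m hnf m
  have hζ : ζ = 1 := by
    simp only [add_zero, mul_zero, sub_zero, one_mul, map_one, mul_one] at e1
    have : h.val m m * (ζ - 1) = 0 := by linear_combination -e1
    rcases mul_eq_zero.1 this with h' | h'
    · exact absurd h' hm
    · linear_combination h'
  rw [hζ] at e2
  simp only [add_zero, zero_add, mul_one, one_mul, zero_sub, map_neg, map_one] at e2
  linear_combination -e2

include h2 hn ha H hnf in
/-- `τ` fixes every `t` of the subfield with `1 + t² ≠ 0` -/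
theorem tau_fixed_rel (t : F₀) (ht : 1 + t ^ 2 ≠ 0) : τ (ι t) = ι t := by
  obtain ⟨j, hjm, -⟩ := exists_ne_ne hn m m
  obtain ⟨k, hkj, hkm⟩ := exists_ne_ne hn j m
  have hjk : j ≠ k := Ne.symm hkj
  have h2F : (2 : F) ≠ 0 := two_ne_zero_map ι h2
  have htF : 1 + (ι t) ^ 2 ≠ 0 := by
    have := (map_ne_zero ι).2 ht
    rwa [map_add, map_one, map_pow] at this
  have hQ : bD a (Pi.single j 1 + t • Pi.single k 1) (Pi.single j 1 + t • Pi.single k 1) =
      1 + t ^ 2 := by
    rw [bD_pair a j k hjk, hnf j hjm, hnf k hkm]; ring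
  have hQ' : bD a (Pi.single j 1 + t • Pi.single k 1) (Pi.single j 1 + t • Pi.single k 1) ≠ 0 := by
    rw [hQ]; exact ht
  obtain ⟨ζ, he⟩ := entry_rel_rel ι h2 hn a ha h τ H m hnf
    (rot a j (Pi.single j 1 + t • Pi.single k 1)) (rot_mem a ha j _ hQ')
  have e1 := he m m
  have e2 := he j j
  have e3 := he k j
  rw [rot_apply a ha j _ hQ', hQ] at e1 e2 e3
  simp only [Pi.add_apply, Pi.smul_apply, smul_eq_mul, Pi.single_apply, if_neg (Ne.symm hjm),
    if_neg (Ne.symm hkm), if_neg hjk.symm, if_neg hjk, if_true, hnf j hjm] at e1 e2 e3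
  have hm := h_diag_ne_rel ι h2 hn a ha h τ H m hnf m
  have hj := h_diag_ne_rel ι h2 hn a ha h τ H m hnf j
  have hkj' := diag_eq_low_rel ι h2 hn a ha h τ H m hnf j k hjk hjm hkm
  have hζ : ζ = 1 := by
    simp only [add_zero, mul_zero, sub_zero, one_mul, map_one, mul_one, zero_div] at e1
    have : h.val m m * (ζ - 1) = 0 := by linear_combination -e1
    rcases mul_eq_zero.1 this with h' | h'
    · exact absurd h' hm
    · linear_combination h'
  rw [hζ] at e2 e3
  simp only [add_zero, zero_add, mul_one, one_mul, mul_zero, zero_sub, map_neg, map_one,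
    map_sub, map_mul, map_div₀, map_add, map_pow, map_ofNat] at e2 e3
  rw [hkj'] at e3
  -- `q = 2 / (1 + t²)` is fixed
  have hq : (2 : F) / (1 + τ (ι t) ^ 2) = 2 / (1 + (ι t) ^ 2) := by
    have : h.val j j * (2 / (1 + τ (ι t) ^ 2) - 2 / (1 + (ι t) ^ 2)) = 0 := by
      linear_combination e2
    rcases mul_eq_zero.1 this with h' | h'
    · exact absurd h' hj
    · linear_combination h'
  have hq0 : (2 : F) / (1 + (ι t) ^ 2) ≠ 0 := div_ne_zero h2F htF
  have : h.val j j * ((2 / (1 + (ι t) ^ 2)) * (τ (ι t) - ι t)) = 0 := by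
    linear_combination (-1 : F) * e3 - (h.val j j * τ (ι t)) * hq
  rcases mul_eq_zero.1 this with h' | h'
  · exact absurd h' hj
  · rcases mul_eq_zero.1 h' with h'' | h''
    · exact absurd h'' hq0
    · linear_combination h''

include h2 hn ha H hnf in
/-- `τ` is the identity on the subfield -/
theorem tau_id_rel (t : F₀) : τ (ι t) = ι t := by
  by_cases ht : 1 + t ^ 2 ≠ 0
  · exact tau_fixed_rel ι h2 hn a ha h τ H m hnf t ht
  · rw [not_not] at ht
    by_cases ht1 : 1 + (t + 1) ^ 2 ≠ 0
    · have := tau_fixed_rel ι h2 hn a ha h τ H m hnf (t + 1) ht1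
      rw [map_add, map_one, map_add, map_one] at this
      linear_combination this
    · rw [not_not] at ht1
      have h3 : (2 : F₀) * t + 1 = 0 := by linear_combination ht1 - ht
      have h4 : t = -1 / 2 := by
        field_simp
        linear_combination h3
      rw [h4, map_div₀, map_neg, map_one, map_ofNat, map_div₀, map_neg, map_one, map_ofNat]

include h2 hn ha H hnf in
/-- the last diagonal entry of `h` agrees with the others -/
theorem diag_eq_last_rel (j : Fin n) (hjm : j ≠ m) : h.val m m = h.val j j := by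
  obtain ⟨k, hkj, hkm⟩ := exists_ne_ne hn j m
  have hjk : j ≠ k := Ne.symm hkj
  have h2F : (2 : F) ≠ 0 := two_ne_zero_map ι h2
  have hτ := tau_id_rel ι h2 hn a ha h τ H m hnf
  have hj := h_diag_ne_rel ι h2 hn a ha h τ H m hnf j
  have hk := h_diag_ne_rel ι h2 hn a ha h τ H m hnf k
  have ham := ha m
  by_cases hd : 1 + a m ≠ 0
  · -- the vector `e_j + e_m`
    have hdF : 1 + ι (a m) ≠ 0 := by
      have := (map_ne_zero ι).2 hd
      rwa [map_add, map_one] at this
    have hQ : bD a (Pi.single j 1 + (1 : F₀) • Pi.single m 1)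
        (Pi.single j 1 + (1 : F₀) • Pi.single m 1) = 1 + a m := by
      rw [bD_pair a j m hjm, hnf j hjm]; ring
    have hQ' : bD a (Pi.single j 1 + (1 : F₀) • Pi.single m 1)
        (Pi.single j 1 + (1 : F₀) • Pi.single m 1) ≠ 0 := by rw [hQ]; exact hd
    obtain ⟨ζ, he⟩ := entry_rel_rel ι h2 hn a ha h τ H m hnf
      (rot a j (Pi.single j 1 + (1 : F₀) • Pi.single m 1)) (rot_mem a ha j _ hQ')
    have e1 := he k k
    have e2 := he m j
    rw [hτ, rot_apply a ha j _ hQ', hQ] at e1 e2
    simp only [Pi.add_apply, Pi.smul_apply, smul_eq_mul, Pi.single_apply, if_neg hkj, if_neg hkm,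
      if_neg (Ne.symm hjm), if_neg hjm, if_true, hnf j hjm] at e1 e2
    have hζ : ζ = 1 := by
      simp only [add_zero, mul_zero, sub_zero, one_mul, mul_one, zero_div, map_one] at e1
      have : h.val k k * (ζ - 1) = 0 := by linear_combination -e1
      rcases mul_eq_zero.1 this with h' | h'
      · exact absurd h' hk
      · linear_combination h'
    rw [hζ] at e2
    simp only [add_zero, zero_add, mul_one, one_mul, zero_sub, map_neg, map_one,
      map_div₀, map_add, map_ofNat] at e2
    have h3 : (2 : F) / (1 + ι (a m)) ≠ 0 := div_ne_zero h2F hdF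
    have : (2 / (1 + ι (a m))) * (h.val m m - h.val j j) = 0 := by linear_combination -e2
    rcases mul_eq_zero.1 this with h' | h'
    · exact absurd h' h3
    · linear_combination h'
  · -- the vector `e_j + e_k + e_m`
    rw [not_not] at hd
    obtain ⟨w, hw⟩ : ∃ w : Fin n → F₀,
        w = (1 : F₀) • Pi.single j 1 + (1 : F₀) • Pi.single k 1 + Pi.single m 1 := ⟨_, rfl⟩
    have hwj : w j = 1 := by
      rw [hw]; simp [hjk, hjm]
    have hwk : w k = 1 := by
      rw [hw]; simp [hkj, hkm]
    have hwm : w m = 1 := by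
      rw [hw]; simp [Ne.symm hjm, Ne.symm hkm]
    have hQ : bD a w w = 1 := by
      rw [hw, bD_three_left, ← hw, hwj, hwk, hwm, hnf j hjm, hnf k hkm]
      linear_combination hd
    have hQ' : bD a w w ≠ 0 := by rw [hQ]; exact one_ne_zero
    obtain ⟨ζ, he⟩ := entry_rel_rel ι h2 hn a ha h τ H m hnf (rot a j w) (rot_mem a ha j _ hQ')
    have e1 := he k k
    have e2 := he m j
    rw [hτ, rot_apply a ha j _ hQ', hQ] at e1 e2
    simp only [hwj, hwk, hwm, if_neg hkj, if_neg (Ne.symm hjm), if_true, hnf j hjm, hnf k hkm]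
      at e1 e2
    simp only [map_zero, map_one, map_sub, map_mul, map_div₀, map_ofNat] at e1 e2
    have hζ : ζ = 1 := by
      have : h.val k k * (ζ - 1) = 0 := by linear_combination e1
      rcases mul_eq_zero.1 this with h' | h'
      · exact absurd h' hk
      · linear_combination h'
    rw [hζ] at e2
    have : (2 : F) * (h.val m m - h.val j j) = 0 := by linear_combination -e2
    rcases mul_eq_zero.1 this with h' | h'
    · exact absurd h' h2F
    · linear_combination h'

include h2 hn ha H hnf in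
/-- **the centraliser of `SO(a)` over a subfield in the semilinear group** -/
theorem centO_matrix_rel' :
    (∀ t : F₀, τ (ι t) = ι t) ∧ ∃ c : F, h.val = c • (1 : Matrix (Fin n) (Fin n) F) := by
  refine ⟨tau_id_rel ι h2 hn a ha h τ H m hnf, ?_⟩
  obtain ⟨j, hjm, -⟩ := exists_ne_ne hn m m
  refine ⟨h.val j j, ?_⟩
  ext u v
  rw [Matrix.smul_apply, smul_eq_mul, Matrix.one_apply]
  by_cases huv : u = v
  · subst huv
    rw [if_pos rfl, mul_one]
    by_cases hum : u = m
    · subst hum
      exact diag_eq_last_rel ι h2 hn a ha h τ H u hnf j hjm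
    · by_cases huj : u = j
      · rw [huj]
      · exact diag_eq_low_rel ι h2 hn a ha h τ H m hnf j u (Ne.symm huj) hjm hum
  · rw [if_neg huv, mul_zero]
    exact h_diag_rel ι h2 hn a ha h τ H m hnf u v huv

end cent

/-- **the centraliser of `SO(a)` over a subfield in the semilinear group**, in the argument order
requested for the unitary case -/
theorem centO_matrix_rel {F₀ F : Type*} [Field F₀] [Field F] (ι : F₀ →+* F) {n : ℕ}
    (h2 : (2 : F₀) ≠ 0) (hn : 3 ≤ n) (a : Fin n → F₀) (ha : ∀ i, a i ≠ 0)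
    (m : Fin n) (hnf : ∀ i, i ≠ m → a i = 1)
    (h : GL (Fin n) F) (τ : F ≃+* F)
    (H : ∀ s ∈ SOa a, ∃ ζ : F, h.val * (s.val.map ι).map τ = ζ • (s.val.map ι * h.val)) :
    (∀ t : F₀, τ (ι t) = ι t) ∧ ∃ c : F, h.val = c • (1 : Matrix (Fin n) (Fin n) F) :=
  centO_matrix_rel' ι h2 hn a ha h τ H m hnf

end Cfsg.Agent.Lib.Helper8.BalL
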