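import Cfsg.Agent.Lib.Helper8.BalL.GraphOB

/-!
# Normal form of symmetric matrices over a finite field of odd characteristic (helper8)

Every invertible symmetric matrix is congruent to `diag(1, …, 1, d)`.
-/

set_option autoImplicit false

namespace Cfsg.Agent.Lib.Helper8.BalL

open Matrix

variable {F : Type*} [Field F] {n : ℕ}

/-! ### frames -/

/-- the matrix whose columns are the vectors of a frame -/
def frameM (w : Fin n → Fin n → F) : Matrix (Fin n) (Fin n) F := Matrix.of fun r s => w s r

theorem frameM_single (w : Fin n → Fin n → F) (s : Fin n) :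
    frameM w *ᵥ Pi.single s 1 = w s := by
  rw [Matrix.mulVec_single_one]
  ext r
  rfl

theorem frame_gram (a : Fin n → F) (w : Fin n → Fin n → F)
    (horth : ∀ s t, s ≠ t → bD a (w s) (w t) = 0) :
    (frameM w)ᵀ * Matrix.diagonal a * frameM w =
      Matrix.diagonal (fun s => bD a (w s) (w s)) := by
  ext s t
  rw [Matrix.mul_apply]
  have h1 : ∀ r, ((frameM w)ᵀ * Matrix.diagonal a) s r * frameM w r t =
      a r * w s r * w t r := by
    intro r
    rw [Matrix.mul_diagonal, Matrix.transpose_apply]
    show w s r * a r * w t r = _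
    ring
  rw [Finset.sum_congr rfl (fun r _ => h1 r)]
  by_cases hst : s = t
  · subst hst
    rw [Matrix.diagonal_apply_eq]
    rfl
  · rw [Matrix.diagonal_apply_ne _ hst]
    exact horth s t hst

theorem frame_form (a : Fin n → F) (w : Fin n → Fin n → F)
    (horth : ∀ s t, s ≠ t → bD a (w s) (w t) = 0) (u v : Fin n → F) :
    bD a (frameM w *ᵥ u) (frameM w *ᵥ v) = bD (fun s => bD a (w s) (w s)) u v := by
  rw [bD_gram, frame_gram a w horth, ← bD_eq_dot]

theorem frame_isUnit (a : Fin n → F) (w : Fin n → Fin n → F)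
    (horth : ∀ s t, s ≠ t → bD a (w s) (w t) = 0) (hns : ∀ s, bD a (w s) (w s) ≠ 0) :
    IsUnit (frameM w) := by
  rw [← Matrix.mulVec_injective_iff_isUnit]
  intro x y hxy
  have hxy' : frameM w *ᵥ x = frameM w *ᵥ y := hxy
  have h0 : x - y = 0 := by
    apply eq_zero_of_bD (fun s => bD a (w s) (w s)) hns
    intro v
    rw [← frame_form a w horth, Matrix.mulVec_sub, hxy', sub_self, bD_zero_left]
  exact sub_eq_zero.1 h0

/-! ### the binary step -/

/-- the frame of the binary step at the coordinates `i`, `m` -/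
def stepFrame (a : Fin n → F) (i m : Fin n) (x y : F) : Fin n → Fin n → F := fun s =>
  if s = i then x • Pi.single i 1 + y • Pi.single m 1
  else if s = m then (-(a m * y)) • Pi.single i 1 + (a i * x) • Pi.single m 1
  else Pi.single s 1

theorem bD_two_two (a : Fin n → F) (i m : Fin n) (him : i ≠ m) (p q r s : F) :
    bD a (p • Pi.single i 1 + q • Pi.single m 1) (r • Pi.single i 1 + s • Pi.single m 1) =
      a i * p * r + a m * q * s := by
  rw [bD_add_left, bD_smul_left, bD_smul_left, bD_single_left, bD_single_left]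
  simp only [Pi.add_apply, Pi.smul_apply, smul_eq_mul, Pi.single_eq_same,
    Pi.single_eq_of_ne him, Pi.single_eq_of_ne him.symm]
  ring

theorem bD_two_single (a : Fin n → F) (i m s : Fin n) (hsi : s ≠ i) (hsm : s ≠ m) (p q : F) :
    bD a (p • Pi.single i 1 + q • Pi.single m 1) (Pi.single s 1) = 0 := by
  rw [bD_single_right]
  simp only [Pi.add_apply, Pi.smul_apply, smul_eq_mul, Pi.single_eq_of_ne hsi,
    Pi.single_eq_of_ne hsm]
  ring

theorem stepFrame_orth (a : Fin n → F) (i m : Fin n) (him : i ≠ m) (x y : F) (s t : Fin n)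
    (hst : s ≠ t) : bD a (stepFrame a i m x y s) (stepFrame a i m x y t) = 0 := by
  unfold stepFrame
  by_cases hsi : s = i
  · subst hsi
    rw [if_pos rfl, if_neg (Ne.symm hst)]
    by_cases htm : t = m
    · subst htm
      rw [if_pos rfl, bD_two_two a s t hst]
      ring
    · rw [if_neg htm]
      exact bD_two_single a s m t (Ne.symm hst) htm _ _
  · rw [if_neg hsi]
    by_cases hsm : s = m
    · subst hsm
      rw [if_pos rfl]
      by_cases hti : t = i
      · subst hti
        rw [if_pos rfl, bD_two_two a t s (Ne.symm hst)]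
        ring
      · rw [if_neg hti, if_neg (Ne.symm hst)]
        exact bD_two_single a i s t hti (Ne.symm hst) _ _
    · rw [if_neg hsm]
      by_cases hti : t = i
      · subst hti
        rw [if_pos rfl, bD_comm]
        exact bD_two_single a t m s hsi hsm _ _
      · rw [if_neg hti]
        by_cases htm : t = m
        · subst htm
          rw [if_pos rfl, bD_comm]
          exact bD_two_single a i t s hsi hsm _ _
        · rw [if_neg htm, bD_single_left, Pi.single_eq_of_ne hst, mul_zero]

theorem stepFrame_norm (a : Fin n → F) (i m : Fin n) (him : i ≠ m) (x y : F)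
    (hxy : a i * x ^ 2 + a m * y ^ 2 = 1) (s : Fin n) :
    bD a (stepFrame a i m x y s) (stepFrame a i m x y s) =
      if s = i then 1 else if s = m then a i * a m else a s := by
  unfold stepFrame
  by_cases hsi : s = i
  · subst hsi
    rw [if_pos rfl, if_pos rfl, bD_two_two a s m him]
    linear_combination hxy
  · rw [if_neg hsi, if_neg hsi]
    by_cases hsm : s = m
    · subst hsm
      rw [if_pos rfl, if_pos rfl, bD_two_two a i s him]
      linear_combination a i * a s * hxy
    · rw [if_neg hsm, if_neg hsm, bD_single_self]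

/-! ### solving the binary equation -/

theorem exists_binary [Fintype F] (h2 : (2 : F) ≠ 0) (α β : F) (hα : α ≠ 0) (hβ : β ≠ 0) :
    ∃ x y : F, α * x ^ 2 + β * y ^ 2 = 1 := by
  classical
  have hodd := card_odd_of_two_ne_zero h2
  have hf : (Polynomial.C α * Polynomial.X ^ 2 : Polynomial F).degree = 2 :=
    Polynomial.degree_C_mul_X_pow 2 hα
  have hg : (Polynomial.C β * Polynomial.X ^ 2 - Polynomial.C 1 : Polynomial F).degree = 2 := by
    have h1 : (Polynomial.C β * Polynomial.X ^ 2 : Polynomial F).degree = 2 :=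
      Polynomial.degree_C_mul_X_pow 2 hβ
    rw [Polynomial.degree_sub_eq_left_of_degree_lt]
    · exact h1
    · rw [h1]
      exact lt_of_le_of_lt Polynomial.degree_C_le (by decide)
  obtain ⟨x, y, hxy⟩ := FiniteField.exists_root_sum_quadratic hf hg hodd
  refine ⟨x, y, ?_⟩
  simp only [Polynomial.eval_mul, Polynomial.eval_C, Polynomial.eval_pow, Polynomial.eval_X,
    Polynomial.eval_sub] at hxy
  linear_combination hxy

theorem step_exists [Fintype F] (h2 : (2 : F) ≠ 0) (a : Fin n → F) (ha : ∀ i, a i ≠ 0)
    (i m : Fin n) (him : i ≠ m) :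
    ∃ P : Matrix (Fin n) (Fin n) F, IsUnit P ∧
      Pᵀ * Matrix.diagonal a * P =
        Matrix.diagonal (fun s => if s = i then 1 else if s = m then a i * a m else a s) := by
  obtain ⟨x, y, hxy⟩ := exists_binary h2 (a i) (a m) (ha i) (ha m)
  have horth := stepFrame_orth a i m him x y
  have hnorm := stepFrame_norm a i m him x y hxy
  refine ⟨frameM (stepFrame a i m x y), ?_, ?_⟩
  · apply frame_isUnit a _ horth
    intro s
    rw [hnorm s]
    split_ifs
    · exact one_ne_zero
    · exact mul_ne_zero (ha i) (ha m)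
    · exact ha s
  · rw [frame_gram a _ horth]
    congr 1
    funext s
    exact hnorm s

theorem diag_normal_aux [Fintype F] (h2 : (2 : F) ≠ 0) (m : Fin n) (T : Finset (Fin n)) :
    ∀ a : Fin n → F, (∀ i, a i ≠ 0) → (∀ i, i ∉ T → i ≠ m → a i = 1) →
      ∃ (P : Matrix (Fin n) (Fin n) F) (a' : Fin n → F), IsUnit P ∧ (∀ i, a' i ≠ 0) ∧
        (∀ i, i ≠ m → a' i = 1) ∧ Pᵀ * Matrix.diagonal a * P = Matrix.diagonal a' := by
  classical
  induction T using Finset.induction_on with
  | empty =>
    intro a ha h
    refine ⟨1, a, isUnit_one, ha, fun i hi => h i (Finset.notMem_empty i) hi, ?_⟩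
    rw [Matrix.transpose_one, Matrix.one_mul, Matrix.mul_one]
  | insert i T hiT ih =>
    intro a ha h
    by_cases him : i = m
    · apply ih a ha
      intro j hj hjm
      apply h j _ hjm
      rw [Finset.mem_insert]
      rintro (h' | h')
      · exact hjm (h'.trans him)
      · exact hj h'
    · obtain ⟨P1, hP1, hg1⟩ := step_exists h2 a ha i m him
      have ha1 : ∀ s, (fun s => if s = i then (1 : F) else if s = m then a i * a m else a s) s
          ≠ 0 := by
        intro s
        show (if s = i then (1 : F) else if s = m then a i * a m else a s) ≠ 0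
        split_ifs
        · exact one_ne_zero
        · exact mul_ne_zero (ha i) (ha m)
        · exact ha s
      have hn1 : ∀ j, j ∉ T → j ≠ m →
          (fun s => if s = i then (1 : F) else if s = m then a i * a m else a s) j = 1 := by
        intro j hj hjm
        show (if j = i then (1 : F) else if j = m then a i * a m else a j) = 1
        by_cases hji : j = i
        · rw [if_pos hji]
        · rw [if_neg hji, if_neg hjm]
          apply h j _ hjm
          rw [Finset.mem_insert]
          rintro (h' | h')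
          · exact hji h'
          · exact hj h'
      obtain ⟨P2, a', hP2, ha', hnf, hg2⟩ := ih _ ha1 hn1
      refine ⟨P1 * P2, a', hP1.mul hP2, ha', hnf, ?_⟩
      rw [Matrix.transpose_mul, ← hg2, ← hg1]
      simp only [Matrix.mul_assoc]

/-! ### diagonalisation -/

theorem exists_diag (h2 : (2 : F) ≠ 0) (A : Matrix (Fin n) (Fin n) F) (hA : Aᵀ = A)
    (hdet : A.det ≠ 0) :
    ∃ (P : Matrix (Fin n) (Fin n) F) (a : Fin n → F), IsUnit P ∧ (∀ i, a i ≠ 0) ∧
      Pᵀ * A * P = Matrix.diagonal a := by
  classical
  let _i2 : Invertible (2 : F) := invertibleOfNonzero h2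
  have hB : (Matrix.toBilin' A).IsSymm := (Matrix.isSymm_toBilin'_iff_isSymm).2 hA
  obtain ⟨v, hv⟩ := LinearMap.BilinForm.exists_orthogonal_basis
    (LinearMap.BilinForm.isSymm_iff.1 hB)
  have hfr : Module.finrank F (Fin n → F) = n := Module.finrank_fin_fun F
  obtain ⟨v', hv'⟩ : ∃ v' : Module.Basis (Fin n) F (Fin n → F),
      ∀ s t, s ≠ t → Matrix.toBilin' A (v' s) (v' t) = 0 := by
    refine ⟨v.reindex (finCongr hfr), ?_⟩
    intro s t hst
    rw [Module.Basis.reindex_apply, Module.Basis.reindex_apply]
    apply (LinearMap.isOrthoᵢ_def.1 hv) _ _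
    intro h
    exact hst ((finCongr hfr).symm.injective h)
  have hP : IsUnit (frameM (fun s => v' s)) := by
    have h1 : frameM (fun s => v' s) = (Pi.basisFun F (Fin n)).toMatrix v' := by
      ext r s
      rw [Module.Basis.toMatrix_apply]
      rfl
    rw [h1]
    have _i3 := (Pi.basisFun F (Fin n)).invertibleToMatrix v'
    exact isUnit_of_invertible _
  have hgram : (frameM (fun s => v' s))ᵀ * A * frameM (fun s => v' s) =
      Matrix.diagonal (fun s => Matrix.toBilin' A (v' s) (v' s)) := by
    ext s t
    have h1 : ((frameM (fun s => v' s))ᵀ * A * frameM (fun s => v' s)) s t =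
        Matrix.toBilin' A (v' s) (v' t) := by
      rw [Matrix.toBilin'_apply',
        ← dot_single_mulVec ((frameM (fun s => v' s))ᵀ * A * frameM (fun s => v' s)) s t,
        ← Matrix.mulVec_mulVec,
        ← Matrix.mulVec_mulVec, Matrix.dotProduct_mulVec, Matrix.vecMul_transpose,
        frameM_single, frameM_single]
    rw [h1]
    by_cases hst : s = t
    · subst hst
      rw [Matrix.diagonal_apply_eq]
    · rw [Matrix.diagonal_apply_ne _ hst]
      exact hv' s t hst
  refine ⟨frameM (fun s => v' s), _, hP, ?_, hgram⟩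
  have hd := congrArg Matrix.det hgram
  rw [Matrix.det_mul, Matrix.det_mul, Matrix.det_transpose, Matrix.det_diagonal] at hd
  have hPd : (frameM (fun s => v' s)).det ≠ 0 :=
    ((Matrix.isUnit_iff_isUnit_det _).1 hP).ne_zero
  have hprod : (∏ i, Matrix.toBilin' A (v' i) (v' i)) ≠ 0 := by
    rw [← hd]
    exact mul_ne_zero (mul_ne_zero hPd hdet) hPd
  intro i
  exact (Finset.prod_ne_zero_iff.1 hprod) i (Finset.mem_univ i)

/-- **normal form**: an invertible symmetric matrix over a finite field of odd characteristic is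
congruent to `diag(1, …, 1, d)` (with `d` at any prescribed place `m`) -/
theorem exists_normal_form [Fintype F] (h2 : (2 : F) ≠ 0) (m : Fin n)
    (A : Matrix (Fin n) (Fin n) F) (hA : Aᵀ = A) (hdet : A.det ≠ 0) :
    ∃ (P : Matrix (Fin n) (Fin n) F) (a : Fin n → F), IsUnit P ∧ (∀ i, a i ≠ 0) ∧
      (∀ i, i ≠ m → a i = 1) ∧ Pᵀ * A * P = Matrix.diagonal a := by
  classical
  obtain ⟨P1, a1, hP1, ha1, hg1⟩ := exists_diag h2 A hA hdet
  obtain ⟨P2, a', hP2, ha', hnf, hg2⟩ := diag_normal_aux h2 m Finset.univ a1 ha1
    (fun i hi _ => absurd (Finset.mem_univ i) hi)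
  refine ⟨P1 * P2, a', hP1.mul hP2, ha', hnf, ?_⟩
  rw [Matrix.transpose_mul, ← hg2, ← hg1]
  simp only [Matrix.mul_assoc]

end Cfsg.Agent.Lib.Helper8.BalL
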