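import Cfsg.Agent.Lib.Helper8.BalL.OddD

/-!
# Odd-order subgroups normalised by the special orthogonal group are central (helper8)

`coreO`: `N ≤ SOa a` normalised by `SOa a`, every element with an odd power in the centre,
`n ≥ 3`: then `N` is central.  The subgroup `N · r N r⁻¹` (`r` a coordinate reflection) is
normalised by the full sign group.
-/

set_option autoImplicit false

namespace Cfsg.Agent.Lib.Helper8.BalL

open Matrix

/-! ### products of two subgroups, one normalising the other -/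

section prod

variable {G : Type*} [Group G]

/-- the product `N₁ N₂`, when `N₁` normalises `N₂` -/
def prodSub (N₁ N₂ : Subgroup G) (hN : ∀ a ∈ N₁, ∀ b ∈ N₂, a * b * a⁻¹ ∈ N₂) : Subgroup G where
  carrier := {g | ∃ a ∈ N₁, ∃ b ∈ N₂, g = a * b}
  one_mem' := ⟨1, N₁.one_mem, 1, N₂.one_mem, by rw [mul_one]⟩
  mul_mem' := by
    rintro _ _ ⟨a, ha, b, hb, rfl⟩ ⟨a', ha', b', hb', rfl⟩
    refine ⟨a * a', N₁.mul_mem ha ha', a'⁻¹ * b * a' * b', N₂.mul_mem ?_ hb', by group⟩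
    have := hN a'⁻¹ (N₁.inv_mem ha') b hb
    rwa [inv_inv] at this
  inv_mem' := by
    rintro _ ⟨a, ha, b, hb, rfl⟩
    refine ⟨a⁻¹, N₁.inv_mem ha, a * b⁻¹ * a⁻¹, hN a ha _ (N₂.inv_mem hb), by group⟩

theorem mem_prodSub (N₁ N₂ : Subgroup G) (hN : ∀ a ∈ N₁, ∀ b ∈ N₂, a * b * a⁻¹ ∈ N₂) (g : G) :
    g ∈ prodSub N₁ N₂ hN ↔ ∃ a ∈ N₁, ∃ b ∈ N₂, g = a * b := Iff.rfl

theorem left_le_prodSub (N₁ N₂ : Subgroup G) (hN : ∀ a ∈ N₁, ∀ b ∈ N₂, a * b * a⁻¹ ∈ N₂) :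
    N₁ ≤ prodSub N₁ N₂ hN := fun a ha => ⟨a, ha, 1, N₂.one_mem, by rw [mul_one]⟩

theorem right_le_prodSub (N₁ N₂ : Subgroup G) (hN : ∀ a ∈ N₁, ∀ b ∈ N₂, a * b * a⁻¹ ∈ N₂) :
    N₂ ≤ prodSub N₁ N₂ hN := fun b hb => ⟨1, N₁.one_mem, b, hb, by rw [one_mul]⟩

theorem pow_mul_mem (N₂ : Subgroup G) (a b : G) (hb : b ∈ N₂)
    (ha : ∀ m : ℕ, ∀ c ∈ N₂, (a ^ m)⁻¹ * c * a ^ m ∈ N₂) (m : ℕ) :
    ∃ c ∈ N₂, (a * b) ^ m = a ^ m * c := by
  induction m with
  | zero => exact ⟨1, N₂.one_mem, by simp⟩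
  | succ m ih =>
    obtain ⟨c, hc, hm⟩ := ih
    refine ⟨(a ^ 1)⁻¹ * c * a ^ 1 * b, N₂.mul_mem (ha 1 c hc) hb, ?_⟩
    rw [pow_succ, hm, pow_succ, pow_one]
    group

/-- the product of two subgroups of odd order modulo the centre has odd order modulo the centre -/
theorem hodd_prod (N₁ N₂ : Subgroup G) (hN : ∀ a ∈ N₁, ∀ b ∈ N₂, a * b * a⁻¹ ∈ N₂)
    (h1 : ∀ g ∈ N₁, ∃ k, Odd k ∧ g ^ k ∈ Subgroup.center G)
    (h2 : ∀ g ∈ N₂, ∃ k, Odd k ∧ g ^ k ∈ Subgroup.center G) :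
    ∀ g ∈ prodSub N₁ N₂ hN, ∃ k, Odd k ∧ g ^ k ∈ Subgroup.center G := by
  rintro _ ⟨a, ha, b, hb, rfl⟩
  obtain ⟨k, hk, hak⟩ := h1 a ha
  have hconj : ∀ m : ℕ, ∀ c ∈ N₂, (a ^ m)⁻¹ * c * a ^ m ∈ N₂ := by
    intro m c hc
    have := hN (a ^ m)⁻¹ (N₁.inv_mem (N₁.pow_mem ha m)) c hc
    rwa [inv_inv] at this
  obtain ⟨c, hc, hm⟩ := pow_mul_mem N₂ a b hb hconj k
  obtain ⟨k', hk', hck⟩ := h2 c hc
  refine ⟨k * k', hk.mul hk', ?_⟩
  rw [pow_mul, hm]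
  have hcomm : Commute (a ^ k) c := (Subgroup.mem_center_iff.1 hak c).symm
  rw [hcomm.mul_pow]
  exact (Subgroup.center G).mul_mem ((Subgroup.center G).pow_mem hak k') hck

end prod

theorem center_conj_iff {G : Type*} [Group G] (P g : G) :
    P * g * P⁻¹ ∈ Subgroup.center G ↔ g ∈ Subgroup.center G := by
  constructor
  · intro h
    have := (Subgroup.center G).normal_of_characteristic.conj_mem _ h P⁻¹
    have e : P⁻¹ * (P * g * P⁻¹) * P⁻¹⁻¹ = g := by group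
    rwa [e] at this
  · intro h
    exact (Subgroup.center G).normal_of_characteristic.conj_mem _ h P

variable {F : Type*} [Field F] {n : ℕ}

/-- **odd-order subgroups of `SO` normalised by `SO` are central** (`n ≥ 3`) -/
theorem coreO [Fintype F] (h2 : (2 : F) ≠ 0) (hn : 3 ≤ n) (a : Fin n → F)
    (ha : ∀ i, a i ≠ 0) (N : Subgroup (GL (Fin n) F)) (hNS : N ≤ SOa a)
    (hnorm : ∀ t ∈ SOa a, ∀ g ∈ N, t * g * t⁻¹ ∈ N)
    (hodd : ∀ g ∈ N, ∃ k, Odd k ∧ g ^ k ∈ Subgroup.center (GL (Fin n) F)) :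
    N ≤ Subgroup.center (GL (Fin n) F) := by
  classical
  -- the coordinate reflection
  set r : GL (Fin n) F := rg ⟨0, by omega⟩ with hr
  have hrO : r ∈ Oa a := Dfull_le_Oa a (rg_mem _)
  have hrr : r * r = 1 := Dfull_mul_self r (rg_mem _)
  have hrinv : r⁻¹ = r := inv_eq_of_mul_eq_one_right hrr
  have hrdet : r.val.det = -1 := rg_det _
  -- conjugation by an isometry preserves `SO`
  have hSOconj : ∀ e ∈ Oa a, ∀ t ∈ SOa a, e * t * e⁻¹ ∈ SOa a := by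
    intro e he t ht
    refine ⟨(Oa a).mul_mem ((Oa a).mul_mem he ht.1) ((Oa a).inv_mem he), ?_⟩
    have h1 : e.val.det * e⁻¹.val.det = 1 := by
      rw [← Matrix.det_mul, ← Units.val_mul, mul_inv_cancel, Units.val_one, Matrix.det_one]
    rw [Units.val_mul, Units.val_mul, Matrix.det_mul, Matrix.det_mul, ht.2, mul_one, h1]
  -- the conjugate subgroup
  set N' : Subgroup (GL (Fin n) F) := N.map (MulAut.conj r).toMonoidHom with hN'
  have hmemN' : ∀ b, b ∈ N' ↔ r * b * r ∈ N := by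
    intro b
    constructor
    · rintro ⟨b₀, hb₀, rfl⟩
      show r * (r * b₀ * r⁻¹) * r ∈ N
      have : r * (r * b₀ * r⁻¹) * r = (r * r) * b₀ * (r⁻¹ * r) := by group
      rw [this, hrr, inv_mul_cancel, one_mul, mul_one]
      exact hb₀
    · intro h
      refine ⟨r * b * r, h, ?_⟩
      show r * (r * b * r) * r⁻¹ = b
      rw [hrinv]
      calc r * (r * b * r) * r = (r * r) * b * (r * r) := by group
        _ = b := by rw [hrr, one_mul, mul_one]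
  have hN'S : N' ≤ SOa a := by
    intro b hb
    have h1 := hNS ((hmemN' b).1 hb)
    have h3 := hSOconj r hrO _ h1
    have : r * (r * b * r) * r⁻¹ = b := by
      rw [hrinv]
      calc r * (r * b * r) * r = (r * r) * b * (r * r) := by group
        _ = b := by rw [hrr, one_mul, mul_one]
    rwa [this] at h3
  have hnorm' : ∀ t ∈ SOa a, ∀ b ∈ N', t * b * t⁻¹ ∈ N' := by
    intro t ht b hb
    rw [hmemN'] at hb ⊢
    have ht' : r * t * r⁻¹ ∈ SOa a := hSOconj r hrO t ht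
    have := hnorm _ ht' _ hb
    have e : r * t * r⁻¹ * (r * b * r) * (r * t * r⁻¹)⁻¹ = r * (t * b * t⁻¹) * r := by
      calc r * t * r⁻¹ * (r * b * r) * (r * t * r⁻¹)⁻¹
          = r * t * b * (r * r) * t⁻¹ * r⁻¹ := by group
        _ = r * (t * b * t⁻¹) * r := by rw [hrr, mul_one, hrinv]; group
    rwa [e] at this
  have hodd' : ∀ g ∈ N', ∃ k, Odd k ∧ g ^ k ∈ Subgroup.center (GL (Fin n) F) := by
    intro b hb
    obtain ⟨k, hk, hbk⟩ := hodd _ ((hmemN' b).1 hb)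
    refine ⟨k, hk, ?_⟩
    have e : (r * b * r) ^ k = r * b ^ k * r⁻¹ := by
      have := (conj_pow (a := r) (b := b) (i := k))
      rw [hrinv] at this ⊢
      exact this
    rw [e, center_conj_iff] at hbk
    exact hbk
  have hNN' : ∀ x ∈ N, ∀ b ∈ N', x * b * x⁻¹ ∈ N' := fun x hx b hb => hnorm' x (hNS hx) b hb
  set N₀ := prodSub N N' hNN' with hN₀
  have hN₀S : N₀ ≤ SOa a := by
    rintro _ ⟨x, hx, b, hb, rfl⟩
    exact (SOa a).mul_mem (hNS hx) (hN'S hb)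
  have hnorm₀ : ∀ t ∈ SOa a, ∀ g ∈ N₀, t * g * t⁻¹ ∈ N₀ := by
    rintro t ht _ ⟨x, hx, b, hb, rfl⟩
    refine ⟨t * x * t⁻¹, hnorm t ht x hx, t * b * t⁻¹, hnorm' t ht b hb, by group⟩
  -- conjugation by `r` swaps the two factors
  have hrN₀ : ∀ g ∈ N₀, r * g * r⁻¹ ∈ N₀ := by
    rintro _ ⟨x, hx, b, hb, rfl⟩
    have h1 : r * x * r⁻¹ ∈ N' := ⟨x, hx, rfl⟩
    have h3 : r * b * r⁻¹ ∈ N := by
      rw [hrinv]; exact (hmemN' b).1 hb
    have : r * (x * b) * r⁻¹ = (r * x * r⁻¹) * (r * b * r⁻¹) := by group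
    rw [this]
    exact N₀.mul_mem (right_le_prodSub N N' hNN' h1) (left_le_prodSub N N' hNN' h3)
  have hnormD₀ : ∀ e ∈ Dfull n F, ∀ g ∈ N₀, e * g * e⁻¹ ∈ N₀ := by
    intro e he g hg
    rcases Dfull_det e he with hdet | hdet
    · exact hnorm₀ e ⟨Dfull_le_Oa a he, hdet⟩ g hg
    · have hre : r * e ∈ SOa a := by
        refine ⟨(Oa a).mul_mem hrO (Dfull_le_Oa a he), ?_⟩
        rw [Units.val_mul, Matrix.det_mul, hrdet, hdet]
        ring
      have h1 := hnorm₀ _ hre g hg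
      have h3 := hrN₀ _ h1
      have : r * (r * e * g * (r * e)⁻¹) * r⁻¹ = (r * r) * e * g * e⁻¹ * (r * r)⁻¹ := by group
      rw [this, hrr, inv_one, one_mul, mul_one] at h3
      exact h3
  have hodd₀ := hodd_prod N N' hNN' hodd hodd'
  exact le_trans (left_le_prodSub N N' hNN')
    (coreO_full h2 hn a ha N₀ (le_trans hN₀S (SOa_le_Oa a)) hnorm₀ hnormD₀ hodd₀)

end Cfsg.Agent.Lib.Helper8.BalL
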