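import Cfsg.Agent.Lib.Helper8.BalL.Kill

/-!
# The group of diagonal sign matrices (helper8)

`Esub`: diagonal matrices with entries `±1` and determinant one, an elementary abelian 2-subgroup
of `SOa a`; the elements `sg i j` (sign change in the coordinates `i`, `j`).
-/

set_option autoImplicit false

namespace Cfsg.Agent.Lib.Helper8.BalL

open Matrix

variable {F : Type*} [Field F] {n : ℕ}

/-- diagonal with entries `±1` -/
def IsSignDiag (M : Matrix (Fin n) (Fin n) F) : Prop :=
  (∀ u v, u ≠ v → M u v = 0) ∧ (∀ u, M u u = 1 ∨ M u u = -1)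

theorem isSignDiag_one : IsSignDiag (1 : Matrix (Fin n) (Fin n) F) :=
  ⟨fun u v h => Matrix.one_apply_ne h, fun u => Or.inl (Matrix.one_apply_eq u)⟩

theorem mul_apply_of_signDiag (M K : Matrix (Fin n) (Fin n) F) (hM : IsSignDiag M) (u v : Fin n) :
    (M * K) u v = M u u * K u v := by
  rw [Matrix.mul_apply, Finset.sum_eq_single u]
  · intro w _ hw
    rw [hM.1 u w (Ne.symm hw), zero_mul]
  · intro h
    exact absurd (Finset.mem_univ u) h

theorem mul_apply_of_signDiag' (M K : Matrix (Fin n) (Fin n) F) (hK : IsSignDiag K) (u v : Fin n) :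
    (M * K) u v = M u v * K v v := by
  rw [Matrix.mul_apply, Finset.sum_eq_single v]
  · intro w _ hw
    rw [hK.1 w v hw, mul_zero]
  · intro h
    exact absurd (Finset.mem_univ v) h

theorem isSignDiag_mul (M K : Matrix (Fin n) (Fin n) F) (hM : IsSignDiag M) (hK : IsSignDiag K) :
    IsSignDiag (M * K) := by
  constructor
  · intro u v huv
    rw [mul_apply_of_signDiag M K hM, hK.1 u v huv, mul_zero]
  · intro u
    rw [mul_apply_of_signDiag M K hM]
    rcases hM.2 u with h | h <;> rcases hK.2 u with h' | h' <;> rw [h, h']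
    · left; ring
    · right; ring
    · right; ring
    · left; ring

theorem signDiag_mul_self (M : Matrix (Fin n) (Fin n) F) (hM : IsSignDiag M) : M * M = 1 := by
  ext u v
  rw [mul_apply_of_signDiag M M hM]
  by_cases huv : u = v
  · subst huv
    rw [Matrix.one_apply_eq]
    rcases hM.2 u with h | h <;> rw [h] <;> ring
  · rw [hM.1 u v huv, mul_zero, Matrix.one_apply_ne huv]

theorem signDiag_comm (M K : Matrix (Fin n) (Fin n) F) (hM : IsSignDiag M) (hK : IsSignDiag K) :
    M * K = K * M := by
  ext u v
  rw [mul_apply_of_signDiag M K hM, mul_apply_of_signDiag K M hK]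
  by_cases huv : u = v
  · subst huv
    ring
  · rw [hK.1 u v huv, hM.1 u v huv, mul_zero, mul_zero]

theorem signDiag_mulVec (M : Matrix (Fin n) (Fin n) F) (hM : IsSignDiag M) (v : Fin n → F)
    (u : Fin n) : (M *ᵥ v) u = M u u * v u := by
  rw [Matrix.mulVec, dotProduct, Finset.sum_eq_single u]
  · intro w _ hw
    rw [hM.1 u w (Ne.symm hw), zero_mul]
  · intro h
    exact absurd (Finset.mem_univ u) h

/-- the diagonal sign matrices of determinant one -/
def Esub (n : ℕ) (F : Type*) [Field F] : Subgroup (GL (Fin n) F) where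
  carrier := {g | IsSignDiag g.val ∧ g.val.det = 1}
  one_mem' := ⟨by rw [Units.val_one]; exact isSignDiag_one, by rw [Units.val_one, Matrix.det_one]⟩
  mul_mem' := by
    rintro g h ⟨hg, hg'⟩ ⟨hh, hh'⟩
    refine ⟨?_, ?_⟩
    · rw [Units.val_mul]
      exact isSignDiag_mul _ _ hg hh
    · rw [Units.val_mul, Matrix.det_mul, hg', hh', one_mul]
  inv_mem' := by
    rintro g ⟨hg, hg'⟩
    have : g⁻¹ = g := by
      apply inv_eq_of_mul_eq_one_right
      apply Units.ext
      rw [Units.val_mul, Units.val_one]
      exact signDiag_mul_self _ hg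
    rw [this]
    exact ⟨hg, hg'⟩

theorem mem_Esub (g : GL (Fin n) F) : g ∈ Esub n F ↔ IsSignDiag g.val ∧ g.val.det = 1 := Iff.rfl

theorem Esub_le_SOa (a : Fin n → F) : Esub n F ≤ SOa a := by
  rintro g ⟨hg, hg'⟩
  refine ⟨?_, hg'⟩
  intro u v
  unfold bD
  apply Finset.sum_congr rfl
  intro i _
  rw [signDiag_mulVec _ hg, signDiag_mulVec _ hg]
  rcases hg.2 i with h | h <;> rw [h] <;> ring

theorem Esub_mul_self (g : GL (Fin n) F) (hg : g ∈ Esub n F) : g * g = 1 := by
  apply Units.ext
  rw [Units.val_mul, Units.val_one]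
  exact signDiag_mul_self _ hg.1

theorem Esub_comm (g h : GL (Fin n) F) (hg : g ∈ Esub n F) (hh : h ∈ Esub n F) :
    g * h = h * g := by
  apply Units.ext
  rw [Units.val_mul, Units.val_mul]
  exact signDiag_comm _ _ hg.1 hh.1

/-! ### the sign change in two coordinates -/

/-- the matrix changing the sign of the coordinates `i` and `j` -/
def sgM (i j : Fin n) : Matrix (Fin n) (Fin n) F :=
  Matrix.diagonal (fun u => if u = i ∨ u = j then -1 else 1)

theorem isSignDiag_sgM (i j : Fin n) : IsSignDiag (sgM (F := F) i j) := by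
  constructor
  · intro u v huv
    exact Matrix.diagonal_apply_ne _ huv
  · intro u
    unfold sgM
    rw [Matrix.diagonal_apply_eq]
    split_ifs
    · right; rfl
    · left; rfl

theorem sgM_apply_eq (i j u : Fin n) :
    sgM (F := F) i j u u = if u = i ∨ u = j then -1 else 1 := by
  unfold sgM
  rw [Matrix.diagonal_apply_eq]

theorem sgM_det (i j : Fin n) (hij : i ≠ j) : (sgM (F := F) i j).det = 1 := by
  classical
  unfold sgM
  rw [Matrix.det_diagonal]
  have h1 : ∀ u : Fin n, (if u = i ∨ u = j then (-1 : F) else 1) =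
      (if u = i then (-1 : F) else 1) * (if u = j then (-1 : F) else 1) := by
    intro u
    by_cases hui : u = i
    · subst hui
      rw [if_pos (Or.inl rfl), if_pos rfl, if_neg hij, mul_one]
    · by_cases huj : u = j
      · subst huj
        rw [if_pos (Or.inr rfl), if_neg hui, if_pos rfl, one_mul]
      · rw [if_neg (by tauto), if_neg hui, if_neg huj, one_mul]
  simp_rw [h1]
  rw [Finset.prod_mul_distrib, Finset.prod_ite_eq' Finset.univ i (fun _ => (-1 : F)),
    Finset.prod_ite_eq' Finset.univ j (fun _ => (-1 : F))]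
  simp

/-- the sign change in the coordinates `i`, `j`, as an invertible matrix -/
def sg (i j : Fin n) : GL (Fin n) F :=
  ⟨sgM i j, sgM i j, signDiag_mul_self _ (isSignDiag_sgM i j),
    signDiag_mul_self _ (isSignDiag_sgM i j)⟩

theorem sg_val (i j : Fin n) : (sg (F := F) i j).val = sgM i j := rfl

theorem sg_mem (i j : Fin n) (hij : i ≠ j) : sg (F := F) i j ∈ Esub n F :=
  ⟨isSignDiag_sgM i j, sgM_det i j hij⟩

theorem sg_mul_self (i j : Fin n) : sg (F := F) i j * sg i j = 1 := by
  apply Units.ext
  rw [Units.val_mul, Units.val_one]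
  exact signDiag_mul_self _ (isSignDiag_sgM i j)

/-- the product of two sign changes with a common coordinate -/
theorem sg_mul_sg (i j k : Fin n) (hij : i ≠ j) (hik : i ≠ k) (hjk : j ≠ k) :
    sg (F := F) i j * sg i k = sg j k := by
  apply Units.ext
  rw [Units.val_mul, sg_val, sg_val, sg_val]
  ext u v
  rw [mul_apply_of_signDiag _ _ (isSignDiag_sgM i j)]
  by_cases huv : u = v
  · subst huv
    rw [sgM_apply_eq, sgM_apply_eq, sgM_apply_eq]
    by_cases hui : u = i
    · subst hui
      rw [if_pos (Or.inl rfl), if_pos (Or.inl rfl), if_neg (by tauto)]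
      ring
    · by_cases huj : u = j
      · subst huj
        rw [if_pos (Or.inr rfl), if_neg (by tauto), if_pos (Or.inl rfl)]
        ring
      · by_cases huk : u = k
        · subst huk
          rw [if_neg (by tauto), if_pos (Or.inr rfl), if_pos (Or.inr rfl)]
          ring
        · rw [if_neg (by tauto), if_neg (by tauto), if_neg (by tauto)]
          ring
  · rw [(isSignDiag_sgM i k).1 u v huv, (isSignDiag_sgM j k).1 u v huv, mul_zero]

/-- commuting with a sign change separates the two coordinates from the others -/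
theorem sep_of_comm (h2 : (2 : F) ≠ 0) (M : Matrix (Fin n) (Fin n) F) (i j : Fin n)
    (h : M * sgM i j = sgM i j * M) (u v : Fin n) (hu : u = i ∨ u = j) (hv : ¬ (v = i ∨ v = j)) :
    M u v = 0 ∧ M v u = 0 := by
  have e1 := congrFun (congrFun h u) v
  have e2 := congrFun (congrFun h v) u
  rw [mul_apply_of_signDiag' _ _ (isSignDiag_sgM i j), mul_apply_of_signDiag _ _ (isSignDiag_sgM i j),
    sgM_apply_eq, sgM_apply_eq, if_pos hu, if_neg hv] at e1
  rw [mul_apply_of_signDiag' _ _ (isSignDiag_sgM i j), mul_apply_of_signDiag _ _ (isSignDiag_sgM i j),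
    sgM_apply_eq, sgM_apply_eq, if_pos hu, if_neg hv] at e2
  constructor
  · have : (2 : F) * M u v = 0 := by linear_combination e1
    rcases mul_eq_zero.1 this with h' | h'
    · exact absurd h' h2
    · exact h'
  · have : (2 : F) * M v u = 0 := by linear_combination -e2
    rcases mul_eq_zero.1 this with h' | h'
    · exact absurd h' h2
    · exact h'

end Cfsg.Agent.Lib.Helper8.BalL
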