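import Cfsg.Agent.Lib.Helper8.BalL.UA
import Cfsg.Agent.Lib.Helper8.BalL.Sign
import Cfsg.Agent.Lib.Helper7.AutPSL.GraphFieldPGU
import Cfsg.Agent.S0283

/-!
# Graph-field involutions of `PSL_n`: odd-order normal subgroups of the unitary group (helper8)
-/

set_option autoImplicit false

namespace Cfsg.Agent.Lib.Helper8.BalL

open Matrix Cfsg Cfsg.Agent.AutPSLCount Cfsg.Agent.Lib.H7AutPSL

variable {F : Type*} [Field F] {n : ℕ}

/-! ### the unitary group as a fixed-point subgroup -/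

/-- the automorphism `s ↦ σ(s)⁻ᵀ` of `SL_n` -/
def θU (σ : RingAut F) : MulAut (SLn n F) := fieldSL σ * itSL

theorem θU_val (σ : RingAut F) (s : SLn n F) : (θU σ s).val = ((s⁻¹).valᵀ).map σ := rfl

theorem phΓ_pr (σ : RingAut F) (s : SLn n F) :
    (Ph σ * Γ : MulAut (PSLn n F)) (pr s) = pr (θU σ s) := rfl

/-- the special unitary group -/
def SUs (σ : RingAut F) : Subgroup (SLn n F) :=
  (θU σ).toMonoidHom.eqLocus (MonoidHom.id (SLn n F))

theorem mem_SUs (σ : RingAut F) (s : SLn n F) : s ∈ SUs σ ↔ θU σ s = s := Iff.rfl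

theorem isU_iff (σ : RingAut F) (hσσ : ∀ t, σ (σ t) = t) (s : SLn n F) :
    IsU σ s ↔ θU σ s = s := by
  have h1 : s.val * (s⁻¹).val = 1 := by
    rw [← Matrix.SpecialLinearGroup.coe_mul, mul_inv_cancel, Matrix.SpecialLinearGroup.coe_one]
  have hmm : ∀ M : Matrix (Fin n) (Fin n) F, (M.map σ).map σ = M := by
    intro M
    ext i j
    rw [Matrix.map_apply, Matrix.map_apply, hσσ]
  constructor
  · intro h
    unfold IsU at h
    have h2 : (s.val.map σ)ᵀ = (s⁻¹).val := by
      calc (s.val.map σ)ᵀ = ((s⁻¹).val * s.val) * (s.val.map σ)ᵀ := by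
            rw [← Matrix.SpecialLinearGroup.coe_mul, inv_mul_cancel,
              Matrix.SpecialLinearGroup.coe_one, Matrix.one_mul]
        _ = (s⁻¹).val := by rw [Matrix.mul_assoc, h, Matrix.mul_one]
    apply Subtype.ext
    rw [θU_val, ← h2, Matrix.transpose_transpose, hmm]
  · intro h
    have h2 := congrArg Subtype.val h
    rw [θU_val] at h2
    unfold IsU
    have h3 : s.val.map σ = (s⁻¹).valᵀ := by
      calc s.val.map σ = (((s⁻¹).valᵀ).map σ).map σ := by rw [h2]
        _ = (s⁻¹).valᵀ := hmm _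
    rw [h3, Matrix.transpose_transpose]
    exact h1

/-- the link with the unitary group of the statements -/
theorem mem_SU_iff_isU (σ : RingAut F) (q : ℕ) (hfrob : ∀ t : F, σ t = t ^ q) (s : SLn n F) :
    s ∈ Cfsg.SU n F q ↔ IsU σ s := by
  have : s ∈ Cfsg.SU n F q ↔ Matrix.SpecialLinearGroup.toGL s ∈ Cfsg.GU n F q := Iff.rfl
  rw [this, mem_GU_iff σ q hfrob]
  rfl

/-! ### the sign involution -/

/-- the diagonal involution `diag(-1, -1, 1, …, 1)` -/
def sgSL (i j : Fin n) (hij : i ≠ j) : SLn n F := ⟨sgM i j, sgM_det i j hij⟩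

theorem sgSL_val (i j : Fin n) (hij : i ≠ j) : (sgSL (F := F) i j hij).val = sgM i j := rfl

theorem sgSL_isU (σ : RingAut F) (i j : Fin n) (hij : i ≠ j) : IsU σ (sgSL (F := F) i j hij) := by
  unfold IsU
  rw [sgSL_val]
  have e : ((sgM (F := F) i j).map σ)ᵀ = sgM i j := by
    ext u v
    rw [Matrix.transpose_apply, Matrix.map_apply]
    unfold sgM
    by_cases huv : v = u
    · subst huv
      rw [Matrix.diagonal_apply_eq]
      split_ifs
      · rw [map_neg, map_one]
      · rw [map_one]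
    · rw [Matrix.diagonal_apply_ne _ huv, Matrix.diagonal_apply_ne _ (Ne.symm huv), map_zero]
  rw [e]
  exact signDiag_mul_self _ (isSignDiag_sgM i j)

theorem sgSL_sq (i j : Fin n) (hij : i ≠ j) :
    sgSL (F := F) i j hij * sgSL i j hij = 1 := by
  apply Subtype.ext
  rw [Matrix.SpecialLinearGroup.coe_mul, Matrix.SpecialLinearGroup.coe_one, sgSL_val]
  exact signDiag_mul_self _ (isSignDiag_sgM i j)

theorem sgSL_pow_odd (i j : Fin n) (hij : i ≠ j) (k : ℕ) (hk : Odd k) :
    sgSL (F := F) i j hij ^ k = sgSL i j hij := by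
  obtain ⟨l, rfl⟩ := hk
  rw [pow_succ, pow_mul, pow_two, sgSL_sq, one_pow, one_mul]

theorem sgSL_not_scalar (h2 : (2 : F) ≠ 0) (i j l : Fin n) (hij : i ≠ j) (hli : l ≠ i)
    (hlj : l ≠ j) (c : F) : (sgSL (F := F) i j hij).val ≠ c • (1 : Matrix (Fin n) (Fin n) F) := by
  intro h
  have e1 := congrFun (congrFun h i) i
  have e2 := congrFun (congrFun h l) l
  rw [sgSL_val, sgM_apply_eq, Matrix.smul_apply, Matrix.one_apply_eq, smul_eq_mul, mul_one] at e1 e2
  rw [if_pos (Or.inl rfl)] at e1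
  rw [if_neg (by rintro (h' | h'); exact hli h'; exact hlj h')] at e2
  apply h2
  rw [← e1] at e2
  linear_combination e2

/-! ### elements commuting with the unitary group -/

section core

variable [Fintype F] (σ : RingAut F) (hσ2 : σ ^ 2 = 1) (hσ1 : σ ≠ 1)

include hσ2 hσ1 in
/-- an element of `SL_n` commuting with the unitary group is a scalar -/
theorem scalar_of_comm_U (h2 : (2 : F) ≠ 0) (hn : 3 ≤ n) (x : SLn n F)
    (hx : ∀ s : SLn n F, IsU σ s → x * s = s * x) :
    ∃ c : F, x.val = c • (1 : Matrix (Fin n) (Fin n) F) := by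
  have hxu : IsUnit x.val := by
    rw [Matrix.isUnit_iff_isUnit_det, x.2]
    exact isUnit_one
  have H : ∀ s : SLn n F, IsU σ s → ∃ ζ : F, x.val * s.val.map (RingHom.id F) =
      ζ • (s.val * x.val) := by
    intro s hs
    refine ⟨1, ?_⟩
    have e : s.val.map (RingHom.id F) = s.val := by
      ext i j
      rfl
    rw [e, one_smul, ← Matrix.SpecialLinearGroup.coe_mul, hx s hs,
      Matrix.SpecialLinearGroup.coe_mul]
  exact (centU_matrix σ hσ2 hσ1 h2 hn x.val hxu (RingHom.id F) H).2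

omit [Fintype F] in
theorem mem_center_of_scalar (x : SLn n F) (c : F)
    (hc : x.val = c • (1 : Matrix (Fin n) (Fin n) F)) : x ∈ Subgroup.center (SLn n F) := by
  rw [Matrix.SpecialLinearGroup.mem_center_iff]
  refine ⟨c, ?_, ?_⟩
  · have hdet := x.2
    rw [hc, Matrix.det_smul, Matrix.det_one, mul_one] at hdet
    exact hdet
  · rw [hc]
    ext u v
    simp [Matrix.scalar_apply, Matrix.diagonal_apply, Matrix.one_apply]

include hσ2 hσ1 in
/-- **odd-order normal subgroups of the special unitary group are central** -/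
theorem coreU (h2 : (2 : F) ≠ 0) (hn : 3 ≤ n) (N : Subgroup (SLn n F))
    (hNU : ∀ s ∈ N, IsU σ s)
    (hnorm : ∀ t : SLn n F, IsU σ t → ∀ s ∈ N, t * s * t⁻¹ ∈ N)
    (k : ℕ) (hk : Odd k) (hodd : ∀ s ∈ N, s ^ k ∈ Subgroup.center (SLn n F)) :
    N ≤ Subgroup.center (SLn n F) := by
  classical
  have hσσ := aut_sq_apply σ hσ2
  -- the field has `q ^ 2` elements and `σ` is the `q`-th power map
  obtain ⟨r, hr⟩ := CharP.exists F
  have : Fact r.Prime := ⟨CharP.char_is_prime F r⟩
  obtain ⟨f, hf⟩ := FiniteField.card F r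
  obtain ⟨hfe, hfrob⟩ := involution_eq_frob r f hf.2 σ hσ2 hσ1
  set q := r ^ ((f : ℕ) / 2) with hq
  have hFq : Fintype.card F = q ^ 2 := by
    rw [hf.2, hq, ← pow_mul]
    congr 1
    obtain ⟨m, hm⟩ := hfe
    omega
  have hr2 : r ≠ 2 := by
    rintro rfl
    apply h2
    exact_mod_cast CharP.cast_eq_zero F 2
  have hq2 : q ≠ 2 := by
    intro h
    have hdvd : r ∣ 2 := by
      rw [← h, hq]
      apply dvd_pow_self
      intro h0
      rw [hq, h0, pow_zero] at h
      omega
    have := (Nat.prime_dvd_prime_iff_eq hf.1 Nat.prime_two).1 hdvd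
    exact hr2 this
  have hsimple := Cfsg.Agent.S0283.result hFq n hn (fun h => hq2 h.2)
  have hmemSU : ∀ s : SLn n F, s ∈ Cfsg.SU n F q ↔ IsU σ s := mem_SU_iff_isU σ q hfrob
  -- the normal subgroup of `SU`
  let N' : Subgroup ↥(Cfsg.SU n F q) := N.subgroupOf (Cfsg.SU n F q)
  have hN'normal : N'.Normal := by
    constructor
    intro s hs t
    rw [Subgroup.mem_subgroupOf] at hs ⊢
    exact hnorm t.1 ((hmemSU _).1 t.2) _ hs
  have hNbar : (N'.map (QuotientGroup.mk' (Subgroup.center ↥(Cfsg.SU n F q)))).Normal :=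
    Subgroup.Normal.map hN'normal _ (QuotientGroup.mk'_surjective _)
  -- central in `SU` implies scalar
  have hcen : ∀ s : ↥(Cfsg.SU n F q), s ∈ Subgroup.center ↥(Cfsg.SU n F q) →
      s.1 ∈ Subgroup.center (SLn n F) := by
    intro s hs
    obtain ⟨c, hc⟩ := scalar_of_comm_U σ hσ2 hσ1 h2 hn s.1 (by
      intro t ht
      have := Subgroup.mem_center_iff.1 hs ⟨t, (hmemSU t).2 ht⟩
      exact (congrArg Subtype.val this).symm)
    exact mem_center_of_scalar _ c hc
  rcases hNbar.eq_bot_or_eq_top with hbot | htop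
  · intro s hs
    have hsU : s ∈ Cfsg.SU n F q := (hmemSU s).2 (hNU s hs)
    have h1 : QuotientGroup.mk' (Subgroup.center ↥(Cfsg.SU n F q)) ⟨s, hsU⟩ ∈
        N'.map (QuotientGroup.mk' (Subgroup.center ↥(Cfsg.SU n F q))) :=
      Subgroup.mem_map_of_mem _ (by rw [Subgroup.mem_subgroupOf]; exact hs)
    rw [hbot, Subgroup.mem_bot] at h1
    exact hcen ⟨s, hsU⟩ ((QuotientGroup.eq_one_iff _).1 h1)
  · exfalso
    -- the sign involution is a product of an element of `N` and a central element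
    have h01 : (⟨0, by omega⟩ : Fin n) ≠ ⟨1, by omega⟩ := by
      intro h'; simpa using congrArg Fin.val h'
    have h20 : (⟨2, by omega⟩ : Fin n) ≠ ⟨0, by omega⟩ := by
      intro h'; simpa using congrArg Fin.val h'
    have h21 : (⟨2, by omega⟩ : Fin n) ≠ ⟨1, by omega⟩ := by
      intro h'; simpa using congrArg Fin.val h'
    set d : SLn n F := sgSL ⟨0, by omega⟩ ⟨1, by omega⟩ h01 with hd
    have hdU : d ∈ Cfsg.SU n F q := (hmemSU d).2 (sgSL_isU σ _ _ h01)
    have h1 : QuotientGroup.mk' (Subgroup.center ↥(Cfsg.SU n F q)) ⟨d, hdU⟩ ∈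
        N'.map (QuotientGroup.mk' (Subgroup.center ↥(Cfsg.SU n F q))) := by
      rw [htop]; trivial
    obtain ⟨m, hm0, hmd⟩ := h1
    have hm : (m : SLn n F) ∈ N := hm0
    have hz : m⁻¹ * ⟨d, hdU⟩ ∈ Subgroup.center ↥(Cfsg.SU n F q) := by
      rw [← QuotientGroup.eq_one_iff, ← QuotientGroup.mk'_apply, map_mul, map_inv, hmd,
        inv_mul_cancel]
    set z := m⁻¹ * (⟨d, hdU⟩ : ↥(Cfsg.SU n F q)) with hzdef
    have hdm : (⟨d, hdU⟩ : ↥(Cfsg.SU n F q)) = m * z := by rw [hzdef, mul_inv_cancel_left]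
    have hcomm : Commute m z := Subgroup.mem_center_iff.1 hz m
    have hdk : (⟨d, hdU⟩ : ↥(Cfsg.SU n F q)) ^ k = m ^ k * z ^ k := by
      rw [hdm, hcomm.mul_pow]
    have hzk : z ^ k ∈ Subgroup.center ↥(Cfsg.SU n F q) := Subgroup.pow_mem _ hz k
    have hmk : (m ^ k).1 ∈ Subgroup.center (SLn n F) := by
      rw [Subgroup.coe_pow]
      exact hodd _ hm
    have hdval : d = (m ^ k).1 * (z ^ k).1 := by
      have := congrArg Subtype.val hdk
      rw [Subgroup.coe_pow, Subgroup.coe_mul] at this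
      rw [← this]
      exact (sgSL_pow_odd _ _ h01 k hk).symm
    -- so the sign involution commutes with the unitary group
    obtain ⟨c, hc⟩ := scalar_of_comm_U σ hσ2 hσ1 h2 hn d (by
      intro t ht
      have hzt := Subgroup.mem_center_iff.1 hzk ⟨t, (hmemSU t).2 ht⟩
      have hzt' : t * (z ^ k).1 = (z ^ k).1 * t := congrArg Subtype.val hzt
      have hmt : t * (m ^ k).1 = (m ^ k).1 * t := Subgroup.mem_center_iff.1 hmk t
      rw [hdval]
      calc (m ^ k).1 * (z ^ k).1 * t = (m ^ k).1 * (t * (z ^ k).1) := by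
            rw [mul_assoc, hzt']
        _ = t * ((m ^ k).1 * (z ^ k).1) := by rw [← mul_assoc, ← hmt, mul_assoc])
    exact sgSL_not_scalar h2 _ _ ⟨2, by omega⟩ h01 h20 h21 c hc

end core

end Cfsg.Agent.Lib.Helper8.BalL
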