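import Cfsg.Agent.Lib.Helper8.BalL.OddE

/-!
# Rotations as products of two reflections, with their matrix entries (helper8)
-/

set_option autoImplicit false

namespace Cfsg.Agent.Lib.Helper8.BalL

open Matrix

variable {F : Type*} [Field F] {n : ℕ}

/-- the product of the reflection along `e_i` and the reflection along `w` -/
noncomputable def rot (a : Fin n → F) (i : Fin n) (w : Fin n → F) : GL (Fin n) F :=
  rfG a (Pi.single i 1) * rfG a w

theorem bD_single_self (a : Fin n → F) (i : Fin n) :
    bD a (Pi.single i 1) (Pi.single i 1) = a i := by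
  rw [bD_single_left, Pi.single_eq_same, mul_one, mul_one]

theorem rot_mem (a : Fin n → F) (ha : ∀ i, a i ≠ 0) (i : Fin n) (w : Fin n → F)
    (hw : bD a w w ≠ 0) : rot a i w ∈ SOa a := by
  refine ⟨(Oa a).mul_mem (rfG_mem a _) (rfG_mem a w), ?_⟩
  unfold rot
  rw [Units.val_mul, Matrix.det_mul, rfG_det a _ (by rw [bD_single_self]; exact ha i),
    rfG_det a w hw]
  ring

theorem rot_apply (a : Fin n → F) (ha : ∀ i, a i ≠ 0) (i : Fin n) (w : Fin n → F)
    (hw : bD a w w ≠ 0) (u v : Fin n) :
    (rot a i w).val u v = (if u = i then -1 else 1) *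
      ((if u = v then 1 else 0) - 2 * a v * w v * w u / bD a w w) := by
  have hi : bD a (Pi.single i (1 : F)) (Pi.single i 1) ≠ 0 := by
    rw [bD_single_self]; exact ha i
  have h1 : (rot a i w).val u v = ((rot a i w).val *ᵥ Pi.single v 1) u := by
    rw [Matrix.mulVec_single_one]; rfl
  rw [h1]
  unfold rot
  rw [Units.val_mul, ← Matrix.mulVec_mulVec, rfG_mulVec a w hw, rfG_mulVec a _ hi]
  unfold rfv
  rw [bD_single_right, bD_single_self, bD_single_left]
  simp only [Pi.sub_apply, Pi.smul_apply, smul_eq_mul, Pi.single_apply]
  have hai := ha i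
  by_cases hui : u = i
  · subst hui
    by_cases huv : u = v
    · subst huv
      simp only [if_true]
      field_simp
      ring
    · simp only [if_true, if_neg huv]
      field_simp
      ring
  · rw [if_neg hui, if_neg hui, mul_zero, sub_zero, one_mul]
    ring

/-- the entries of the image of a rotation under a field automorphism -/
theorem rot_map_apply (a : Fin n → F) (i : Fin n) (w : Fin n → F) (τ : F ≃+* F) (u v : Fin n) :
    ((rot a i w).val.map τ) u v = τ ((rot a i w).val u v) := rfl

/-- the sign change in two coordinates is a rotation -/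
theorem rot_single (a : Fin n → F) (ha : ∀ i, a i ≠ 0) (i j : Fin n) (hij : i ≠ j) :
    rot a i (Pi.single j 1) = sg i j := by
  have hj : bD a (Pi.single j (1 : F)) (Pi.single j 1) ≠ 0 := by
    rw [bD_single_self]; exact ha j
  apply Units.ext
  ext u v
  rw [rot_apply a ha i _ hj, sg_val, bD_single_self]
  have haj := ha j
  by_cases huv : u = v
  · subst huv
    rw [sgM_apply_eq, if_pos rfl]
    by_cases hui : u = i
    · subst hui
      rw [if_pos rfl, if_pos (Or.inl rfl), Pi.single_eq_of_ne hij]
      ring
    · rw [if_neg hui]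
      by_cases huj : u = j
      · subst huj
        rw [if_pos (Or.inr rfl), Pi.single_eq_same]
        field_simp
        ring
      · rw [if_neg (by tauto), Pi.single_eq_of_ne huj]
        ring
  · rw [(isSignDiag_sgM i j).1 u v huv, if_neg huv]
    by_cases huj : u = j
    · subst huj
      rw [Pi.single_eq_of_ne (Ne.symm huv)]
      ring
    · rw [Pi.single_eq_of_ne huj]
      ring

end Cfsg.Agent.Lib.Helper8.BalL
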