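import Cfsg.Agent.Lib.Helper8.BalL.CentA

/-!
# The centraliser of the special orthogonal group in the semilinear group: matrices (helper8)

If `h τ(s) h⁻¹` is a scalar multiple of `s` for every `s ∈ SO(a)` (`a = (1, …, 1, d)`, `n ≥ 3`)
then `τ = 1` and `h` is a scalar matrix.
-/

set_option autoImplicit false

namespace Cfsg.Agent.Lib.Helper8.BalL

open Matrix

theorem conj_central {G : Type*} [Group G] (z s x : G) (hz : z ∈ Subgroup.center G) :
    (z * s) * x * (z * s)⁻¹ = s * x * s⁻¹ := by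
  have c : ∀ y : G, z * y = y * z := fun y => (Subgroup.mem_center_iff.1 hz y).symm
  calc (z * s) * x * (z * s)⁻¹ = z * (s * x * s⁻¹) * z⁻¹ := by group
    _ = (s * x * s⁻¹) * z * z⁻¹ := by rw [c]
    _ = s * x * s⁻¹ := by group

/-- the commutator map with central values kills commutators -/
theorem comm_of_qc {G : Type*} [Group G] (h s₁ s₂ : G)
    (h1 : h * s₁ * h⁻¹ * s₁⁻¹ ∈ Subgroup.center G)
    (h2 : h * s₂ * h⁻¹ * s₂⁻¹ ∈ Subgroup.center G) :
    h * (s₁ * s₂ * s₁⁻¹ * s₂⁻¹) = (s₁ * s₂ * s₁⁻¹ * s₂⁻¹) * h := by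
  set z₁ := h * s₁ * h⁻¹ * s₁⁻¹ with hz₁
  set z₂ := h * s₂ * h⁻¹ * s₂⁻¹ with hz₂
  have c2 : ∀ x : G, z₂ * x = x * z₂ := fun x => (Subgroup.mem_center_iff.1 h2 x).symm
  have e1 : h * s₁ * h⁻¹ = z₁ * s₁ := by rw [hz₁]; group
  have e2 : h * s₂ * h⁻¹ = z₂ * s₂ := by rw [hz₂]; group
  have key : h * (s₁ * s₂ * s₁⁻¹ * s₂⁻¹) * h⁻¹ = s₁ * s₂ * s₁⁻¹ * s₂⁻¹ := by
    calc h * (s₁ * s₂ * s₁⁻¹ * s₂⁻¹) * h⁻¹
        = (h * s₁ * h⁻¹) * (h * s₂ * h⁻¹) * (h * s₁ * h⁻¹)⁻¹ * (h * s₂ * h⁻¹)⁻¹ := by group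
      _ = (z₁ * s₁) * (z₂ * s₂) * (z₁ * s₁)⁻¹ * (z₂ * s₂)⁻¹ := by rw [e1, e2]
      _ = s₁ * (z₂ * s₂) * s₁⁻¹ * (z₂ * s₂)⁻¹ := by rw [conj_central z₁ s₁ _ h1]
      _ = (z₂ * (s₁ * s₂ * s₁⁻¹ * s₂⁻¹)) * z₂⁻¹ := by
          have : s₁ * (z₂ * s₂) = z₂ * (s₁ * s₂) := by
            rw [← mul_assoc, ← c2 s₁, mul_assoc]
          rw [this]
          group
      _ = s₁ * s₂ * s₁⁻¹ * s₂⁻¹ := by
          rw [c2]
          group
  calc h * (s₁ * s₂ * s₁⁻¹ * s₂⁻¹) = h * (s₁ * s₂ * s₁⁻¹ * s₂⁻¹) * h⁻¹ * h := by group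
    _ = (s₁ * s₂ * s₁⁻¹ * s₂⁻¹) * h := by rw [key]

variable {F : Type*} [Field F] {n : ℕ}

theorem inv_mulVec_mulVec (P : GL (Fin n) F) (x : Fin n → F) :
    P⁻¹.val *ᵥ (P.val *ᵥ x) = x := by
  rw [Matrix.mulVec_mulVec, ← Units.val_mul, inv_mul_cancel, Units.val_one, Matrix.one_mulVec]

theorem sgM_map (τ : F ≃+* F) (i j : Fin n) : (sgM (F := F) i j).map τ = sgM i j := by
  unfold sgM
  rw [Matrix.diagonal_map (map_zero τ)]
  congr 1
  funext u
  show τ (if u = i ∨ u = j then -1 else 1) = _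
  split_ifs
  · rw [map_neg, map_one]
  · rw [map_one]

theorem bD_pair (a : Fin n → F) (j k : Fin n) (hjk : j ≠ k) (t : F) :
    bD a (Pi.single j 1 + t • Pi.single k 1) (Pi.single j 1 + t • Pi.single k 1) =
      a j + a k * t ^ 2 := by
  rw [bD_add_left, bD_add_right, bD_add_right, bD_smul_left, bD_smul_left, bD_smul_right,
    bD_smul_right, bD_single_left, bD_single_left, bD_single_left, bD_single_left,
    Pi.single_eq_same, Pi.single_eq_same, Pi.single_eq_of_ne hjk, Pi.single_eq_of_ne hjk.symm]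
  ring

section cent

variable (h2 : (2 : F) ≠ 0) (hn : 3 ≤ n) (a : Fin n → F) (ha : ∀ i, a i ≠ 0)
  (h : GL (Fin n) F) (τ : F ≃+* F)
  (H : ∀ s ∈ SOa a, ∃ ζ : F, h.val * s.val.map τ = ζ • (s.val * h.val))

include H in
/-- for an element with entries fixed by `τ`, the commutator with `h` is central -/
theorem qc_center (s : GL (Fin n) F) (hs : s ∈ SOa a) (hfix : s.val.map τ = s.val) :
    h * s * h⁻¹ * s⁻¹ ∈ Subgroup.center (GL (Fin n) F) := by
  obtain ⟨ζ, hζ⟩ := H s hs
  rw [hfix] at hζ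
  rw [Matrix.GeneralLinearGroup.mem_center_iff_val_mem_range_scalar]
  refine ⟨ζ, ?_⟩
  rw [Units.val_mul, Units.val_mul, Units.val_mul, hζ]
  have h1 : h.val * h⁻¹.val = 1 := by rw [← Units.val_mul, mul_inv_cancel, Units.val_one]
  have h3 : s.val * s⁻¹.val = 1 := by rw [← Units.val_mul, mul_inv_cancel, Units.val_one]
  rw [Matrix.smul_mul, Matrix.smul_mul, Matrix.mul_assoc s.val, h1, Matrix.mul_one, h3]
  ext u v
  simp [Matrix.scalar_apply, Matrix.diagonal_apply, Matrix.one_apply]

include H in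
/-- the scalar attached to an element with fixed entries -/
theorem qc_fixed (s : GL (Fin n) F) (hs : s ∈ SOa a) (hfix : s.val.map τ = s.val) :
    ∃ ζ : F, h.val * s.val = ζ • (s.val * h.val) := by
  obtain ⟨ζ, hζ⟩ := H s hs
  rw [hfix] at hζ
  exact ⟨ζ, hζ⟩

include h2 ha in
/-- the quarter turn in a plane with equal coefficients -/
theorem quarter_apply (j k : Fin n) (hjk : j ≠ k) (haj : a j = 1) (hak : a k = 1) (u v : Fin n) :
    (rot a j (Pi.single j 1 + (1 : F) • Pi.single k 1)).val u v =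
      (if u = j then -1 else 1) * ((if u = v then 1 else 0) -
        ((if v = j then 1 else 0) + (if v = k then 1 else 0)) *
        ((if u = j then 1 else 0) + (if u = k then 1 else 0))) := by
  have hQ : bD a (Pi.single j 1 + (1 : F) • Pi.single k 1)
      (Pi.single j 1 + (1 : F) • Pi.single k 1) = 2 := by
    rw [bD_pair a j k hjk, haj, hak]; ring
  rw [rot_apply a ha j _ (by rw [hQ]; exact h2), hQ]
  simp only [Pi.add_apply, Pi.smul_apply, smul_eq_mul, one_mul, Pi.single_apply]
  by_cases hvj : v = j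
  · subst hvj
    rw [haj, if_pos rfl, if_neg hjk]
    field_simp
  · by_cases hvk : v = k
    · subst hvk
      rw [hak, if_neg hvj, if_pos rfl]
      field_simp
    · rw [if_neg hvj, if_neg hvk]
      ring

/-- the quarter turn of the plane `(j, k)` -/
noncomputable def quarter (j k : Fin n) : GL (Fin n) F :=
  rot a j (Pi.single j 1 + (1 : F) • Pi.single k 1)

include h2 ha in
theorem quarter_mem (j k : Fin n) (hjk : j ≠ k) (haj : a j = 1) (hak : a k = 1) :
    quarter a j k ∈ SOa a := by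
  apply rot_mem a ha
  rw [bD_pair a j k hjk, haj, hak]
  intro h
  apply h2
  linear_combination h

include h2 ha in
theorem quarter_map (j k : Fin n) (hjk : j ≠ k) (haj : a j = 1) (hak : a k = 1) :
    (quarter a j k).val.map τ = (quarter a j k).val := by
  ext u v
  show τ ((quarter a j k).val u v) = (quarter a j k).val u v
  unfold quarter
  rw [quarter_apply h2 a ha j k hjk haj hak]
  simp only [map_mul, map_sub, map_add, apply_ite τ, map_neg, map_one, map_zero]

theorem col_eq (g : GL (Fin n) F) (v : Fin n) :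
    g.val *ᵥ Pi.single v 1 = fun u => g.val u v := by
  rw [Matrix.mulVec_single_one]
  rfl

include h2 ha in
theorem quarter_col_other (j k i : Fin n) (hjk : j ≠ k) (haj : a j = 1) (hak : a k = 1)
    (hij : i ≠ j) (hik : i ≠ k) :
    (quarter a j k).val *ᵥ Pi.single i 1 = Pi.single i 1 := by
  rw [col_eq]
  funext u
  unfold quarter
  rw [quarter_apply h2 a ha j k hjk haj hak, if_neg hij, if_neg hik, add_zero, zero_mul,
    sub_zero, Pi.single_apply]
  by_cases hui : u = i
  · subst hui
    simp [hij]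
  · simp [hui]

include h2 ha in
theorem quarter_col_left (j k : Fin n) (hjk : j ≠ k) (haj : a j = 1) (hak : a k = 1) :
    (quarter a j k).val *ᵥ Pi.single j 1 = -Pi.single k 1 := by
  rw [col_eq]
  funext u
  unfold quarter
  rw [quarter_apply h2 a ha j k hjk haj hak, if_pos rfl, if_neg hjk, add_zero, one_mul,
    Pi.neg_apply, Pi.single_apply]
  by_cases huj : u = j
  · subst huj
    rw [if_pos rfl, if_pos rfl, if_neg hjk]
    ring
  · rw [if_neg huj, if_neg huj]
    by_cases huk : u = k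
    · subst huk
      rw [if_pos rfl]
      ring
    · rw [if_neg huk]
      ring

theorem rfG_neg (w : Fin n → F) : rfG a (-w) = rfG a w := by
  have hQ : bD a (-w) (-w) = bD a w w := by
    rw [bD_neg_left, bD_neg_right, neg_neg]
  by_cases hw : bD a w w ≠ 0
  · have hw' : bD a (-w) (-w) ≠ 0 := by rwa [hQ]
    apply gl_ext
    intro v
    rw [rfG_mulVec a _ hw', rfG_mulVec a _ hw]
    unfold rfv
    rw [hQ, bD_neg_left]
    ext u
    simp only [Pi.sub_apply, Pi.smul_apply, smul_eq_mul, Pi.neg_apply]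
    ring
  · have hw' : ¬ bD a (-w) (-w) ≠ 0 := by rwa [hQ]
    unfold rfG
    rw [dif_neg hw, dif_neg hw']

theorem sg_symm (i j : Fin n) : sg (F := F) i j = sg j i := by
  apply Units.ext
  rw [sg_val, sg_val]
  unfold sgM
  congr 1
  funext u
  by_cases h : u = i ∨ u = j
  · rw [if_pos h, if_pos h.symm]
  · rw [if_neg h, if_neg (fun h' => h h'.symm)]

include h2 ha in
/-- conjugating a sign change by a quarter turn -/
theorem quarter_conj (j k i : Fin n) (hjk : j ≠ k) (haj : a j = 1) (hak : a k = 1)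
    (hij : i ≠ j) (hik : i ≠ k) :
    quarter a j k * sg i j * (quarter a j k)⁻¹ = sg i k := by
  have hq := (quarter_mem h2 a ha j k hjk haj hak).1
  rw [← rot_single a ha i j hij, ← rot_single a ha i k hik]
  unfold rot
  calc quarter a j k * (rfG a (Pi.single i 1) * rfG a (Pi.single j 1)) * (quarter a j k)⁻¹
      = (quarter a j k * rfG a (Pi.single i 1) * (quarter a j k)⁻¹) *
          (quarter a j k * rfG a (Pi.single j 1) * (quarter a j k)⁻¹) := by group
    _ = rfG a (Pi.single i 1) * rfG a (Pi.single k 1) := by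
        rw [conj_rfG a _ hq, conj_rfG a _ hq, quarter_col_other h2 a ha j k i hjk haj hak hij hik,
          quarter_col_left h2 a ha j k hjk haj hak, rfG_neg]

include h2 ha H in
/-- `h` commutes with the sign change in a plane with equal coefficients -/
theorem comm_sg_low (j k i : Fin n) (hjk : j ≠ k) (haj : a j = 1) (hak : a k = 1)
    (hij : i ≠ j) (hik : i ≠ k) : h * sg j k = sg j k * h := by
  have h1 := qc_center a h τ H (quarter a j k) (quarter_mem h2 a ha j k hjk haj hak)
    (quarter_map h2 a ha τ j k hjk haj hak)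
  have h3 := qc_center a h τ H (sg i j) (Esub_le_SOa a (sg_mem i j hij))
    (by rw [sg_val]; exact sgM_map τ i j)
  have := comm_of_qc h (quarter a j k) (sg i j) h1 h3
  have e : quarter a j k * sg i j * (quarter a j k)⁻¹ * (sg i j)⁻¹ = sg j k := by
    rw [quarter_conj h2 a ha j k i hjk haj hak hij hik,
      inv_eq_of_mul_eq_one_right (sg_mul_self i j), sg_mul_sg i k j hik hij hjk.symm, sg_symm]
  rwa [e] at this

variable (m : Fin n) (hnf : ∀ i, i ≠ m → a i = 1)

include h2 hn ha H hnf in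
/-- the last row and column of `h` -/
theorem last_row_col (u : Fin n) (hum : u ≠ m) : h.val u m = 0 ∧ h.val m u = 0 := by
  obtain ⟨k, hku, hkm⟩ := exists_ne_ne hn u m
  have hc := comm_sg_low h2 a ha h τ H u k m hku.symm (hnf u hum) (hnf k hkm) hum.symm hkm.symm
  have h' : h.val * sgM u k = sgM u k * h.val := by
    have := congrArg Units.val hc
    rwa [Units.val_mul, Units.val_mul, sg_val] at this
  exact sep_of_comm h2 h.val u k h' u m (Or.inl rfl)
    (by rintro (h1 | h1); exact hum h1.symm; exact hkm h1.symm)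

include h2 hn ha H hnf in
theorem last_diag_ne : h.val m m ≠ 0 := by
  intro h0
  have hcol : h.val *ᵥ Pi.single m 1 = 0 := by
    rw [col_eq]
    funext u
    by_cases hum : u = m
    · subst hum; exact h0
    · exact (last_row_col h2 hn a ha h τ H m hnf u hum).1
  have := inv_mulVec_mulVec h (Pi.single m (1 : F))
  rw [hcol, Matrix.mulVec_zero] at this
  have h1 := congrFun this m
  rw [Pi.zero_apply, Pi.single_eq_same] at h1
  exact one_ne_zero h1.symm

include h2 hn ha H hnf in
/-- `h` commutes with all the sign changes in two coordinates -/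
theorem comm_sg_all (j k : Fin n) (hjk : j ≠ k) : h * sg j k = sg j k * h := by
  -- first the pairs containing `m`
  have hm : ∀ j : Fin n, j ≠ m → h * sg j m = sg j m * h := by
    intro j hjm
    obtain ⟨ζ, hζ⟩ := qc_fixed a h τ H (sg j m) (Esub_le_SOa a (sg_mem j m hjm))
      (by rw [sg_val]; exact sgM_map τ j m)
    rw [sg_val] at hζ
    have e := congrFun (congrFun hζ m) m
    rw [mul_apply_of_signDiag' _ _ (isSignDiag_sgM j m), Matrix.smul_apply,
      mul_apply_of_signDiag _ _ (isSignDiag_sgM j m), sgM_apply_eq, if_pos (Or.inr rfl),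
      smul_eq_mul] at e
    have hne := last_diag_ne h2 hn a ha h τ H m hnf
    have hζ1 : ζ = 1 := by
      have : h.val m m * (ζ - 1) = 0 := by linear_combination e
      rcases mul_eq_zero.1 this with h' | h'
      · exact absurd h' hne
      · linear_combination h'
    rw [hζ1, one_smul] at hζ
    apply Units.ext
    rw [Units.val_mul, Units.val_mul, sg_val]
    exact hζ
  by_cases hkm : k = m
  · subst hkm
    exact hm j hjk
  · by_cases hjm : j = m
    · subst hjm
      rw [sg_symm]
      exact hm k hkm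
    · exact comm_sg_low h2 a ha h τ H j k m hjk (hnf j hjm) (hnf k hkm) (Ne.symm hjm)
        (Ne.symm hkm)

include h2 hn ha H hnf in
/-- `h` is diagonal -/
theorem h_diag (u v : Fin n) (huv : u ≠ v) : h.val u v = 0 := by
  obtain ⟨k, hku, hkv⟩ := exists_ne_ne hn u v
  have hc := comm_sg_all h2 hn a ha h τ H m hnf u k hku.symm
  have h' : h.val * sgM u k = sgM u k * h.val := by
    have := congrArg Units.val hc
    rwa [Units.val_mul, Units.val_mul, sg_val] at this
  exact (sep_of_comm h2 h.val u k h' u v (Or.inl rfl)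
    (by rintro (h1 | h1); exact huv h1.symm; exact hkv h1.symm)).1

include h2 hn ha H hnf in
theorem h_diag_ne (u : Fin n) : h.val u u ≠ 0 := by
  intro h0
  have hcol : h.val *ᵥ Pi.single u 1 = 0 := by
    rw [col_eq]
    funext w
    by_cases hwu : w = u
    · subst hwu; exact h0
    · exact h_diag h2 hn a ha h τ H m hnf w u hwu
  have := inv_mulVec_mulVec h (Pi.single u (1 : F))
  rw [hcol, Matrix.mulVec_zero] at this
  have h1 := congrFun this u
  rw [Pi.zero_apply, Pi.single_eq_same] at h1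
  exact one_ne_zero h1.symm

include h2 hn ha H hnf in
/-- the entrywise form of the hypothesis -/
theorem entry_rel (s : GL (Fin n) F) (hs : s ∈ SOa a) :
    ∃ ζ : F, ∀ u v : Fin n, h.val u u * τ (s.val u v) = ζ * (s.val u v * h.val v v) := by
  obtain ⟨ζ, hζ⟩ := H s hs
  refine ⟨ζ, fun u v => ?_⟩
  have e := congrFun (congrFun hζ u) v
  rw [Matrix.mul_apply, Matrix.smul_apply, Matrix.mul_apply, smul_eq_mul,
    Finset.sum_eq_single u, Finset.sum_eq_single v] at e
  · exact e
  · intro w _ hwv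
    rw [h_diag h2 hn a ha h τ H m hnf w v hwv, mul_zero]
  · intro hv; exact absurd (Finset.mem_univ v) hv
  · intro w _ hwu
    rw [h_diag h2 hn a ha h τ H m hnf u w (Ne.symm hwu), zero_mul]
  · intro hu; exact absurd (Finset.mem_univ u) hu

end cent

end Cfsg.Agent.Lib.Helper8.BalL
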