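import Cfsg.Agent.Lib.Helper8.BalL.CentB

/-!
# The centraliser of the special orthogonal group in the semilinear group: conclusion (helper8)
-/

set_option autoImplicit false

namespace Cfsg.Agent.Lib.Helper8.BalL

open Matrix

variable {F : Type*} [Field F] {n : ℕ}

section cent

variable (h2 : (2 : F) ≠ 0) (hn : 3 ≤ n) (a : Fin n → F) (ha : ∀ i, a i ≠ 0)
  (h : GL (Fin n) F) (τ : F ≃+* F)
  (H : ∀ s ∈ SOa a, ∃ ζ : F, h.val * s.val.map τ = ζ • (s.val * h.val))
  (m : Fin n) (hnf : ∀ i, i ≠ m → a i = 1)

include h2 hn ha H hnf in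
/-- the diagonal entries of `h` at two coordinates of coefficient one agree -/
theorem diag_eq_low (j k : Fin n) (hjk : j ≠ k) (hjm : j ≠ m) (hkm : k ≠ m) :
    h.val k k = h.val j j := by
  obtain ⟨ζ, he⟩ := entry_rel h2 hn a ha h τ H m hnf (quarter a j k)
    (quarter_mem h2 a ha j k hjk (hnf j hjm) (hnf k hkm))
  have hq := quarter_apply h2 a ha j k hjk (hnf j hjm) (hnf k hkm)
  have e1 := he m m
  have e2 := he k j
  unfold quarter at e1 e2
  rw [hq] at e1 e2
  simp only [if_neg (Ne.symm hjm), if_neg (Ne.symm hkm), if_neg hjk.symm, if_neg hjk, if_true]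
    at e1 e2
  have hm := h_diag_ne h2 hn a ha h τ H m hnf m
  have hζ : ζ = 1 := by
    simp only [add_zero, mul_zero, sub_zero, one_mul, map_one, mul_one] at e1
    have : h.val m m * (ζ - 1) = 0 := by linear_combination -e1
    rcases mul_eq_zero.1 this with h' | h'
    · exact absurd h' hm
    · linear_combination h'
  rw [hζ] at e2
  simp only [add_zero, zero_add, mul_one, one_mul, zero_sub, map_neg, map_one] at e2
  linear_combination -e2

include h2 hn ha H hnf in
/-- `τ` fixes every `t` with `1 + t² ≠ 0` -/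
theorem tau_fixed (t : F) (ht : 1 + t ^ 2 ≠ 0) : τ t = t := by
  obtain ⟨j, hjm, -⟩ := exists_ne_ne hn m m
  obtain ⟨k, hkj, hkm⟩ := exists_ne_ne hn j m
  have hjk : j ≠ k := Ne.symm hkj
  have hQ : bD a (Pi.single j 1 + t • Pi.single k 1) (Pi.single j 1 + t • Pi.single k 1) =
      1 + t ^ 2 := by
    rw [bD_pair a j k hjk, hnf j hjm, hnf k hkm]; ring
  have hQ' : bD a (Pi.single j 1 + t • Pi.single k 1) (Pi.single j 1 + t • Pi.single k 1) ≠ 0 := by
    rw [hQ]; exact ht
  obtain ⟨ζ, he⟩ := entry_rel h2 hn a ha h τ H m hnf (rot a j (Pi.single j 1 + t • Pi.single k 1))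
    (rot_mem a ha j _ hQ')
  have e1 := he m m
  have e2 := he j j
  have e3 := he k j
  rw [rot_apply a ha j _ hQ', hQ] at e1 e2 e3
  simp only [Pi.add_apply, Pi.smul_apply, smul_eq_mul, Pi.single_apply, if_neg (Ne.symm hjm),
    if_neg (Ne.symm hkm), if_neg hjk.symm, if_neg hjk, if_true, hnf j hjm] at e1 e2 e3
  have hm := h_diag_ne h2 hn a ha h τ H m hnf m
  have hj := h_diag_ne h2 hn a ha h τ H m hnf j
  have hkj' := diag_eq_low h2 hn a ha h τ H m hnf j k hjk hjm hkm
  have hζ : ζ = 1 := by
    simp only [add_zero, mul_zero, sub_zero, one_mul, map_one, mul_one, zero_div] at e1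
    have : h.val m m * (ζ - 1) = 0 := by linear_combination -e1
    rcases mul_eq_zero.1 this with h' | h'
    · exact absurd h' hm
    · linear_combination h'
  rw [hζ] at e2 e3
  simp only [add_zero, zero_add, mul_one, one_mul, mul_zero, zero_sub, map_neg, map_one,
    map_sub, map_mul, map_div₀, map_add, map_pow, map_ofNat] at e2 e3
  rw [hkj'] at e3
  -- `q = 2 / (1 + t²)` is fixed
  have hq : (2 : F) / (1 + τ t ^ 2) = 2 / (1 + t ^ 2) := by
    have : h.val j j * (2 / (1 + τ t ^ 2) - 2 / (1 + t ^ 2)) = 0 := by linear_combination e2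
    rcases mul_eq_zero.1 this with h' | h'
    · exact absurd h' hj
    · linear_combination h'
  have hq0 : (2 : F) / (1 + t ^ 2) ≠ 0 := div_ne_zero h2 ht
  have : h.val j j * ((2 / (1 + t ^ 2)) * (τ t - t)) = 0 := by
    linear_combination (-1 : F) * e3 - (h.val j j * τ t) * hq
  rcases mul_eq_zero.1 this with h' | h'
  · exact absurd h' hj
  · rcases mul_eq_zero.1 h' with h'' | h''
    · exact absurd h'' hq0
    · linear_combination h''

include h2 hn ha H hnf in
/-- `τ` is the identity -/
theorem tau_id (t : F) : τ t = t := by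
  by_cases ht : 1 + t ^ 2 ≠ 0
  · exact tau_fixed h2 hn a ha h τ H m hnf t ht
  · rw [not_not] at ht
    by_cases ht1 : 1 + (t + 1) ^ 2 ≠ 0
    · have := tau_fixed h2 hn a ha h τ H m hnf (t + 1) ht1
      rw [map_add, map_one] at this
      linear_combination this
    · rw [not_not] at ht1
      have h3 : (2 : F) * t + 1 = 0 := by linear_combination ht1 - ht
      have h4 : t = -1 / 2 := by
        field_simp
        linear_combination h3
      rw [h4, map_div₀, map_neg, map_one, map_ofNat]

include h2 hn ha H hnf in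
/-- the last diagonal entry of `h` agrees with the others -/
theorem diag_eq_last (j : Fin n) (hjm : j ≠ m) : h.val m m = h.val j j := by
  obtain ⟨k, hkj, hkm⟩ := exists_ne_ne hn j m
  have hjk : j ≠ k := Ne.symm hkj
  have hτ := tau_id h2 hn a ha h τ H m hnf
  have hj := h_diag_ne h2 hn a ha h τ H m hnf j
  have hk := h_diag_ne h2 hn a ha h τ H m hnf k
  have ham := ha m
  by_cases hd : 1 + a m ≠ 0
  · -- the vector `e_j + e_m`
    have hQ : bD a (Pi.single j 1 + (1 : F) • Pi.single m 1)
        (Pi.single j 1 + (1 : F) • Pi.single m 1) = 1 + a m := by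
      rw [bD_pair a j m hjm, hnf j hjm]; ring
    have hQ' : bD a (Pi.single j 1 + (1 : F) • Pi.single m 1)
        (Pi.single j 1 + (1 : F) • Pi.single m 1) ≠ 0 := by rw [hQ]; exact hd
    obtain ⟨ζ, he⟩ := entry_rel h2 hn a ha h τ H m hnf
      (rot a j (Pi.single j 1 + (1 : F) • Pi.single m 1)) (rot_mem a ha j _ hQ')
    have e1 := he k k
    have e2 := he m j
    rw [hτ, rot_apply a ha j _ hQ', hQ] at e1 e2
    simp only [Pi.add_apply, Pi.smul_apply, smul_eq_mul, Pi.single_apply, if_neg hkj, if_neg hkm,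
      if_neg (Ne.symm hjm), if_neg hjm, if_true, hnf j hjm] at e1 e2
    have hζ : ζ = 1 := by
      simp only [add_zero, mul_zero, sub_zero, one_mul, mul_one, zero_div] at e1
      have : h.val k k * (ζ - 1) = 0 := by linear_combination -e1
      rcases mul_eq_zero.1 this with h' | h'
      · exact absurd h' hk
      · linear_combination h'
    rw [hζ] at e2
    simp only [add_zero, zero_add, mul_one, one_mul, zero_sub] at e2
    have h3 : (2 : F) / (1 + a m) ≠ 0 := div_ne_zero h2 hd
    have : (2 / (1 + a m)) * (h.val m m - h.val j j) = 0 := by linear_combination -e2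
    rcases mul_eq_zero.1 this with h' | h'
    · exact absurd h' h3
    · linear_combination h'
  · -- the vector `e_j + e_k + e_m`
    rw [not_not] at hd
    obtain ⟨w, hw⟩ : ∃ w : Fin n → F,
        w = (1 : F) • Pi.single j 1 + (1 : F) • Pi.single k 1 + Pi.single m 1 := ⟨_, rfl⟩
    have hwj : w j = 1 := by
      rw [hw]; simp [hjk, hjm]
    have hwk : w k = 1 := by
      rw [hw]; simp [hkj, hkm]
    have hwm : w m = 1 := by
      rw [hw]; simp [Ne.symm hjm, Ne.symm hkm]
    have hQ : bD a w w = 1 := by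
      rw [hw, bD_three_left, ← hw, hwj, hwk, hwm, hnf j hjm, hnf k hkm]
      linear_combination hd
    have hQ' : bD a w w ≠ 0 := by rw [hQ]; exact one_ne_zero
    obtain ⟨ζ, he⟩ := entry_rel h2 hn a ha h τ H m hnf (rot a j w) (rot_mem a ha j _ hQ')
    have e1 := he k k
    have e2 := he m j
    rw [hτ, rot_apply a ha j _ hQ', hQ] at e1 e2
    simp only [hwj, hwk, hwm, if_neg hkj, if_neg (Ne.symm hjm), if_true, hnf j hjm, hnf k hkm]
      at e1 e2
    have hζ : ζ = 1 := by
      have : h.val k k * (ζ - 1) = 0 := by linear_combination e1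
      rcases mul_eq_zero.1 this with h' | h'
      · exact absurd h' hk
      · linear_combination h'
    rw [hζ] at e2
    have : (2 : F) * (h.val m m - h.val j j) = 0 := by linear_combination -e2
    rcases mul_eq_zero.1 this with h' | h'
    · exact absurd h' h2
    · linear_combination h'

include h2 hn ha H hnf in
/-- **the centraliser of `SO(a)` in the semilinear group** -/
theorem centO_matrix : (∀ t : F, τ t = t) ∧ ∃ c : F, h.val = c • (1 : Matrix (Fin n) (Fin n) F) := by
  refine ⟨tau_id h2 hn a ha h τ H m hnf, ?_⟩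
  obtain ⟨j, hjm, -⟩ := exists_ne_ne hn m m
  refine ⟨h.val j j, ?_⟩
  ext u v
  rw [Matrix.smul_apply, smul_eq_mul, Matrix.one_apply]
  by_cases huv : u = v
  · subst huv
    rw [if_pos rfl, mul_one]
    by_cases hum : u = m
    · subst hum
      exact diag_eq_last h2 hn a ha h τ H u hnf j hjm
    · by_cases huj : u = j
      · rw [huj]
      · exact diag_eq_low h2 hn a ha h τ H m hnf j u (Ne.symm huj) hjm hum
  · rw [if_neg huv, mul_zero]
    exact h_diag h2 hn a ha h τ H m hnf u v huv

end cent

end Cfsg.Agent.Lib.Helper8.BalL
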