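import Cfsg.Agent.Lib.Helper8.BalL.NF
import Cfsg.Agent.Lib.Helper8.Bal.Abstract

/-!
# Symmetric graph involutions of `PSL_n`: trivial odd core (helper8)

Every graph involution `Dh A * Γ` with `A` symmetric is conjugate to a normal-form one, so the
conclusion of `core_trivial_graphO` holds for it.
-/

set_option autoImplicit false

namespace Cfsg.Agent.Lib.Helper8.BalL

open Matrix Cfsg Cfsg.Agent.AutPSLCount Cfsg.Agent.Lib.H7GraphInv

variable {F : Type*} [Field F] {n : ℕ}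

/-- a symmetric graph involution is conjugate to a normal-form one -/
theorem graph_symm_conj [Fintype F] (h2 : (2 : F) ≠ 0) (m : Fin n)
    (A : GL (Fin n) F) (hA : A.valᵀ = A.val) :
    ∃ (h : GL (Fin n) F) (a : Fin n → F) (ha : ∀ i, a i ≠ 0), (∀ i, i ≠ m → a i = 1) ∧
      Dh h * (Dh A * Γ : MulAut (PSLn n F)) * (Dh h)⁻¹ = βO a ha := by
  have hdet : A.val.det ≠ 0 := ((Matrix.isUnit_iff_isUnit_det A.val).1 ⟨A, rfl⟩).ne_zero
  obtain ⟨P, a', hP, ha', hnf, hg⟩ := exists_normal_form h2 m A.val hA hdet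
  have hPT : IsUnit Pᵀ := by
    rw [Matrix.isUnit_iff_isUnit_det, Matrix.det_transpose]
    exact (Matrix.isUnit_iff_isUnit_det P).1 hP
  have ha : ∀ i, (fun i => (a' i)⁻¹) i ≠ 0 := fun i => inv_ne_zero (ha' i)
  refine ⟨hPT.unit, fun i => (a' i)⁻¹, ha, ?_, ?_⟩
  · intro i hi
    show (a' i)⁻¹ = 1
    rw [hnf i hi, inv_one]
  · rw [graph_conj]
    unfold βO
    congr 2
    apply Units.ext
    rw [graph_conj_val, dGL_inv_val]
    show Pᵀ * A.val * Pᵀᵀ = _
    rw [Matrix.transpose_transpose, hg]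
    congr 1
    funext i
    rw [inv_inv]

/-- **symmetric graph involutions of `PSL_n(F)` (`n ≥ 3`, `F` finite of odd characteristic)
have trivial odd core** -/
theorem core_trivial_graph_symm [Fintype F] (h2 : (2 : F) ≠ 0) (hn : 3 ≤ n) (hfac : Fac n F)
    (hZ : Subgroup.center (PSLn n F) = ⊥) (A : GL (Fin n) F) (hA : A.valᵀ = A.val)
    (W : Subgroup (MulAut (PSLn n F)))
    (hWcop : (Nat.card ↥W).Coprime 2)
    (hWcent : ∀ w ∈ W, w * (Dh A * Γ) = (Dh A * Γ) * w)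
    (hWnorm : ∀ k : PSLn n F, (Dh A * Γ : MulAut (PSLn n F)) k = k → ∀ w ∈ W,
      MulAut.conj k * w * (MulAut.conj k)⁻¹ ∈ W) :
    W = ⊥ := by
  obtain ⟨h, a, ha, hnf, hconj⟩ := graph_symm_conj h2 (⟨0, by omega⟩ : Fin n) A hA
  exact Cfsg.Agent.Lib.Helper8.Bal.core_trivial_transport (Dh A * Γ) (βO a ha) (Dh h) hconj
    (fun W' h1 h2' h3 => core_trivial_graphO a ha h2 hn _ hnf hfac hZ W' h1 h2' h3)
    W hWcop hWcent hWnorm

end Cfsg.Agent.Lib.Helper8.BalL
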