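import Cfsg.Agent.Lib.Helper8.BalL.GraphOA

/-!
# Graph involutions of orthogonal type of `PSL_n`: the `2'`-core of the centraliser is trivial
(helper8)
-/

set_option autoImplicit false

namespace Cfsg.Agent.Lib.Helper8.BalL

open Matrix Cfsg Cfsg.Agent.AutPSLCount Cfsg.Agent.Lib.H7GraphInv

variable {F : Type*} [Field F] {n : ℕ}

/-- the invertible diagonal matrix -/
def dGL (a : Fin n → F) (ha : ∀ i, a i ≠ 0) : GL (Fin n) F :=
  ⟨Matrix.diagonal a, Matrix.diagonal (fun i => (a i)⁻¹), by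
    rw [Matrix.diagonal_mul_diagonal]
    have : (fun i => a i * (a i)⁻¹) = fun _ => (1 : F) := by
      funext i; exact mul_inv_cancel₀ (ha i)
    rw [this, Matrix.diagonal_one], by
    rw [Matrix.diagonal_mul_diagonal]
    have : (fun i => (a i)⁻¹ * a i) = fun _ => (1 : F) := by
      funext i; exact inv_mul_cancel₀ (ha i)
    rw [this, Matrix.diagonal_one]⟩

theorem dGL_val (a : Fin n → F) (ha : ∀ i, a i ≠ 0) : (dGL a ha).val = Matrix.diagonal a := rfl

theorem dGL_inv_val (a : Fin n → F) (ha : ∀ i, a i ≠ 0) :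
    (dGL a ha)⁻¹.val = Matrix.diagonal (fun i => (a i)⁻¹) := rfl

/-- the graph involution whose fixed points are the projective similitudes of `bD a` -/
noncomputable def βO (a : Fin n → F) (ha : ∀ i, a i ≠ 0) : MulAut (PSLn n F) :=
  Dh (dGL a ha)⁻¹ * Γ

/-- the special orthogonal group inside `SL_n` -/
def SOsl (a : Fin n → F) : Subgroup (SLn n F) := (SOa a).comap SpecialLinearGroup.toGL

theorem mem_SOsl (a : Fin n → F) (s : SLn n F) :
    s ∈ SOsl a ↔ SpecialLinearGroup.toGL s ∈ SOa a := Iff.rfl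

theorem toGL_mem_SOa_iff (a : Fin n → F) (s : SLn n F) :
    SpecialLinearGroup.toGL s ∈ SOa a ↔ SpecialLinearGroup.toGL s ∈ Oa a := by
  constructor
  · exact fun h => h.1
  · exact fun h => ⟨h, s.2⟩

/-- the map from the special orthogonal group to `PSL_n` -/
def jO (a : Fin n → F) : ↥(SOsl a) →* PSLn n F := pr.comp (SOsl a).subtype

theorem jO_apply (a : Fin n → F) (s : ↥(SOsl a)) : jO a s = pr s.1 := rfl

section fix

variable (a : Fin n → F) (ha : ∀ i, a i ≠ 0)

theorem inv_val_mul (x : SLn n F) : (x⁻¹).val * x.val = 1 := by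
  rw [← Matrix.SpecialLinearGroup.coe_mul, inv_mul_cancel, Matrix.SpecialLinearGroup.coe_one]

theorem val_mul_inv (x : SLn n F) : x.val * (x⁻¹).val = 1 := by
  rw [← Matrix.SpecialLinearGroup.coe_mul, mul_inv_cancel, Matrix.SpecialLinearGroup.coe_one]

/-- the value of `βO` on the class of `x` -/
theorem βO_apply_val (x : SLn n F) :
    (conjSL (dGL a ha)⁻¹ (itSL x)).val =
      Matrix.diagonal (fun i => (a i)⁻¹) * (x⁻¹).valᵀ * Matrix.diagonal a := by
  rw [conjSL_apply, conjFun_val, inv_inv, dGL_val, dGL_inv_val, itSL_apply]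
  rfl

/-- a similitude of determinant one gives a fixed point -/
theorem βO_fix_of_gram (x : SLn n F)
    (hx : x.valᵀ * Matrix.diagonal a * x.val = Matrix.diagonal a) :
    βO a ha (pr x) = pr x := by
  unfold βO
  rw [graph_apply]
  congr 1
  apply Subtype.ext
  rw [βO_apply_val]
  -- `xᵀ D = D x⁻¹`, so `D x = x⁻ᵀ D`
  have h1 : x.valᵀ * Matrix.diagonal a = Matrix.diagonal a * (x⁻¹).val := by
    calc x.valᵀ * Matrix.diagonal a = x.valᵀ * Matrix.diagonal a * (x.val * (x⁻¹).val) := by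
          rw [val_mul_inv, Matrix.mul_one]
      _ = (x.valᵀ * Matrix.diagonal a * x.val) * (x⁻¹).val := by
          simp only [Matrix.mul_assoc]
      _ = Matrix.diagonal a * (x⁻¹).val := by rw [hx]
  have h3 : Matrix.diagonal a * x.val = (x⁻¹).valᵀ * Matrix.diagonal a := by
    have := congrArg Matrix.transpose h1
    rw [Matrix.transpose_mul, Matrix.transpose_mul, Matrix.transpose_transpose,
      Matrix.diagonal_transpose] at this
    exact this
  rw [Matrix.mul_assoc, ← h3, ← Matrix.mul_assoc, ← dGL_inv_val a ha, ← dGL_val a ha,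
    ← Units.val_mul, inv_mul_cancel, Units.val_one, Matrix.one_mul]

theorem βO_fix (s : SLn n F) (hs : SpecialLinearGroup.toGL s ∈ Oa a) :
    βO a ha (pr s) = pr s :=
  βO_fix_of_gram a ha s ((mem_Oa_iff_gram a _).1 hs)

/-- a fixed point is a similitude -/
theorem gram_of_βO_fix (hn : 3 ≤ n) (x : SLn n F) (hx : βO a ha (pr x) = pr x) :
    ∃ μ : F, μ ≠ 0 ∧ x.valᵀ * Matrix.diagonal a * x.val = μ • Matrix.diagonal a := by
  unfold βO at hx
  rw [graph_apply] at hx
  obtain ⟨ζ, hζ⟩ := pr_eq_smul _ _ hx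
  rw [βO_apply_val] at hζ
  have hζ0 : ζ ≠ 0 := by
    rintro rfl
    rw [zero_smul] at hζ
    have := x.2
    have hne : Nonempty (Fin n) := ⟨⟨0, by omega⟩⟩
    rw [hζ, Matrix.det_zero] at this
    exact zero_ne_one this
  refine ⟨ζ, hζ0, ?_⟩
  -- `D x = ζ x⁻ᵀ D`
  have h1 : Matrix.diagonal a * x.val = ζ • ((x⁻¹).valᵀ * Matrix.diagonal a) := by
    rw [hζ, Matrix.mul_smul, ← Matrix.mul_assoc, ← Matrix.mul_assoc, ← dGL_inv_val a ha,
      ← dGL_val a ha, ← Units.val_mul, mul_inv_cancel, Units.val_one, Matrix.one_mul]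
  calc x.valᵀ * Matrix.diagonal a * x.val = x.valᵀ * (Matrix.diagonal a * x.val) := by
        rw [Matrix.mul_assoc]
    _ = ζ • (x.valᵀ * (x⁻¹).valᵀ * Matrix.diagonal a) := by
        rw [h1, Matrix.mul_smul, Matrix.mul_assoc]
    _ = ζ • Matrix.diagonal a := by
        rw [← Matrix.transpose_mul, inv_val_mul, Matrix.transpose_one, Matrix.one_mul]

end fix

section main

variable (a : Fin n → F) (ha : ∀ i, a i ≠ 0)

/-- a similitude conjugates isometries to isometries -/
theorem sim_conj_mem (x : SLn n F) (μ : F) (hμ : μ ≠ 0)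
    (hx : x.valᵀ * Matrix.diagonal a * x.val = μ • Matrix.diagonal a) (s : SLn n F)
    (hs : SpecialLinearGroup.toGL s ∈ Oa a) : SpecialLinearGroup.toGL (x * s * x⁻¹) ∈ Oa a := by
  have h1 := (sim_iff_gram a x.val μ).2 hx
  have h3 : ∀ u v, bD a ((x⁻¹).val *ᵥ u) ((x⁻¹).val *ᵥ v) = μ⁻¹ * bD a u v := by
    intro u v
    have := h1 ((x⁻¹).val *ᵥ u) ((x⁻¹).val *ᵥ v)
    rw [Matrix.mulVec_mulVec, Matrix.mulVec_mulVec, val_mul_inv, Matrix.one_mulVec,
      Matrix.one_mulVec] at this
    rw [this]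
    field_simp
  intro u v
  have e : ∀ y, (SpecialLinearGroup.toGL (x * s * x⁻¹)).val *ᵥ y =
      x.val *ᵥ ((SpecialLinearGroup.toGL s).val *ᵥ ((x⁻¹).val *ᵥ y)) := by
    intro y
    rw [Matrix.mulVec_mulVec, Matrix.mulVec_mulVec]
    rfl
  rw [e, e, h1, hs, h3]
  field_simp

variable [Fintype F] (h2 : (2 : F) ≠ 0) (hn : 3 ≤ n) (m : Fin n) (hnf : ∀ i, i ≠ m → a i = 1)

include h2 hn hnf in
/-- **graph involutions of orthogonal type**: a subgroup of odd order of `Aut(PSL_n)`
centralising `βO` and normalised by the inner automorphisms from the fixed points is trivial -/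
theorem core_trivial_graphO (hfac : Fac n F) (hZ : Subgroup.center (PSLn n F) = ⊥)
    (W : Subgroup (MulAut (PSLn n F)))
    (hWcop : (Nat.card ↥W).Coprime 2)
    (hWcent : ∀ w ∈ W, w * βO a ha = βO a ha * w)
    (hWnorm : ∀ k : PSLn n F, βO a ha k = k → ∀ w ∈ W,
      MulAut.conj k * w * (MulAut.conj k)⁻¹ ∈ W) :
    W = ⊥ := by
  classical
  have : Fact (Nat.Prime 2) := ⟨Nat.prime_two⟩
  have hcinj := Cfsg.Agent.Lib.Helper8.AutSp.conj_injective_of_center hZ
  have hβ2 : βO a ha * βO a ha = 1 := by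
    have := graph_sq (n := n) (F := F) (dGL a ha)⁻¹
    rw [pow_two] at this
    unfold βO
    rw [this]
    have e : (dGL a ha)⁻¹ * gti (dGL a ha)⁻¹ = 1 := by
      apply Units.ext
      rw [Units.val_mul, gti_val, inv_inv, dGL_val, Matrix.diagonal_transpose, ← dGL_val a ha,
        ← Units.val_mul, inv_mul_cancel]
    rw [e, map_one]
  apply core_trivial_of_meet (p := 2) (βO a ha) (jO a)
    (fun s => βO_fix a ha s.1 s.2.1) ?_ ?_ W hWcop hWcent hWnorm ?_ ?_
  · -- the image is normal in the fixed points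
    intro k hk s
    obtain ⟨x, rfl⟩ := pr_surjective k
    obtain ⟨μ, hμ, hx⟩ := gram_of_βO_fix a ha hn x hk
    refine ⟨⟨x * s.1 * x⁻¹, ?_⟩, ?_⟩
    · rw [mem_SOsl, toGL_mem_SOa_iff]
      exact sim_conj_mem a x μ hμ hx s.1 s.2.1
    · rw [jO_apply, jO_apply, map_mul, map_mul, map_inv]
  · -- the centraliser of the image in `PSL_n`
    intro k hk
    obtain ⟨x, rfl⟩ := pr_surjective k
    apply hcinj
    rw [map_one, conj_pr]
    have := centO_aut h2 hn a ha m hnf (SpecialLinearGroup.toGL x) 1 (by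
      intro s hs
      rw [map_one, mul_one, ← conj_pr, MulAut.conj_apply]
      exact hk ⟨s, hs⟩)
    rwa [map_one, mul_one] at this
  · -- the core condition
    intro s hs
    -- the subgroup of `GL_n` cut out by `W`
    let N : Subgroup (GL (Fin n) F) :=
      (((W.comap (MulAut.conj : PSLn n F →* MulAut (PSLn n F))).comap pr) ⊓ SOsl a).map
        SpecialLinearGroup.toGL
    have hN : ∀ g : GL (Fin n) F, g ∈ N ↔ ∃ t : SLn n F, MulAut.conj (pr t) ∈ W ∧
        SpecialLinearGroup.toGL t ∈ SOa a ∧ SpecialLinearGroup.toGL t = g := by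
      intro g
      constructor
      · rintro ⟨t, ⟨ht1, ht2⟩, rfl⟩
        exact ⟨t, ht1, ht2, rfl⟩
      · rintro ⟨t, ht1, ht2, rfl⟩
        exact ⟨t, ⟨ht1, ht2⟩, rfl⟩
    have hNS : N ≤ SOa a := by
      intro g hg
      obtain ⟨t, -, ht2, rfl⟩ := (hN g).1 hg
      exact ht2
    have hnorm : ∀ t ∈ SOa a, ∀ g ∈ N, t * g * t⁻¹ ∈ N := by
      intro t ht g hg
      obtain ⟨t', rfl⟩ := exists_toGL t (by
        apply Units.ext
        rw [Matrix.GeneralLinearGroup.val_det_apply]
        exact ht.2)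
      obtain ⟨s', hs1, hs2, rfl⟩ := (hN g).1 hg
      rw [hN]
      refine ⟨t' * s' * t'⁻¹, ?_, ?_, by rw [map_mul, map_mul, map_inv]⟩
      · rw [map_mul, map_mul, map_inv, map_mul, map_mul, map_inv]
        exact hWnorm _ (βO_fix a ha t' ht.1) _ hs1
      · rw [map_mul, map_mul, map_inv]
        exact (SOa a).mul_mem ((SOa a).mul_mem ht hs2) ((SOa a).inv_mem ht)
    have hodd : ∀ g ∈ N, ∃ k, Odd k ∧ g ^ k ∈ Subgroup.center (GL (Fin n) F) := by
      intro g hg
      obtain ⟨t, ht1, -, rfl⟩ := (hN g).1 hg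
      refine ⟨Nat.card ↥W, ?_, ?_⟩
      · rw [← Nat.not_even_iff_odd, even_iff_two_dvd]
        intro hdvd
        have := Nat.eq_one_of_dvd_coprimes hWcop hdvd dvd_rfl
        norm_num at this
      · have h1 : (MulAut.conj (pr t)) ^ Nat.card ↥W = 1 := by
          have := pow_card_eq_one' (G := ↥W) (x := ⟨_, ht1⟩)
          have := congrArg Subtype.val this
          rwa [Subgroup.coe_pow, Subgroup.coe_one] at this
        rw [← map_pow, ← map_pow] at h1
        have h3 : pr (t ^ Nat.card ↥W) = 1 := hcinj (by rw [h1, map_one])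
        have h4 : t ^ Nat.card ↥W ∈ Subgroup.center (SLn n F) :=
          (QuotientGroup.eq_one_iff _).1 h3
        obtain ⟨ζ, hζ⟩ := center_scalar _ h4
        rw [← map_pow, Matrix.GeneralLinearGroup.mem_center_iff_val_mem_range_scalar]
        exact ⟨ζ, hζ.symm⟩
    have hcen := coreO h2 hn a ha N hNS hnorm hodd
    have hsN : SpecialLinearGroup.toGL s.1 ∈ N := (hN _).2 ⟨s.1, hs, s.2, rfl⟩
    have hsc := hcen hsN
    rw [Matrix.GeneralLinearGroup.mem_center_iff_val_mem_range_scalar] at hsc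
    obtain ⟨ζ, hζ⟩ := hsc
    rw [jO_apply]
    apply (QuotientGroup.eq_one_iff _).2
    rw [Matrix.SpecialLinearGroup.mem_center_iff]
    refine ⟨ζ, ?_, hζ⟩
    have hdet := s.1.2
    have hv : s.1.val = Matrix.scalar (Fin n) ζ := hζ.symm
    rw [hv, Matrix.scalar_apply, Matrix.det_diagonal, Finset.prod_const, Finset.card_univ] at hdet
    exact hdet
  · -- automorphisms in `W` fixing the image pointwise
    intro w hw hfix
    obtain ⟨g, τ, c, hc, rfl⟩ := hfac w
    rcases hc with rfl | rfl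
    · rw [mul_one] at hfix ⊢
      have := centO_aut h2 hn a ha m hnf g τ (fun s hs => hfix ⟨s, hs⟩)
      rw [this, one_pow]
    · -- `w βO⁻¹` is semilinear and fixes the image
      have hβinv : (βO a ha)⁻¹ = βO a ha := inv_eq_of_mul_eq_one_right hβ2
      have e : Dh g * Ph τ * Γ * (βO a ha)⁻¹ =
          (Dh (g * Matrix.GeneralLinearGroup.map (τ : F →+* F) (dGL a ha)) * Ph τ :
            MulAut (PSLn n F)) := by
        unfold βO
        rw [_root_.mul_inv_rev, ← map_inv, inv_inv]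
        calc Dh g * Ph τ * Γ * (Γ⁻¹ * Dh (dGL a ha))
            = Dh g * (Ph τ * Dh (dGL a ha)) := by group
          _ = Dh g * (Dh (Matrix.GeneralLinearGroup.map (τ : F →+* F) (dGL a ha)) * Ph τ) := by
              rw [Ph_Dh]
          _ = _ := by rw [← mul_assoc, ← map_mul]
      have h1 := centO_aut h2 hn a ha m hnf
        (g * Matrix.GeneralLinearGroup.map (τ : F →+* F) (dGL a ha)) τ (by
          intro s hs
          rw [← e, MulAut.mul_apply, hβinv, βO_fix a ha s hs.1]
          exact hfix ⟨s, hs⟩)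
      rw [← e, mul_inv_eq_one] at h1
      rw [h1, pow_two, hβ2]

end main

end Cfsg.Agent.Lib.Helper8.BalL
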