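import Cfsg.Agent.Lib.Helper8.BalL.UB
import Cfsg.Agent.Lib.Helper8.BalL.GraphOB
import Cfsg.Agent.Lib.Helper7.AutPSL.CosetGraphField

/-!
# Graph-field involutions of `PSL_n`: trivial odd core (helper8)
-/

set_option autoImplicit false

namespace Cfsg.Agent.Lib.Helper8.BalL

open Matrix Cfsg Cfsg.Agent.AutPSLCount Cfsg.Agent.Lib.H7AutPSL

variable {F : Type*} [Field F] {n : ℕ}

/-- the special unitary group in `PSL_n` -/
def jU (σ : RingAut F) : ↥(SUs (n := n) σ) →* PSLn n F := pr.comp (SUs σ).subtype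

theorem jU_apply (σ : RingAut F) (s : ↥(SUs (n := n) σ)) : jU σ s = pr s.1 := rfl

section main

variable [Fintype F] (σ : RingAut F) (hσ2 : σ ^ 2 = 1) (hσ1 : σ ≠ 1)

include hσ2 hσ1 in
/-- a semilinear automorphism fixing `PSU_n` pointwise is trivial -/
theorem centU_aut (h2 : (2 : F) ≠ 0) (hn : 3 ≤ n) (g : GL (Fin n) F) (τ : RingAut F)
    (hfix : ∀ s : SLn n F, s ∈ SUs σ → (Dh g * Ph τ : MulAut (PSLn n F)) (pr s) = pr s) :
    (Dh g * Ph τ : MulAut (PSLn n F)) = 1 := by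
  have hσσ := aut_sq_apply σ hσ2
  have H : ∀ s : SLn n F, IsU σ s → ∃ ζ : F, g.val * s.val.map (τ : F →+* F) =
      ζ • (s.val * g.val) := by
    intro s hs
    exact rel_of_fix g τ s (hfix s ((mem_SUs σ s).2 ((isU_iff σ hσσ s).1 hs)))
  obtain ⟨hτ, c, hc⟩ := centU_matrix σ hσ2 hσ1 h2 hn g.val ⟨g, rfl⟩ (τ : F →+* F) H
  have hτ1 : τ = 1 := by
    ext t
    exact hτ t
  rw [hτ1, map_one, mul_one]
  exact Dh_eq_one_of_scalar (by omega) g c hc

include hσ2 hσ1 in
/-- **graph-field involutions**: a subgroup of odd order of `Aut(PSL_n)` centralising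
`Ph σ * Γ` and normalised by the inner automorphisms from the fixed points is trivial -/
theorem core_trivial_graphfield (h2 : (2 : F) ≠ 0) (hn : 3 ≤ n) (hfac : Fac n F)
    (hZ : Subgroup.center (PSLn n F) = ⊥)
    (W : Subgroup (MulAut (PSLn n F)))
    (hWcop : (Nat.card ↥W).Coprime 2)
    (hWcent : ∀ w ∈ W, w * (Ph σ * Γ) = (Ph σ * Γ) * w)
    (hWnorm : ∀ k : PSLn n F, (Ph σ * Γ : MulAut (PSLn n F)) k = k → ∀ w ∈ W,
      MulAut.conj k * w * (MulAut.conj k)⁻¹ ∈ W) :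
    W = ⊥ := by
  classical
  have : Fact (Nat.Prime 2) := ⟨Nat.prime_two⟩
  have hσσ := aut_sq_apply σ hσ2
  have hcinj := Cfsg.Agent.Lib.Helper8.AutSp.conj_injective_of_center hZ
  have hβ2 : (Ph σ * Γ : MulAut (PSLn n F)) * (Ph σ * Γ) = 1 := by
    rw [← pow_two]
    exact phΓ_sq σ hσ2
  have hfixU : ∀ s : SLn n F, s ∈ SUs σ → (Ph σ * Γ : MulAut (PSLn n F)) (pr s) = pr s := by
    intro s hs
    rw [phΓ_pr, (mem_SUs σ s).1 hs]
  apply core_trivial_of_meet (p := 2) (Ph σ * Γ) (jU σ)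
    (fun s => hfixU s.1 s.2) ?_ ?_ W hWcop hWcent hWnorm ?_ ?_
  · -- the image is normal in the fixed points
    intro k hk s
    obtain ⟨x, rfl⟩ := pr_surjective k
    rw [phΓ_pr] at hk
    have hz : x⁻¹ * θU σ x ∈ Subgroup.center (SLn n F) := (pr_eq_iff _ _).1 hk.symm
    have hθx : θU σ x = x * (x⁻¹ * θU σ x) := by rw [mul_inv_cancel_left]
    refine ⟨⟨x * s.1 * x⁻¹, ?_⟩, ?_⟩
    · rw [mem_SUs, map_mul, map_mul, map_inv, (mem_SUs σ s.1).1 s.2, hθx]
      set z := x⁻¹ * θU σ x with hzdef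
      have hc : ∀ y : SLn n F, z * y = y * z := fun y => (Subgroup.mem_center_iff.1 hz y).symm
      calc x * z * s.1 * (x * z)⁻¹ = x * (z * s.1) * z⁻¹ * x⁻¹ := by group
        _ = x * (s.1 * z) * z⁻¹ * x⁻¹ := by rw [hc]
        _ = x * s.1 * x⁻¹ := by group
    · rw [jU_apply, jU_apply, map_mul, map_mul, map_inv]
  · -- the centraliser of the image in `PSL_n`
    intro k hk
    obtain ⟨x, rfl⟩ := pr_surjective k
    apply hcinj
    rw [map_one, conj_pr]
    have := centU_aut σ hσ2 hσ1 h2 hn (SpecialLinearGroup.toGL x) 1 (by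
      intro s hs
      rw [map_one, mul_one, ← conj_pr, MulAut.conj_apply]
      exact hk ⟨s, hs⟩)
    rwa [map_one, mul_one] at this
  · -- the core condition
    intro s hs
    let N : Subgroup (SLn n F) :=
      ((W.comap (MulAut.conj : PSLn n F →* MulAut (PSLn n F))).comap pr) ⊓ SUs σ
    have hN : ∀ t : SLn n F, t ∈ N ↔ MulAut.conj (pr t) ∈ W ∧ t ∈ SUs σ := fun t => Iff.rfl
    have hNU : ∀ t ∈ N, IsU σ t := by
      intro t ht
      exact (isU_iff σ hσσ t).2 ((mem_SUs σ t).1 ((hN t).1 ht).2)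
    have hnorm : ∀ t : SLn n F, IsU σ t → ∀ u ∈ N, t * u * t⁻¹ ∈ N := by
      intro t ht u hu
      have htS : t ∈ SUs σ := (mem_SUs σ t).2 ((isU_iff σ hσσ t).1 ht)
      rw [hN] at hu ⊢
      constructor
      · rw [map_mul, map_mul, map_inv, map_mul, map_mul, map_inv]
        exact hWnorm _ (hfixU t htS) _ hu.1
      · exact (SUs σ).mul_mem ((SUs σ).mul_mem htS hu.2) ((SUs σ).inv_mem htS)
    have hkodd : Odd (Nat.card ↥W) := by
      rw [← Nat.not_even_iff_odd, even_iff_two_dvd]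
      intro hdvd
      have := Nat.eq_one_of_dvd_coprimes hWcop hdvd dvd_rfl
      norm_num at this
    have hodd : ∀ t ∈ N, t ^ Nat.card ↥W ∈ Subgroup.center (SLn n F) := by
      intro t ht
      have ht1 := ((hN t).1 ht).1
      have h1 : (MulAut.conj (pr t)) ^ Nat.card ↥W = 1 := by
        have := pow_card_eq_one' (G := ↥W) (x := ⟨_, ht1⟩)
        have := congrArg Subtype.val this
        rwa [Subgroup.coe_pow, Subgroup.coe_one] at this
      rw [← map_pow, ← map_pow] at h1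
      have h3 : pr (t ^ Nat.card ↥W) = 1 := hcinj (by rw [h1, map_one])
      exact (QuotientGroup.eq_one_iff _).1 h3
    have hcen := coreU σ hσ2 hσ1 h2 hn N hNU hnorm (Nat.card ↥W) hkodd hodd
    have hsN : s.1 ∈ N := (hN _).2 ⟨hs, s.2⟩
    rw [jU_apply]
    exact (QuotientGroup.eq_one_iff _).2 (hcen hsN)
  · -- automorphisms in `W` fixing the image pointwise
    intro w hw hfix
    obtain ⟨g, τ, c, hc, rfl⟩ := hfac w
    rcases hc with rfl | rfl
    · rw [mul_one] at hfix ⊢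
      have := centU_aut σ hσ2 hσ1 h2 hn g τ (fun s hs => hfix ⟨s, hs⟩)
      rw [this, one_pow]
    · have hβinv : (Ph σ * Γ : MulAut (PSLn n F))⁻¹ = Ph σ * Γ := inv_eq_of_mul_eq_one_right hβ2
      have e : Dh g * Ph τ * Γ * (Ph σ * Γ : MulAut (PSLn n F))⁻¹ = Dh g * Ph (τ * σ⁻¹) := by
        rw [_root_.mul_inv_rev, map_mul, map_inv]
        group
      have h1 := centU_aut σ hσ2 hσ1 h2 hn g (τ * σ⁻¹) (by
        intro s hs
        rw [← e, MulAut.mul_apply, hβinv, hfixU s hs]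
        exact hfix ⟨s, hs⟩)
      rw [← e, mul_inv_eq_one] at h1
      rw [h1, pow_two, hβ2]

end main

end Cfsg.Agent.Lib.Helper8.BalL
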