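import Cfsg.Agent.Lib.Helper8.BalL.FieldD
import Cfsg.Agent.Lib.Helper8.BalL.UC
import Cfsg.Agent.Lib.Helper8.BalL.GraphOC
import Cfsg.Agent.Lib.Helper7.AutPSL.CosetField

/-!
# Local balance for `PSL_n`: the classes of automorphisms of prime order (helper8)
-/

set_option autoImplicit false

namespace Cfsg.Agent.Lib.Helper8.BalL

open Matrix Cfsg Cfsg.Agent.AutPSLCount Cfsg.Agent.Lib.H7AutPSL Cfsg.Agent.Lib.H7GraphInv
open Cfsg.Agent.Lib.Helper8.AutSp

variable {F : Type*} [Field F] {n : ℕ}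

/-! ### the centre of `PSL_n` -/

theorem jF_id (s : PSLn n F) : jF (RingHom.id F) s = s := by
  obtain ⟨s, rfl⟩ := pr_surjective s
  rw [jF_pr]
  congr 1

/-- `PSL_n(F)` has trivial centre -/
theorem center_psl_eq_bot (hn : 2 ≤ n) : Subgroup.center (PSLn n F) = ⊥ := by
  rw [eq_bot_iff]
  intro k hk
  rw [Subgroup.mem_bot]
  apply jF_cent hn (RingHom.id F) k
  intro s
  rw [jF_id, ← (Subgroup.mem_center_iff.1 hk s), mul_inv_cancel_right]

/-! ### semilinear automorphisms of prime order -/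

theorem mem_Dsub_iff (β : MulAut (PSLn n F)) : β ∈ Dsub n F ↔ ∃ g, β = Dh g := by
  constructor
  · rintro ⟨g, hg⟩
    exact ⟨g, hg.symm⟩
  · rintro ⟨g, rfl⟩
    exact ⟨g, rfl⟩

/-- a semilinear automorphism of prime order which is not inner-diagonal is conjugate to a
standard field automorphism of the same order -/
theorem semilinear_conj [Finite F] (hn : 2 ≤ n) {p : ℕ} [Fact p.Prime] (g : GL (Fin n) F)
    (σ : RingAut F) (hord : orderOf (Dh g * Ph σ : MulAut (PSLn n F)) = p)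
    (hnot : (Dh g * Ph σ : MulAut (PSLn n F)) ∉ Dsub n F) :
    σ ^ p = 1 ∧ ∃ h : GL (Fin n) F,
      (Dh h)⁻¹ * (Dh g * Ph σ : MulAut (PSLn n F)) * ((Dh h)⁻¹)⁻¹ = Ph σ := by
  have hp : p.Prime := Fact.out
  have hβp : (Dh g * Ph σ : MulAut (PSLn n F)) ^ p = 1 := by
    rw [← hord]
    exact pow_orderOf_eq_one _
  have hσ1 : σ ≠ 1 := by
    rintro rfl
    apply hnot
    rw [map_one, mul_one]
    exact ⟨g, rfl⟩
  have hσp : σ ^ p = 1 := by
    have h1 := hβp
    rw [coset_pow] at h1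
    apply Ph_inj hn
    have : (Ph (σ ^ p) : MulAut (PSLn n F)) = (Dh (gnorm σ g p))⁻¹ :=
      eq_inv_of_mul_eq_one_right h1
    rw [this, ← map_inv]
    exact ⟨_, rfl⟩
  have hσord : orderOf σ = p := by
    have hdvd : orderOf σ ∣ p := orderOf_dvd_of_pow_eq_one hσp
    rcases (Nat.dvd_prime hp).1 hdvd with h | h
    · exact absurd (orderOf_eq_one_iff.1 h) hσ1
    · exact h
  obtain ⟨h, hh⟩ := field_coset_conj hn σ p hp hσord g hβp
  refine ⟨hσp, h, ?_⟩
  rw [hh]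
  group

/-! ### the conclusion, as a predicate -/

/-- every `p'`-group of automorphisms commuting with `x` and normalised by the inner automorphisms
from the fixed points of `x` is trivial -/
def CoreTrivial (x : MulAut (PSLn n F)) (p : ℕ) : Prop :=
  ∀ W : Subgroup (MulAut (PSLn n F)), (Nat.card ↥W).Coprime p → (∀ w ∈ W, w * x = x * w) →
    (∀ k : PSLn n F, x k = k → ∀ w ∈ W, MulAut.conj k * w * (MulAut.conj k)⁻¹ ∈ W) → W = ⊥

theorem coreTrivial_transport {p : ℕ} (x φ α : MulAut (PSLn n F)) (hα : α * x * α⁻¹ = φ)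
    (h : CoreTrivial φ p) : CoreTrivial x p := by
  intro W h1 h2 h3
  exact Cfsg.Agent.Lib.Helper8.Bal.core_trivial_transport x φ α hα h W h1 h2 h3

/-- the semilinear case -/
theorem coreTrivial_semilinear [Fintype F] {r : ℕ} [Fact r.Prime] [CharP F r] (hn : 2 ≤ n)
    (hfac : Fac n F) {p : ℕ} [Fact p.Prime] (hpr : p ≠ r) (g : GL (Fin n) F) (σ : RingAut F)
    (hord : orderOf (Dh g * Ph σ : MulAut (PSLn n F)) = p)
    (hnot : (Dh g * Ph σ : MulAut (PSLn n F)) ∉ Dsub n F)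
    (hdiv : p ∣ Nat.card ↥(fixG (Dh g * Ph σ : MulAut (PSLn n F)))) :
    CoreTrivial (Dh g * Ph σ : MulAut (PSLn n F)) p := by
  obtain ⟨hσp, h, hh⟩ := semilinear_conj hn g σ hord hnot
  apply coreTrivial_transport _ _ _ hh
  intro W h1 h2 h3
  apply core_trivial_fieldPSL hn hfac (center_psl_eq_bot hn) hpr σ hσp W h1 h2 h3
  rw [Cfsg.Agent.Lib.Helper8.Bal.card_fixG_conj _ _ _ hh]
  exact hdiv

/-- the fixed points of a semilinear automorphism of prime order are not trivial -/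
theorem fixG_semilinear_ne_bot [Finite F] (hn : 2 ≤ n) {p : ℕ} [Fact p.Prime]
    (g : GL (Fin n) F) (σ : RingAut F)
    (hord : orderOf (Dh g * Ph σ : MulAut (PSLn n F)) = p)
    (hnot : (Dh g * Ph σ : MulAut (PSLn n F)) ∉ Dsub n F) :
    fixG (Dh g * Ph σ : MulAut (PSLn n F)) ≠ ⊥ := by
  obtain ⟨-, h, hh⟩ := semilinear_conj hn g σ hord hnot
  intro hbot
  apply fixG_Ph_ne_bot hn σ
  rw [Cfsg.Agent.Lib.Helper8.Bal.fixG_conj_eq _ _ _ hh, hbot, Subgroup.map_bot]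

/-! ### graph automorphisms of prime order -/

theorem semi_graph_ne_one (hn : 3 ≤ n) (a : GL (Fin n) F) (τ : RingAut F) :
    (Dh a * Ph τ * Γ : MulAut (PSLn n F)) ≠ 1 := by
  intro h
  apply conj_ne_field_it hn a⁻¹ τ
  have h1 : (Ph τ * Γ : MulAut (PSLn n F)) = (Dh a)⁻¹ := by
    rw [mul_assoc] at h
    exact eq_inv_of_mul_eq_one_right h
  rw [← map_inv] at h1
  exact h1.symm

theorem semi_graph_sq (g : GL (Fin n) F) (σ : RingAut F) :
    (Dh g * Ph σ * Γ : MulAut (PSLn n F)) * (Dh g * Ph σ * Γ) =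
      Dh (g * gmap σ (gti g)) * Ph (σ * σ) := by
  calc (Dh g * Ph σ * Γ : MulAut (PSLn n F)) * (Dh g * Ph σ * Γ)
      = Dh g * Ph σ * (Γ * Dh g) * Ph σ * Γ := by simp only [mul_assoc]
    _ = Dh g * (Ph σ * Dh (gti g)) * (Γ * Ph σ) * Γ := by rw [Γ_Dh]; simp only [mul_assoc]
    _ = Dh g * (Dh (gmap σ (gti g)) * Ph σ) * (Ph σ * Γ) * Γ := by rw [Ph_Dh, Γ_Ph]
    _ = Dh g * Dh (gmap σ (gti g)) * (Ph σ * Ph σ) * (Γ * Γ) := by simp only [mul_assoc]
    _ = _ := by rw [Γ_Γ, mul_one, ← map_mul, ← map_mul]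

/-- a graph-type automorphism of prime order is an involution -/
theorem semi_graph_order (hn : 3 ≤ n) {p : ℕ} [Fact p.Prime] (g : GL (Fin n) F) (σ : RingAut F)
    (hord : orderOf (Dh g * Ph σ * Γ : MulAut (PSLn n F)) = p) : p = 2 := by
  have hp : p.Prime := Fact.out
  rcases hp.eq_two_or_odd' with h2 | hodd
  · exact h2
  · exfalso
    obtain ⟨k, hk⟩ := hodd
    have hβp : (Dh g * Ph σ * Γ : MulAut (PSLn n F)) ^ p = 1 := by
      rw [← hord]
      exact pow_orderOf_eq_one _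
    rw [hk, pow_succ, pow_mul, pow_two, semi_graph_sq, coset_pow] at hβp
    have e : Dh (gnorm (σ * σ) (g * gmap σ (gti g)) k) * Ph ((σ * σ) ^ k) *
        (Dh g * Ph σ * Γ : MulAut (PSLn n F)) =
        Dh (gnorm (σ * σ) (g * gmap σ (gti g)) k * gmap ((σ * σ) ^ k) g) *
          Ph ((σ * σ) ^ k * σ) * Γ := by
      calc Dh (gnorm (σ * σ) (g * gmap σ (gti g)) k) * Ph ((σ * σ) ^ k) *
          (Dh g * Ph σ * Γ : MulAut (PSLn n F))
          = Dh (gnorm (σ * σ) (g * gmap σ (gti g)) k) * (Ph ((σ * σ) ^ k) * Dh g) * Ph σ * Γ := by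
            simp only [mul_assoc]
        _ = _ := by
            rw [Ph_Dh, map_mul, map_mul]
            simp only [mul_assoc]
    rw [e] at hβp
    exact semi_graph_ne_one hn _ _ hβp

/-- the graph case -/
theorem coreTrivial_graph [Fintype F] (h2 : (2 : F) ≠ 0) (hn : 3 ≤ n) (hfac : Fac n F)
    (hskew : ∀ A : GL (Fin n) F, A.valᵀ = -A.val →
      CoreTrivial (Dh A * Γ : MulAut (PSLn n F)) 2)
    (g : GL (Fin n) F) (σ : RingAut F)
    (hord : orderOf (Dh g * Ph σ * Γ : MulAut (PSLn n F)) = 2) :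
    CoreTrivial (Dh g * Ph σ * Γ : MulAut (PSLn n F)) 2 := by
  have hZ := center_psl_eq_bot (F := F) (n := n) (by omega)
  have hβ2 : (Dh g * Ph σ * Γ : MulAut (PSLn n F)) ^ 2 = 1 := by
    rw [← hord]
    exact pow_orderOf_eq_one _
  have hσ2 : σ ^ 2 = 1 := by
    have h1 := hβ2
    rw [pow_two, semi_graph_sq] at h1
    apply Ph_inj (by omega : 2 ≤ n)
    have : (Ph (σ ^ 2) : MulAut (PSLn n F)) = (Dh (g * gmap σ (gti g)))⁻¹ := by
      rw [pow_two]
      exact eq_inv_of_mul_eq_one_right h1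
    rw [this, ← map_inv]
    exact ⟨_, rfl⟩
  by_cases hσ1 : σ = 1
  · subst hσ1
    rw [map_one, mul_one] at hβ2 ⊢
    rcases (graph_sq_eq_one_iff (by omega) g).1 hβ2 with hs | hs
    · intro W h1 h2' h3
      exact core_trivial_graph_symm h2 hn hfac hZ g hs W h1 h2' h3
    · exact hskew g hs
  · have hβ2' : (Dh g * (Ph σ * Γ) : MulAut (PSLn n F)) ^ 2 = 1 := by
      rw [← mul_assoc]
      exact hβ2
    obtain ⟨h, hh⟩ := graphfield_coset_conj (by omega) σ hσ2 hσ1 g hβ2'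
    have hconj : (Dh h)⁻¹ * (Dh g * Ph σ * Γ : MulAut (PSLn n F)) * ((Dh h)⁻¹)⁻¹ = Ph σ * Γ := by
      rw [mul_assoc (Dh g), hh]
      group
    apply coreTrivial_transport _ _ _ hconj
    intro W h1 h2' h3
    exact core_trivial_graphfield σ hσ2 hσ1 h2 hn hfac hZ W h1 h2' h3

end Cfsg.Agent.Lib.Helper8.BalL
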