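import Cfsg.Agent.Lib.Helper7.GraphInv.GraphCent
import Cfsg.Agent.Lib.Helper8.BalL.CentC
import Cfsg.Agent.Lib.Helper8.BalL.Abs

/-!
# Graph involutions of orthogonal type of `PSL_n`: the centraliser of `PSO_n` in `Aut(PSL_n)`
(helper8)
-/

set_option autoImplicit false

namespace Cfsg.Agent.Lib.Helper8.BalL

open Matrix Cfsg Cfsg.Agent.AutPSLCount

variable {F : Type*} [Field F] {n : ℕ}

/-! ### general lemmas -/

theorem pr_eq_smul (x y : SLn n F) (h : pr x = pr y) : ∃ ζ : F, y.val = ζ • x.val := by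
  rw [pr_eq_iff] at h
  obtain ⟨ζ, hζ⟩ := center_scalar _ h
  refine ⟨ζ, ?_⟩
  have h1 : y.val = x.val * (x⁻¹ * y).val := by
    rw [← Matrix.SpecialLinearGroup.coe_mul, mul_inv_cancel_left]
  rw [h1, hζ]
  ext u v
  rw [Matrix.mul_apply, Matrix.smul_apply, smul_eq_mul, Finset.sum_eq_single v]
  · rw [Matrix.scalar_apply, Matrix.diagonal_apply_eq]
    ring
  · intro w _ hw
    rw [Matrix.scalar_apply, Matrix.diagonal_apply_ne _ hw, mul_zero]
  · intro hv; exact absurd (Finset.mem_univ v) hv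

theorem graph_apply (A : GL (Fin n) F) (s : SLn n F) :
    (Dh A * Γ : MulAut (PSLn n F)) (pr s) = pr (conjSL A (itSL s)) := rfl

theorem semilin_apply (g : GL (Fin n) F) (τ : RingAut F) (s : SLn n F) :
    (Dh g * Ph τ : MulAut (PSLn n F)) (pr s) = pr (conjSL g (fieldSL τ s)) := rfl

theorem bD_gram (a : Fin n → F) (P : Matrix (Fin n) (Fin n) F) (x y : Fin n → F) :
    bD a (P *ᵥ x) (P *ᵥ y) = x ⬝ᵥ ((Pᵀ * Matrix.diagonal a * P) *ᵥ y) := by
  rw [bD_eq_dot, ← Matrix.mulVec_mulVec, ← Matrix.mulVec_mulVec, Matrix.dotProduct_mulVec x,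
    Matrix.vecMul_transpose]

theorem dot_single_mulVec (M : Matrix (Fin n) (Fin n) F) (u v : Fin n) :
    (Pi.single u (1 : F)) ⬝ᵥ (M *ᵥ Pi.single v 1) = M u v := by
  rw [Matrix.mulVec_single_one, single_dotProduct, one_mul]
  rfl

/-- similitudes, in matrix form -/
theorem sim_iff_gram (a : Fin n → F) (P : Matrix (Fin n) (Fin n) F) (μ : F) :
    (∀ x y, bD a (P *ᵥ x) (P *ᵥ y) = μ * bD a x y) ↔
      Pᵀ * Matrix.diagonal a * P = μ • Matrix.diagonal a := by
  constructor
  · intro h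
    ext u v
    have := h (Pi.single u 1) (Pi.single v 1)
    rw [bD_gram, dot_single_mulVec, bD_eq_dot, dot_single_mulVec] at this
    rw [this, Matrix.smul_apply, smul_eq_mul]
  · intro h x y
    rw [bD_gram, h, Matrix.smul_mulVec, dotProduct_smul, smul_eq_mul, bD_eq_dot]

theorem mem_Oa_iff_gram (a : Fin n → F) (g : GL (Fin n) F) :
    g ∈ Oa a ↔ g.valᵀ * Matrix.diagonal a * g.val = Matrix.diagonal a := by
  have := sim_iff_gram a g.val 1
  rw [one_smul] at this
  rw [← this]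
  constructor
  · intro h x y
    rw [one_mul]
    exact h x y
  · intro h x y
    have := h x y
    rwa [one_mul] at this

/-! ### the centraliser of `PSO_n` -/

section cent

variable (h2 : (2 : F) ≠ 0) (hn : 3 ≤ n) (a : Fin n → F) (ha : ∀ i, a i ≠ 0)
  (m : Fin n) (hnf : ∀ i, i ≠ m → a i = 1)

include h2 hn ha hnf in
/-- a semilinear automorphism fixing `PSO(a)` pointwise is trivial -/
theorem centO_aut (g : GL (Fin n) F) (τ : RingAut F)
    (hfix : ∀ s : SLn n F, SpecialLinearGroup.toGL s ∈ SOa a →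
      (Dh g * Ph τ : MulAut (PSLn n F)) (pr s) = pr s) :
    (Dh g * Ph τ : MulAut (PSLn n F)) = 1 := by
  have H : ∀ s ∈ SOa a, ∃ ζ : F, g.val * s.val.map τ = ζ • (s.val * g.val) := by
    intro s hs
    obtain ⟨s', rfl⟩ := exists_toGL s (by
      apply Units.ext
      rw [Matrix.GeneralLinearGroup.val_det_apply]
      exact hs.2)
    have h1 := hfix s' hs
    rw [semilin_apply] at h1
    obtain ⟨ζ, hζ⟩ := pr_eq_smul _ _ h1.symm
    refine ⟨ζ, ?_⟩
    rw [conjSL_apply, conjFun_val, fieldSL_val] at hζ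
    have h3 : g⁻¹.val * g.val = 1 := by rw [← Units.val_mul, inv_mul_cancel, Units.val_one]
    calc g.val * (SpecialLinearGroup.toGL s').val.map τ
        = g.val * s'.val.map τ * g⁻¹.val * g.val := by
          rw [Matrix.mul_assoc, Matrix.mul_assoc, h3, Matrix.mul_one]
          rfl
      _ = ζ • ((SpecialLinearGroup.toGL s').val * g.val) := by
          rw [hζ, Matrix.smul_mul]
          rfl
  obtain ⟨hτ, c, hc⟩ := centO_matrix h2 hn a ha g τ H m hnf
  have hτ1 : τ = 1 := by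
    ext t
    exact hτ t
  have hg : g ∈ (Dh : GL (Fin n) F →* MulAut (PSLn n F)).ker := by
    rw [Dh_ker (by omega), Matrix.GeneralLinearGroup.mem_center_iff_val_mem_range_scalar]
    refine ⟨c, ?_⟩
    rw [hc]
    ext u v
    simp [Matrix.scalar_apply, Matrix.diagonal_apply, Matrix.one_apply]
  rw [hτ1, map_one, mul_one]
  exact hg

end cent

end Cfsg.Agent.Lib.Helper8.BalL
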