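import Cfsg.Agent.Lib.Helper8.BalL.TV
import Cfsg.Agent.Lib.Helper8.BalL.GraphOA
import Cfsg.Agent.Lib.Helper8.AutSp.BalD

/-!
# Field automorphisms of `PSL_n`: the subfield subgroup (helper8)

The image of `PSL_n(F₀)` in `PSL_n(F)`, its normaliser property and its centraliser in
`Aut(PSL_n(F))`.
-/

set_option autoImplicit false

namespace Cfsg.Agent.Lib.Helper8.BalL

open Matrix Cfsg Cfsg.Agent.AutPSLCount Cfsg.Agent.Lib.Helper8.AutSp

variable {F : Type*} [Field F] {n : ℕ} {F₀ : Type*} [Field F₀]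

/-! ### the subfield subgroup -/

/-- the map on special linear groups induced by a ring homomorphism -/
def mapSL (ι : F₀ →+* F) : SLn n F₀ →* SLn n F := Matrix.SpecialLinearGroup.map ι

theorem mapSL_val (ι : F₀ →+* F) (s : SLn n F₀) : (mapSL ι s).val = s.val.map ι := rfl

theorem mapSL_center (ι : F₀ →+* F) (s : SLn n F₀) (hs : s ∈ Subgroup.center (SLn n F₀)) :
    mapSL ι s ∈ Subgroup.center (SLn n F) := by
  rw [Matrix.SpecialLinearGroup.mem_center_iff] at hs ⊢
  obtain ⟨r, hr, hrs⟩ := hs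
  refine ⟨ι r, by rw [← map_pow, hr, map_one], ?_⟩
  rw [mapSL_val, ← hrs]
  ext i j
  rw [Matrix.map_apply, Matrix.scalar_apply, Matrix.scalar_apply, Matrix.diagonal_apply,
    Matrix.diagonal_apply]
  split_ifs
  · rfl
  · rw [map_zero]

/-- the subfield subgroup `PSL_n(F₀) → PSL_n(F)` -/
noncomputable def jF (ι : F₀ →+* F) : PSLn n F₀ →* PSLn n F :=
  QuotientGroup.map _ _ (mapSL ι) (fun s hs => mapSL_center ι s hs)

theorem jF_pr (ι : F₀ →+* F) (s : SLn n F₀) : jF ι (pr s) = pr (mapSL ι s) := rfl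

theorem Ph_pr (σ : RingAut F) (x : SLn n F) :
    (Ph σ : MulAut (PSLn n F)) (pr x) = pr (fieldSL σ x) := rfl

/-- the subfield subgroup is fixed by the field automorphism -/
theorem Ph_jF (σ : RingAut F) (ι : F₀ →+* F) (hι : ∀ s, σ (ι s) = ι s) (s : PSLn n F₀) :
    (Ph σ : MulAut (PSLn n F)) (jF ι s) = jF ι s := by
  obtain ⟨s, rfl⟩ := pr_surjective s
  rw [jF_pr, Ph_pr]
  congr 1
  apply Subtype.ext
  rw [fieldSL_val, mapSL_val]
  ext i j
  rw [Matrix.map_apply, Matrix.map_apply]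
  exact hι _

/-- a matrix with entries in the subfield comes from the subfield -/
theorem exists_mapSL_eq (ι : F₀ →+* F) (y : SLn n F)
    (hy : ∀ i j, ∃ s : F₀, ι s = y.val i j) : ∃ s' : SLn n F₀, mapSL ι s' = y := by
  choose f hf using hy
  have hmap : (Matrix.of f).map ι = y.val := by
    ext i j
    rw [Matrix.map_apply, Matrix.of_apply, hf]
  have hdet : (Matrix.of f).det = 1 := by
    apply ι.injective
    rw [RingHom.map_det, map_one]
    have : ι.mapMatrix (Matrix.of f) = y.val := hmap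
    rw [this]
    exact y.2
  exact ⟨⟨Matrix.of f, hdet⟩, Subtype.ext hmap⟩

/-- the subfield subgroup is normalised by the fixed points of the field automorphism -/
theorem jF_norm (σ : RingAut F) (ι : F₀ →+* F) (hι : ∀ s, σ (ι s) = ι s)
    (hfix : ∀ t : F, σ t = t → ∃ s : F₀, ι s = t)
    (k : PSLn n F) (hk : (Ph σ : MulAut (PSLn n F)) k = k) (s : PSLn n F₀) :
    ∃ s' : PSLn n F₀, jF ι s' = k * jF ι s * k⁻¹ := by
  obtain ⟨x, rfl⟩ := pr_surjective k
  obtain ⟨s, rfl⟩ := pr_surjective s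
  rw [Ph_pr] at hk
  have hz : x⁻¹ * fieldSL σ x ∈ Subgroup.center (SLn n F) := (pr_eq_iff _ _).1 hk.symm
  have hσx : fieldSL σ x = x * (x⁻¹ * fieldSL σ x) := by rw [mul_inv_cancel_left]
  have hσs : fieldSL σ (mapSL ι s) = mapSL ι s := by
    apply Subtype.ext
    rw [fieldSL_val, mapSL_val]
    ext i j
    rw [Matrix.map_apply, Matrix.map_apply]
    exact hι _
  have hy : fieldSL σ (x * mapSL ι s * x⁻¹) = x * mapSL ι s * x⁻¹ := by
    rw [map_mul, map_mul, map_inv, hσs, hσx]
    set z := x⁻¹ * fieldSL σ x with hzdef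
    have hc : ∀ y : SLn n F, z * y = y * z := fun y => (Subgroup.mem_center_iff.1 hz y).symm
    calc x * z * mapSL ι s * (x * z)⁻¹ = x * (z * mapSL ι s) * z⁻¹ * x⁻¹ := by group
      _ = x * (mapSL ι s * z) * z⁻¹ * x⁻¹ := by rw [hc]
      _ = x * mapSL ι s * x⁻¹ := by group
  obtain ⟨s', hs'⟩ := exists_mapSL_eq ι (x * mapSL ι s * x⁻¹) (by
    intro i j
    apply hfix
    have := congrArg (fun y : SLn n F => y.val i j) hy
    simp only [fieldSL_val, Matrix.map_apply] at this
    exact this)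
  refine ⟨pr s', ?_⟩
  rw [jF_pr, hs', jF_pr, map_mul, map_mul, map_inv]

/-! ### the centraliser of the subfield subgroup -/

/-- the transvection `1 + v φᵀ` as an element of `SL_n` -/
def tvSL (v φ : Fin n → F₀) (h : φ ⬝ᵥ v = 0) : SLn n F₀ :=
  ⟨tv v φ, by rw [tv_det, h, add_zero]⟩

theorem tvSL_val (v φ : Fin n → F₀) (h : φ ⬝ᵥ v = 0) : (tvSL v φ h).val = tv v φ := rfl

/-- a semilinear map normalising the subfield subgroup up to scalars is a scalar, and its field
automorphism fixes the subfield -/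
theorem cent_sub_matrix (hn : 2 ≤ n) (ι : F₀ →+* F) (h : Matrix (Fin n) (Fin n) F)
    (hh : IsUnit h) (τ : F →+* F)
    (H : ∀ s : SLn n F₀, ∃ ζ : F, h * ((mapSL ι s).val).map τ = ζ • ((mapSL ι s).val * h)) :
    (∀ t : F₀, τ (ι t) = ι t) ∧ ∃ c : F, h = c • (1 : Matrix (Fin n) (Fin n) F) := by
  have key := scalar_of_lines hn h hh τ (Set.range ι) ⟨0, map_zero ι⟩ ⟨1, map_one ι⟩ (by
    rintro i j hij _ ⟨t, rfl⟩
    -- the transvection with centre `e_i + t e_j`
    have hdot : (Pi.single j 1 - t • Pi.single i 1 : Fin n → F₀) ⬝ᵥ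
        (Pi.single i 1 + t • Pi.single j 1) = 0 := by
      rw [sub_dotProduct, dotProduct_add, dotProduct_add, smul_dotProduct, smul_dotProduct,
        dotProduct_smul, dotProduct_smul, single_dotProduct, single_dotProduct,
        single_dotProduct, single_dotProduct]
      simp only [Pi.single_eq_same, Pi.single_eq_of_ne hij, Pi.single_eq_of_ne hij.symm,
        smul_eq_mul]
      ring
    obtain ⟨ζ, hζ⟩ := H (tvSL _ _ hdot)
    rw [mapSL_val, tvSL_val, tv_map, tv_map] at hζ
    have hv : (fun k => ι ((Pi.single i 1 + t • Pi.single j 1 : Fin n → F₀) k)) =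
        (Pi.single i 1 + ι t • Pi.single j 1 : Fin n → F) := by
      funext k
      simp only [Pi.add_apply, Pi.smul_apply, smul_eq_mul, map_add, map_mul, Pi.single_apply]
      split_ifs <;> simp
    have hφ : (fun k => ι ((Pi.single j 1 - t • Pi.single i 1 : Fin n → F₀) k)) =
        (Pi.single j 1 - ι t • Pi.single i 1 : Fin n → F) := by
      funext k
      simp only [Pi.sub_apply, Pi.smul_apply, smul_eq_mul, map_sub, map_mul, Pi.single_apply]
      split_ifs <;> simp
    have hdot' : (fun k => ι ((Pi.single j 1 - t • Pi.single i 1 : Fin n → F₀) k)) ⬝ᵥ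
        (fun k => ι ((Pi.single i 1 + t • Pi.single j 1 : Fin n → F₀) k)) = 0 := by
      rw [dot_map, hdot, map_zero]
    have hdot'' : (fun k => τ ((fun k => ι ((Pi.single j 1 - t • Pi.single i 1 : Fin n → F₀) k)) k))
        ⬝ᵥ (fun k => τ ((fun k => ι ((Pi.single i 1 + t • Pi.single j 1 : Fin n → F₀) k)) k))
        = 0 := by
      rw [dot_map, hdot', map_zero]
    have hne : (fun k => τ ((fun k => ι ((Pi.single j 1 - t • Pi.single i 1 : Fin n → F₀) k)) k))
        ≠ 0 := by
      intro h0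
      have := congrFun h0 j
      simp only [Pi.sub_apply, Pi.smul_apply, smul_eq_mul, Pi.single_eq_same,
        Pi.single_eq_of_ne hij.symm, mul_zero, sub_zero, map_one, Pi.zero_apply] at this
      exact one_ne_zero this
    obtain ⟨c, hc⟩ := tv_center' hn h hh _ _ _ _ hne hdot'' hdot' ζ hζ
    refine ⟨c, ?_⟩
    rw [hv] at hc
    rw [← hc, map_single_add])
  refine ⟨fun t => key.1 (ι t) ⟨t, rfl⟩, key.2⟩

end Cfsg.Agent.Lib.Helper8.BalL
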