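import Cfsg.Agent.Lib.Helper8.BalL.FieldB
import Cfsg.Agent.Lib.Helper8.Bal.Abstract
import Cfsg.Agent.S0249

/-!
# Field automorphisms of `PSL_n`: normal subgroups of the subfield group and elements of order `p`
(helper8)
-/

set_option autoImplicit false

namespace Cfsg.Agent.Lib.Helper8.BalL

open Matrix Cfsg Cfsg.Agent.AutPSLCount Cfsg.Agent.Lib.Helper8.AutSp

variable {F : Type*} [Field F] {n : ℕ} {F₀ : Type*} [Field F₀]

/-! ### normal subgroups of `PSL_n(F₀)` -/

/-- Iwasawa: a normal subgroup of `PSL_n(F₀)` is trivial or contains the commutator subgroup -/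
theorem psl_dichotomy (hn : 2 ≤ n) (N : Subgroup (PSLn n F₀)) [N.Normal] :
    N = ⊥ ∨ commutator (PSLn n F₀) ≤ N := by
  have hnt : Nontrivial (Fin n) := Fin.nontrivial_iff_two_le.2 hn
  by_cases hfix : MulAction.fixedPoints N (Projectivization F₀ (Fin n → F₀)) = Set.univ
  · left
    refine N.eq_bot_iff_forall.mpr fun g hg => ?_
    have hf : FaithfulSMul (PSLn n F₀) (Projectivization F₀ (Fin n → F₀)) := inferInstance
    apply hf.eq_of_smul_eq_smul
    intro x
    rw [one_smul]
    exact Set.eq_univ_iff_forall.mp hfix x ⟨g, hg⟩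
  · right
    exact (Cfsg.Agent.S0249.iwasawa (F := F₀) (ι := Fin n)).commutator_le N hfix

/-! ### the abelianisation has exponent the characteristic -/

theorem transvection_pow {i j : Fin n} (hij : i ≠ j) (b : F₀) (k : ℕ) :
    (Matrix.SpecialLinearGroup.transvection hij b) ^ k =
      Matrix.SpecialLinearGroup.transvection hij (k • b) := by
  induction k with
  | zero => rw [pow_zero, zero_smul, Matrix.SpecialLinearGroup.transvection_coeff_zero]
  | succ k ih => rw [pow_succ, ih, ← Matrix.SpecialLinearGroup.transvection_add, succ_nsmul]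

/-- the abelianisation of `PSL_n(F₀)` has exponent the characteristic -/
theorem pow_char_mem_commutator_psl (hn : 2 ≤ n) (r : ℕ) [CharP F₀ r] (s : PSLn n F₀) :
    s ^ r ∈ commutator (PSLn n F₀) := by
  have hnt : Nontrivial (Fin n) := Fin.nontrivial_iff_two_le.2 hn
  obtain ⟨s, rfl⟩ := pr_surjective s
  rw [← Abelianization.ker_of, MonoidHom.mem_ker, map_pow]
  let H : Subgroup (SLn n F₀) :=
    ((powMonoidHom r : Abelianization (PSLn n F₀) →* _).ker).comap
      ((Abelianization.of : PSLn n F₀ →* _).comp pr)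
  have htr : ∀ (i j : Fin n) (hij : i ≠ j) (c : F₀),
      Matrix.SpecialLinearGroup.transvection hij c ∈ H := by
    intro i j hij c
    show (powMonoidHom r) (Abelianization.of (pr (Matrix.SpecialLinearGroup.transvection hij c)))
      = 1
    rw [powMonoidHom_apply, ← map_pow, ← map_pow, transvection_pow, nsmul_eq_mul,
      CharP.cast_eq_zero, zero_mul, Matrix.SpecialLinearGroup.transvection_coeff_zero, map_one,
      map_one]
  have hmem : s ∈ H := by
    refine Matrix.SpecialLinearGroup.diagonal_transvection_induction' (fun A => A ∈ H) s ?_ htr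
      (fun _ _ => mul_mem)
    intro i j hij c hc
    rw [Cfsg.Agent.Lib.Helper5.SLn.diag2n_decompose hij c hc]
    exact mul_mem (mul_mem (mul_mem (mul_mem (mul_mem (htr _ _ _ _) (htr _ _ _ _)) (htr _ _ _ _))
      (htr _ _ _ _)) (htr _ _ _ _)) (htr _ _ _ _)
  exact hmem

/-! ### powers of fixed points lie in the subfield subgroup -/

theorem center_pow (z : SLn n F) (hz : z ∈ Subgroup.center (SLn n F)) : z ^ n = 1 := by
  rw [Matrix.SpecialLinearGroup.mem_center_iff] at hz
  obtain ⟨c, hc, hcz⟩ := hz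
  rw [Fintype.card_fin] at hc
  apply Subtype.ext
  rw [Matrix.SpecialLinearGroup.coe_pow, ← hcz, ← map_pow, hc, map_one,
    Matrix.SpecialLinearGroup.coe_one]

/-- the `n`-th power of a fixed point of the field automorphism lies in the subfield subgroup -/
theorem pow_mem_range_jF (σ : RingAut F) (ι : F₀ →+* F)
    (hfix : ∀ t : F, σ t = t → ∃ s : F₀, ι s = t)
    (k : PSLn n F) (hk : (Ph σ : MulAut (PSLn n F)) k = k) :
    ∃ s : PSLn n F₀, jF ι s = k ^ n := by
  obtain ⟨x, rfl⟩ := pr_surjective k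
  rw [Ph_pr] at hk
  have hz : x⁻¹ * fieldSL σ x ∈ Subgroup.center (SLn n F) := (pr_eq_iff _ _).1 hk.symm
  have hσx : fieldSL σ x = x * (x⁻¹ * fieldSL σ x) := by rw [mul_inv_cancel_left]
  have hy : fieldSL σ (x ^ n) = x ^ n := by
    rw [map_pow, hσx]
    set z := x⁻¹ * fieldSL σ x with hzdef
    have hc : Commute x z := Subgroup.mem_center_iff.1 hz x
    rw [hc.mul_pow, center_pow z hz, mul_one]
  obtain ⟨s', hs'⟩ := exists_mapSL_eq ι (x ^ n) (by
    intro i j
    apply hfix
    have := congrArg (fun y : SLn n F => y.val i j) hy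
    simp only [fieldSL_val, Matrix.map_apply] at this
    exact this)
  exact ⟨pr s', by rw [jF_pr, hs', map_pow]⟩

/-! ### permutation matrices -/

/-- even permutation matrices in `SL_n` -/
def permSL (n : ℕ) (F₀ : Type*) [Field F₀] : ↥(alternatingGroup (Fin n)) →* SLn n F₀ where
  toFun c := ⟨(c.1⁻¹).permMatrix F₀, by
    rw [Matrix.det_permutation, Equiv.Perm.sign_inv, Equiv.Perm.mem_alternatingGroup.1 c.2]
    simp⟩
  map_one' := by
    apply Subtype.ext
    show ((1 : ↥(alternatingGroup (Fin n))).1⁻¹).permMatrix F₀ = 1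
    rw [Subgroup.coe_one, inv_one, Matrix.permMatrix_one]
  map_mul' c d := by
    apply Subtype.ext
    show ((c * d).1⁻¹).permMatrix F₀ = (c.1⁻¹).permMatrix F₀ * (d.1⁻¹).permMatrix F₀
    rw [Subgroup.coe_mul, _root_.mul_inv_rev, Matrix.permMatrix_mul]

theorem permSL_val (c : ↥(alternatingGroup (Fin n))) :
    (permSL n F₀ c).val = (c.1⁻¹).permMatrix F₀ := rfl

/-- a nontrivial even permutation matrix is not a scalar in `PSL_n(F)` -/
theorem jF_permSL_ne_one (ι : F₀ →+* F) (c : ↥(alternatingGroup (Fin n))) (hc : c ≠ 1) :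
    jF ι (pr (permSL n F₀ c)) ≠ 1 := by
  intro h
  rw [jF_pr] at h
  have hz : mapSL ι (permSL n F₀ c) ∈ Subgroup.center (SLn n F) := (QuotientGroup.eq_one_iff _).1 h
  rw [Matrix.SpecialLinearGroup.mem_center_iff] at hz
  obtain ⟨a, -, ha⟩ := hz
  have hc' : c.1⁻¹ ≠ 1 := by
    intro h1
    apply hc
    apply Subtype.ext
    rw [Subgroup.coe_one, ← inv_eq_one]
    exact h1
  obtain ⟨i, hi⟩ : ∃ i, c.1⁻¹ i ≠ i := by
    by_contra hcon
    push Not at hcon
    exact hc' (Equiv.ext hcon)
  have e := congrFun (congrFun ha i) (c.1⁻¹ i)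
  rw [mapSL_val, permSL_val, Matrix.map_apply, Matrix.scalar_apply,
    Matrix.diagonal_apply_ne _ (Ne.symm hi)] at e
  have e1 : (c.1⁻¹).permMatrix F₀ i (c.1⁻¹ i) = 1 := by
    simp [Equiv.Perm.permMatrix, PEquiv.toMatrix_apply, Equiv.toPEquiv_apply]
  rw [e1, map_one] at e
  exact zero_ne_one e

/-- an element of order `p` in the image of `PSL_n(F₀)`, when `p ∣ n` and `(n, p) ≠ (2, 2)` -/
theorem exists_order_p_perm (hn : 2 ≤ n) (ι : F₀ →+* F) (p : ℕ) [Fact p.Prime] (hpn : p ∣ n)
    (hnp : ¬(n = 2 ∧ p = 2)) :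
    ∃ s : PSLn n F₀, orderOf (jF ι s) = p := by
  classical
  have hp : p.Prime := Fact.out
  have hnt : Nontrivial (Fin n) := Fin.nontrivial_iff_two_le.2 hn
  have hple : p ≤ n := Nat.le_of_dvd (by omega) hpn
  have hcard : 2 * Fintype.card ↥(alternatingGroup (Fin n)) = n.factorial := by
    rw [two_mul_card_alternatingGroup, Fintype.card_perm, Fintype.card_fin]
  have hdvd : p ∣ Fintype.card ↥(alternatingGroup (Fin n)) := by
    by_cases hp2 : p = 2
    · subst hp2
      have h4 : 4 ≤ n := by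
        obtain ⟨k, rfl⟩ := hpn
        have : k ≠ 1 := fun hk => hnp ⟨by omega, rfl⟩
        omega
      have h4d : 4 ∣ n.factorial := Nat.dvd_factorial (by norm_num) h4
      rw [← hcard] at h4d
      obtain ⟨k, hk⟩ := h4d
      exact ⟨k, by omega⟩
    · have h1 : p ∣ 2 * Fintype.card ↥(alternatingGroup (Fin n)) := by
        rw [hcard]
        exact (Nat.Prime.dvd_factorial hp).2 hple
      exact ((Nat.coprime_primes hp Nat.prime_two).2 hp2).dvd_of_dvd_mul_left h1
  obtain ⟨c, hc⟩ := exists_prime_orderOf_dvd_card p hdvd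
  refine ⟨pr (permSL n F₀ c), ?_⟩
  apply orderOf_eq_prime
  · rw [← map_pow, ← map_pow, ← map_pow, ← hc, pow_orderOf_eq_one, map_one, map_one, map_one]
  · apply jF_permSL_ne_one
    intro h1
    rw [h1, orderOf_one] at hc
    exact hp.one_lt.ne hc

/-- an element of order `2` in the image of `PSL_2(F₀)` in odd characteristic -/
theorem exists_order_two (ι : F₀ →+* F) :
    ∃ s : PSLn 2 F₀, orderOf (jF ι s) = 2 := by
  let s : SLn 2 F₀ := ⟨!![0, 1; -1, 0], by simp [Matrix.det_fin_two]⟩
  refine ⟨pr s, ?_⟩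
  apply orderOf_eq_prime
  · rw [← map_pow, ← map_pow, jF_pr]
    apply (QuotientGroup.eq_one_iff _).2
    rw [Matrix.SpecialLinearGroup.mem_center_iff]
    refine ⟨-1, by simp, ?_⟩
    rw [mapSL_val, Matrix.SpecialLinearGroup.coe_pow]
    ext i j
    fin_cases i <;> fin_cases j <;> simp [s, pow_two]
  · intro h
    rw [jF_pr] at h
    have hz : mapSL ι s ∈ Subgroup.center (SLn 2 F) := (QuotientGroup.eq_one_iff _).1 h
    rw [Matrix.SpecialLinearGroup.mem_center_iff] at hz
    obtain ⟨a, -, ha⟩ := hz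
    have e := congrFun (congrFun ha 0) 1
    rw [mapSL_val, Matrix.map_apply] at e
    simp [s] at e

end Cfsg.Agent.Lib.Helper8.BalL
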