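import Cfsg.Agent.Lib.Helper8.BalL.FieldC

/-!
# Field automorphisms of `PSL_n`: the main theorem (helper8)

If `p` divides the number of fixed points of the standard field automorphism `Ph σ` of prime
order `p ≠ char F` of `PSL_n(F)`, then a `p'`-group of automorphisms commuting with `Ph σ` and
normalised by the inner automorphisms from its fixed points is trivial.
-/

set_option autoImplicit false

namespace Cfsg.Agent.Lib.Helper8.BalL

open Matrix Cfsg Cfsg.Agent.AutPSLCount Cfsg.Agent.Lib.Helper8.AutSp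

variable {F : Type*} [Field F] {n : ℕ}

/-- an element of order `p` in the image of the commutator subgroup of `PSL_n(F₀)` -/
theorem exists_order_p_comm [Fintype F] {r : ℕ} [Fact r.Prime] [CharP F r] (hn : 2 ≤ n)
    {p : ℕ} [Fact p.Prime] (hpr : p ≠ r) (σ : RingAut F)
    (hdiv : p ∣ Nat.card ↥(fixG (Ph σ : MulAut (PSLn n F)))) :
    ∃ s ∈ commutator (PSLn n ↥(fixSub σ)), orderOf (jF (fixι σ) s) = p := by
  classical
  have hp : p.Prime := Fact.out
  have hr : r.Prime := Fact.out
  have : CharP ↥(fixSub σ) r :=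
    (RingHom.charP_iff (fixι σ) (fixι σ).injective r).2 inferInstance
  -- it suffices to find an element of order `p` in the image
  suffices h : ∃ s₁ : PSLn n ↥(fixSub σ), orderOf (jF (fixι σ) s₁) = p by
    obtain ⟨s₁, hs₁⟩ := h
    refine ⟨s₁ ^ r, pow_char_mem_commutator_psl hn r s₁, ?_⟩
    rw [map_pow]
    have hcop : (orderOf (jF (fixι σ) s₁)).Coprime r := by
      rw [hs₁]
      exact (Nat.coprime_primes hp hr).2 hpr
    rw [hcop.orderOf_pow, hs₁]
  by_cases hpn : p ∣ n
  · by_cases hnp : n = 2 ∧ p = 2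
    · obtain ⟨rfl, rfl⟩ := hnp
      exact exists_order_two (fixι σ)
    · exact exists_order_p_perm hn (fixι σ) p hpn hnp
  · obtain ⟨y, hy⟩ := exists_prime_orderOf_dvd_card' (G := ↥(fixG (Ph σ : MulAut (PSLn n F))))
      p hdiv
    have hyord : orderOf (y : PSLn n F) = p := by
      rw [← hy]
      exact (Subgroup.orderOf_coe y)
    obtain ⟨s₁, hs₁⟩ := pow_mem_range_jF σ (fixι σ) (fixι_surj σ) (y : PSLn n F) y.2
    refine ⟨s₁, ?_⟩
    rw [hs₁]
    have hcop : (orderOf (y : PSLn n F)).Coprime n := by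
      rw [hyord]
      exact (Nat.Prime.coprime_iff_not_dvd hp).2 hpn
    rw [hcop.orderOf_pow, hyord]

/-- **field automorphisms of `PSL_n(F)`**: if `p` divides the number of fixed points, a
`p'`-group of automorphisms commuting with `Ph σ` and normalised by the inner automorphisms from
the fixed points is trivial -/
theorem core_trivial_fieldPSL [Fintype F] {r : ℕ} [Fact r.Prime] [CharP F r] (hn : 2 ≤ n)
    (hfac : Fac n F) (hZ : Subgroup.center (PSLn n F) = ⊥)
    {p : ℕ} [Fact p.Prime] (hpr : p ≠ r) (σ : RingAut F) (hσ : σ ^ p = 1)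
    (W : Subgroup (MulAut (PSLn n F)))
    (hWcop : (Nat.card ↥W).Coprime p)
    (hWcent : ∀ w ∈ W, w * Ph σ = Ph σ * w)
    (hWnorm : ∀ k : PSLn n F, (Ph σ : MulAut (PSLn n F)) k = k → ∀ w ∈ W,
      MulAut.conj k * w * (MulAut.conj k)⁻¹ ∈ W)
    (hdiv : p ∣ Nat.card ↥(fixG (Ph σ : MulAut (PSLn n F)))) :
    W = ⊥ := by
  apply Cfsg.Agent.Lib.Helper8.Bal.core_trivial_abstract hZ (Ph σ) (jF (fixι σ))
    (Ph_jF σ _ (fixι_fixed σ)) (jF_norm σ _ (fixι_fixed σ) (fixι_surj σ))
    (commutator (PSLn n ↥(fixSub σ))) ?_ (jF_cent hn _) W hWcop hWcent hWnorm ?_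
    (exists_order_p_comm hn hpr σ hdiv)
  · intro N hN
    rcases psl_dichotomy hn N with h | h
    · left
      intro k hk
      rw [h, Subgroup.mem_bot] at hk
      rw [hk, map_one]
    · right
      exact h
  · intro w _ hfixw
    obtain ⟨τ, hτ, rfl⟩ := cent_sub_aut hn hfac (fixι σ) w hfixw
    have hmem : τ ∈ Subgroup.zpowers σ := by
      apply mem_zpowers_of_fix
      intro t ht
      obtain ⟨s, rfl⟩ := fixι_surj σ t ht
      exact hτ s
    obtain ⟨k, rfl⟩ := Subgroup.mem_zpowers_iff.1 hmem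
    rw [← map_pow, ← zpow_natCast, ← _root_.zpow_mul, mul_comm, _root_.zpow_mul, zpow_natCast, hσ,
      _root_.one_zpow, map_one]

/-- the fixed points of the standard field automorphism are not trivial -/
theorem fixG_Ph_ne_bot (hn : 2 ≤ n) (σ : RingAut F) :
    fixG (Ph σ : MulAut (PSLn n F)) ≠ ⊥ := by
  intro h
  have h01 : (⟨0, by omega⟩ : Fin n) ≠ ⟨1, by omega⟩ := by
    intro h'; simpa using congrArg Fin.val h'
  have hmem : pr (T (⟨0, by omega⟩ : Fin n) ⟨1, by omega⟩ h01 (1 : F)) ∈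
      fixG (Ph σ : MulAut (PSLn n F)) := by
    rw [mem_fixG, Ph_pr, fieldSL_T, map_one]
  rw [h, Subgroup.mem_bot] at hmem
  have hz : T (⟨0, by omega⟩ : Fin n) ⟨1, by omega⟩ h01 (1 : F) ∈ Subgroup.center (SLn n F) :=
    (QuotientGroup.eq_one_iff _).1 hmem
  obtain ⟨c, hc⟩ := center_scalar _ hz
  have e := congrFun (congrFun hc ⟨0, by omega⟩) ⟨1, by omega⟩
  rw [T_val, Matrix.scalar_apply, Matrix.diagonal_apply_ne _ h01, Matrix.add_apply,
    Matrix.one_apply_ne h01, Matrix.single_apply_same, zero_add] at e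
  exact one_ne_zero e

end Cfsg.Agent.Lib.Helper8.BalL
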