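import Cfsg.Agent.Lib.Helper8.BalL.Refl

/-!
# Killing rotations in an odd normal subgroup of `SO(a)` (helper8)

`N` is a subgroup of `GL_n(F)` normalised by `SOa a` whose elements have an odd power in the
centre.  If `y ∈ N` is an isometry and `w` a non-singular vector orthogonal to `y w`, the commutator
of `y` with a suitable product of two reflections is the involution `R_{yw} R_w` of `N`; this is
impossible.  Consequently `N` contains no non-trivial rotation of a coordinate plane.
-/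

set_option autoImplicit false

namespace Cfsg.Agent.Lib.Helper8.BalL

open Matrix

variable {F : Type*} [Field F] {n : ℕ}

/-- a central invertible matrix is scalar -/
theorem central_val (g : GL (Fin n) F) (hg : g ∈ Subgroup.center (GL (Fin n) F)) :
    ∃ c : F, ∀ v : Fin n → F, g.val *ᵥ v = c • v := by
  obtain ⟨c, hc⟩ := Matrix.GeneralLinearGroup.mem_center_iff_val_mem_range_scalar.1 hg
  refine ⟨c, fun v => ?_⟩
  rw [← hc]
  ext i
  simp [Matrix.scalar_apply, Matrix.mulVec_diagonal]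

/-- reflections along orthogonal vectors commute -/
theorem rfG_comm (a : Fin n → F) (u w : Fin n → F) (h : bD a u w = 0) :
    rfG a u * rfG a w = rfG a w * rfG a u := by
  by_cases hu : bD a u u ≠ 0
  · have h1 := conj_rfG a (rfG a w) (rfG_mem a w) u
    have h2 : (rfG a w).val *ᵥ u = u := by
      by_cases hw : bD a w w ≠ 0
      · rw [rfG_mulVec a w hw, rfv_of_orth a w u (by rw [bD_comm]; exact h)]
      · unfold rfG
        rw [dif_neg hw, Units.val_one, Matrix.one_mulVec]
    rw [h2, rfG_inv] at h1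
    calc rfG a u * rfG a w = rfG a w * rfG a u * rfG a w * rfG a w := by rw [h1]
      _ = rfG a w * rfG a u := by rw [mul_assoc, rfG_mul_self, mul_one]
  · unfold rfG
    rw [dif_neg hu, one_mul, mul_one]

section contra

variable (a : Fin n → F) (N : Subgroup (GL (Fin n) F))
  (hnorm : ∀ t ∈ SOa a, ∀ g ∈ N, t * g * t⁻¹ ∈ N)
  (hodd : ∀ g ∈ N, ∃ k, Odd k ∧ g ^ k ∈ Subgroup.center (GL (Fin n) F))

include hodd in
/-- an involution of `N` is central -/
theorem central_of_sq (c : GL (Fin n) F) (hc : c ∈ N) (h2 : c * c = 1) :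
    c ∈ Subgroup.center (GL (Fin n) F) := by
  obtain ⟨k, ⟨s, rfl⟩, hk⟩ := hodd c hc
  have : c ^ (2 * s + 1) = c := by
    rw [pow_succ, pow_mul, pow_two, h2, one_pow, one_mul]
  rwa [this] at hk

include hnorm hodd in
/-- the basic contradiction, with a fixed non-singular partner vector -/
theorem inv_contra_partner (h2 : (2 : F) ≠ 0) (y : GL (Fin n) F) (hyN : y ∈ N) (hyO : y ∈ Oa a)
    (w p : Fin n → F) (hw : bD a w w ≠ 0) (hp : bD a p p ≠ 0) (hwp : bD a w p = 0)
    (hyp : y.val *ᵥ p = p) (hwy : bD a w (y.val *ᵥ w) = 0) : False := by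
  have hyw : bD a (y.val *ᵥ w) (y.val *ᵥ w) ≠ 0 := by rwa [hyO w w]
  have hywp : bD a (y.val *ᵥ w) p = 0 := by
    have := hyO w p
    rwa [hyp, hwp] at this
  -- the element `t`
  have htS : rfG a w * rfG a p ∈ SOa a := by
    refine ⟨(Oa a).mul_mem (rfG_mem a w) (rfG_mem a p), ?_⟩
    rw [Units.val_mul, Matrix.det_mul, rfG_det a w hw, rfG_det a p hp]
    ring
  have hcN : y * (rfG a w * rfG a p) * y⁻¹ * (rfG a w * rfG a p)⁻¹ ∈ N := by
    have h1 := hnorm _ htS _ (N.inv_mem hyN)
    have e : y * (rfG a w * rfG a p) * y⁻¹ * (rfG a w * rfG a p)⁻¹ =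
        y * ((rfG a w * rfG a p) * y⁻¹ * (rfG a w * rfG a p)⁻¹) := by group
    rw [e]
    exact N.mul_mem hyN h1
  have hc : y * (rfG a w * rfG a p) * y⁻¹ * (rfG a w * rfG a p)⁻¹ =
      rfG a (y.val *ᵥ w) * rfG a w := by
    have e1 : y * (rfG a w * rfG a p) * y⁻¹ = (y * rfG a w * y⁻¹) * (y * rfG a p * y⁻¹) := by
      group
    rw [e1, conj_rfG a y hyO, conj_rfG a y hyO, hyp, _root_.mul_inv_rev, rfG_inv, rfG_inv]
    calc rfG a (y.val *ᵥ w) * rfG a p * (rfG a p * rfG a w)
        = rfG a (y.val *ᵥ w) * (rfG a p * rfG a p) * rfG a w := by group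
      _ = rfG a (y.val *ᵥ w) * rfG a w := by rw [rfG_mul_self, mul_one]
  rw [hc] at hcN
  have hsq : (rfG a (y.val *ᵥ w) * rfG a w) * (rfG a (y.val *ᵥ w) * rfG a w) = 1 := by
    have hwy' : bD a (y.val *ᵥ w) w = 0 := by rw [bD_comm]; exact hwy
    calc rfG a (y.val *ᵥ w) * rfG a w * (rfG a (y.val *ᵥ w) * rfG a w)
        = rfG a w * rfG a (y.val *ᵥ w) * (rfG a (y.val *ᵥ w) * rfG a w) := by
          rw [rfG_comm a _ _ hwy']
      _ = rfG a w * (rfG a (y.val *ᵥ w) * rfG a (y.val *ᵥ w)) * rfG a w := by group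
      _ = 1 := by rw [rfG_mul_self, mul_one, rfG_mul_self]
  obtain ⟨ζ, hζ⟩ := central_val _ (central_of_sq N hodd _ hcN hsq)
  have e1 := hζ w
  rw [Units.val_mul, ← Matrix.mulVec_mulVec, rfG_mulVec a w hw, rfv_self a w hw,
    rfG_mulVec a _ hyw, rfv_of_orth a _ _ (by rw [bD_neg_right, bD_comm, hwy, neg_zero])] at e1
  have e2 := hζ p
  rw [Units.val_mul, ← Matrix.mulVec_mulVec, rfG_mulVec a w hw, rfv_of_orth a w p hwp,
    rfG_mulVec a _ hyw, rfv_of_orth a _ _ hywp] at e2
  -- `ζ = -1` and `ζ = 1`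
  have hw0 : w ≠ 0 := by
    rintro rfl
    exact hw (bD_zero_left a 0)
  have hp0 : p ≠ 0 := by
    rintro rfl
    exact hp (bD_zero_left a 0)
  obtain ⟨i, hi⟩ := Function.ne_iff.1 hw0
  obtain ⟨j, hj⟩ := Function.ne_iff.1 hp0
  have f1 := congrFun e1 i
  have f2 := congrFun e2 j
  rw [Pi.neg_apply, Pi.smul_apply, smul_eq_mul] at f1
  rw [Pi.smul_apply, smul_eq_mul] at f2
  rw [Pi.zero_apply] at hi hj
  have g1 : ζ = -1 := by
    have : (ζ + 1) * w i = 0 := by rw [add_mul, one_mul, ← f1]; ring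
    rcases mul_eq_zero.1 this with h | h
    · exact eq_neg_of_add_eq_zero_left h
    · exact absurd h hi
  have g2 : ζ = 1 := by
    have : (ζ - 1) * p j = 0 := by rw [sub_mul, one_mul, ← f2]; ring
    rcases mul_eq_zero.1 this with h | h
    · exact sub_eq_zero.1 h
    · exact absurd h hj
  rw [g2] at g1
  apply h2
  have : (1 : F) + 1 = 0 := by nth_rewrite 1 [g1]; ring
  rw [← this]
  norm_num

include hnorm hodd in
/-- the basic contradiction in dimension three -/
theorem inv_contra_three (h2 : (2 : F) ≠ 0) (hn : n = 3) (y : GL (Fin n) F) (hyN : y ∈ N)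
    (hyO : y ∈ Oa a) (w : Fin n → F) (hw : bD a w w ≠ 0)
    (hwy : bD a w (y.val *ᵥ w) = 0) : False := by
  have hyw : bD a (y.val *ᵥ w) (y.val *ᵥ w) ≠ 0 := by rwa [hyO w w]
  -- minus the identity
  obtain ⟨z, hz⟩ : ∃ z : GL (Fin n) F, z.val = -1 :=
    ⟨⟨-1, -1, by rw [neg_mul_neg, one_mul], by rw [neg_mul_neg, one_mul]⟩, rfl⟩
  have hzc : ∀ g : GL (Fin n) F, z * g = g * z := by
    intro g
    apply Units.ext
    rw [Units.val_mul, Units.val_mul, hz, Matrix.neg_mul, Matrix.mul_neg, Matrix.one_mul,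
      Matrix.mul_one]
  have hzO : z ∈ Oa a := by
    intro u v
    rw [hz, Matrix.neg_mulVec, Matrix.neg_mulVec, Matrix.one_mulVec, Matrix.one_mulVec,
      bD_neg_left, bD_neg_right, neg_neg]
  have hzdet : z.val.det = -1 := by
    rw [hz, Matrix.det_neg, Matrix.det_one, Fintype.card_fin, hn]
    ring
  have htS : z * rfG a w ∈ SOa a := by
    refine ⟨(Oa a).mul_mem hzO (rfG_mem a w), ?_⟩
    rw [Units.val_mul, Matrix.det_mul, rfG_det a w hw, hzdet]
    ring
  have hcN : y * (z * rfG a w) * y⁻¹ * (z * rfG a w)⁻¹ ∈ N := by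
    have h1 := hnorm _ htS _ (N.inv_mem hyN)
    have e : y * (z * rfG a w) * y⁻¹ * (z * rfG a w)⁻¹ =
        y * ((z * rfG a w) * y⁻¹ * (z * rfG a w)⁻¹) := by group
    rw [e]
    exact N.mul_mem hyN h1
  have hc : y * (z * rfG a w) * y⁻¹ * (z * rfG a w)⁻¹ = rfG a (y.val *ᵥ w) * rfG a w := by
    have e1 : y * (z * rfG a w) * y⁻¹ * (z * rfG a w)⁻¹ =
        (y * z) * rfG a w * y⁻¹ * (rfG a w)⁻¹ * z⁻¹ := by group
    rw [e1, ← hzc y]
    have e2 : z * y * rfG a w * y⁻¹ * (rfG a w)⁻¹ * z⁻¹ =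
        z * ((y * rfG a w * y⁻¹) * (rfG a w)⁻¹) * z⁻¹ := by group
    rw [e2, hzc, mul_inv_cancel_right, conj_rfG a y hyO, rfG_inv]
  rw [hc] at hcN
  have hwy' : bD a (y.val *ᵥ w) w = 0 := by rw [bD_comm]; exact hwy
  have hsq : (rfG a (y.val *ᵥ w) * rfG a w) * (rfG a (y.val *ᵥ w) * rfG a w) = 1 := by
    calc rfG a (y.val *ᵥ w) * rfG a w * (rfG a (y.val *ᵥ w) * rfG a w)
        = rfG a w * rfG a (y.val *ᵥ w) * (rfG a (y.val *ᵥ w) * rfG a w) := by
          rw [rfG_comm a _ _ hwy']
      _ = rfG a w * (rfG a (y.val *ᵥ w) * rfG a (y.val *ᵥ w)) * rfG a w := by group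
      _ = 1 := by rw [rfG_mul_self, mul_one, rfG_mul_self]
  obtain ⟨ζ, hζ⟩ := central_val _ (central_of_sq N hodd _ hcN hsq)
  have e1 := hζ w
  rw [Units.val_mul, ← Matrix.mulVec_mulVec, rfG_mulVec a w hw, rfv_self a w hw,
    rfG_mulVec a _ hyw, rfv_of_orth a _ _ (by rw [bD_neg_right, bD_comm, hwy, neg_zero])] at e1
  have hw0 : w ≠ 0 := by
    rintro rfl
    exact hw (bD_zero_left a 0)
  obtain ⟨i, hi⟩ := Function.ne_iff.1 hw0
  have f1 := congrFun e1 i
  rw [Pi.neg_apply, Pi.smul_apply, smul_eq_mul] at f1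
  rw [Pi.zero_apply] at hi
  have g1 : ζ = -1 := by
    have : (ζ + 1) * w i = 0 := by rw [add_mul, one_mul, ← f1]; ring
    rcases mul_eq_zero.1 this with h | h
    · exact eq_neg_of_add_eq_zero_left h
    · exact absurd h hi
  -- determinants
  have hval : (rfG a (y.val *ᵥ w) * rfG a w).val = ζ • (1 : Matrix (Fin n) (Fin n) F) := by
    apply mat_ext
    intro v
    rw [hζ v, Matrix.smul_mulVec, Matrix.one_mulVec]
  have hdet := congrArg Matrix.det hval
  rw [Units.val_mul, Matrix.det_mul, rfG_det a w hw, rfG_det a _ hyw, Matrix.det_smul,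
    Matrix.det_one, Fintype.card_fin, hn, g1] at hdet
  apply h2
  have : (1 : F) + 1 = 0 := by
    have h3 : (-1 : F) * -1 = 1 := by ring
    rw [h3] at hdet
    nth_rewrite 1 [hdet]
    ring
  rw [← this]
  norm_num

end contra

end Cfsg.Agent.Lib.Helper8.BalL

namespace Cfsg.Agent.Lib.Helper8.BalL

open Matrix

variable {F : Type*} [Field F] {n : ℕ}

theorem exists_not_mem (s : Finset (Fin n)) (h : s.card < n) : ∃ k, k ∉ s := by
  by_contra hno
  push Not at hno
  have : s = Finset.univ := Finset.eq_univ_iff_forall.2 hno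
  rw [this, Finset.card_univ, Fintype.card_fin] at h
  exact lt_irrefl _ h

theorem exists_ne_ne (hn : 3 ≤ n) (i j : Fin n) : ∃ k, k ≠ i ∧ k ≠ j := by
  classical
  obtain ⟨k, hk⟩ := exists_not_mem ({i, j} : Finset (Fin n))
    (lt_of_le_of_lt (Finset.card_insert_le _ _) (by rw [Finset.card_singleton]; omega))
  rw [Finset.mem_insert, Finset.mem_singleton, not_or] at hk
  exact ⟨k, hk.1, hk.2⟩

theorem exists_ne_ne_ne (hn : 4 ≤ n) (i j k : Fin n) : ∃ l, l ≠ i ∧ l ≠ j ∧ l ≠ k := by
  classical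
  obtain ⟨l, hl⟩ := exists_not_mem ({i, j, k} : Finset (Fin n))
    (lt_of_le_of_lt (Finset.card_insert_le _ _)
      (lt_of_le_of_lt (Nat.succ_le_succ (Finset.card_insert_le _ _))
        (by rw [Finset.card_singleton]; omega)))
  rw [Finset.mem_insert, Finset.mem_insert, Finset.mem_singleton, not_or, not_or] at hl
  exact ⟨l, hl.1, hl.2.1, hl.2.2⟩

theorem card_odd_of_two_ne_zero [Fintype F] (h2 : (2 : F) ≠ 0) : Fintype.card F % 2 = 1 := by
  rcases Nat.mod_two_eq_zero_or_one (Fintype.card F) with h | h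
  · exfalso
    have h3 : ringChar F = 2 := FiniteField.even_card_iff_char_two.2 h
    haveI : CharP F 2 := ringChar.of_eq h3
    apply h2
    exact_mod_cast CharP.cast_eq_zero F 2
  · exact h

/-- the form against a combination of three basis vectors -/
theorem bD_three_left (a : Fin n → F) (i j k : Fin n) (s t : F) (v : Fin n → F) :
    bD a (s • Pi.single i 1 + t • Pi.single j 1 + Pi.single k 1) v =
      a i * s * v i + a j * t * v j + a k * v k := by
  rw [bD_add_left, bD_add_left, bD_smul_left, bD_smul_left, bD_single_left, bD_single_left,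
    bD_single_left]
  ring

/-- **no rotation of a coordinate plane in `N`** -/
theorem rot_kill [Fintype F] (h2 : (2 : F) ≠ 0) (hn : 3 ≤ n) (a : Fin n → F) (ha : ∀ i, a i ≠ 0)
    (N : Subgroup (GL (Fin n) F))
    (hnorm : ∀ t ∈ SOa a, ∀ g ∈ N, t * g * t⁻¹ ∈ N)
    (hodd : ∀ g ∈ N, ∃ k, Odd k ∧ g ^ k ∈ Subgroup.center (GL (Fin n) F))
    (y : GL (Fin n) F) (hyN : y ∈ N) (hyO : y ∈ Oa a)
    (i j : Fin n) (hij : i ≠ j) (x z : F)
    (hyi : y.val *ᵥ Pi.single i 1 = x • Pi.single i 1 + z • Pi.single j 1)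
    (hyj : y.val *ᵥ Pi.single j 1 = (-(a j / a i) * z) • Pi.single i 1 + x • Pi.single j 1)
    (hyl : ∀ l, l ≠ i → l ≠ j → y.val *ᵥ Pi.single l 1 = Pi.single l 1) : x = 1 := by
  classical
  by_contra hx1
  obtain ⟨k, hki, hkj⟩ := exists_ne_ne hn i j
  have hQk : bD a (Pi.single k 1) (Pi.single k 1) ≠ 0 := by
    rw [bD_single_left, Pi.single_eq_same, mul_one, mul_one]
    exact ha k
  by_cases hx0 : x = 0
  · -- `w = e_i`, partner `e_k`
    apply inv_contra_partner a N hnorm hodd h2 y hyN hyO (Pi.single i 1) (Pi.single k 1)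
    · rw [bD_single_left, Pi.single_eq_same, mul_one, mul_one]
      exact ha i
    · exact hQk
    · rw [bD_single_left, Pi.single_eq_of_ne hki.symm, mul_zero]
    · exact hyl k hki hkj
    · rw [hyi, bD_single_left, hx0]
      simp [Pi.single_apply, hij]
  · -- the general vector
    have hcard : Fintype.card F % 2 = 1 := card_odd_of_two_ne_zero h2
    obtain ⟨s, t, hst⟩ := FiniteField.exists_root_sum_quadratic
      (f := Polynomial.C (a i) * Polynomial.X ^ 2)
      (g := Polynomial.C (a j) * Polynomial.X ^ 2 + Polynomial.C (a k / x))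
      (by rw [Polynomial.degree_C_mul_X_pow 2 (ha i)]; rfl)
      (by
        rw [Polynomial.degree_add_C (by
          rw [Polynomial.degree_C_mul_X_pow 2 (ha j)]; exact by decide),
          Polynomial.degree_C_mul_X_pow 2 (ha j)]
        rfl) hcard
    simp only [Polynomial.eval_mul, Polynomial.eval_C, Polynomial.eval_pow, Polynomial.eval_X,
      Polynomial.eval_add] at hst
    have hst' : a i * s ^ 2 + a j * t ^ 2 = - (a k / x) := by
      linear_combination hst
    obtain ⟨w, hwdef⟩ : ∃ w : Fin n → F,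
        w = s • Pi.single i 1 + t • Pi.single j 1 + Pi.single k 1 := ⟨_, rfl⟩
    have hwi : w i = s := by
      rw [hwdef]
      simp [Pi.single_apply, hij, hki.symm]
    have hwj : w j = t := by
      rw [hwdef]
      simp [Pi.single_apply, hij.symm, hkj.symm]
    have hwk : w k = 1 := by
      rw [hwdef]
      simp [Pi.single_apply, hki, hkj]
    have hyw : y.val *ᵥ w = s • (x • Pi.single i 1 + z • Pi.single j 1) +
        t • ((-(a j / a i) * z) • Pi.single i 1 + x • Pi.single j 1) + Pi.single k 1 := by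
      rw [hwdef, Matrix.mulVec_add, Matrix.mulVec_add, Matrix.mulVec_smul, Matrix.mulVec_smul,
        hyi, hyj, hyl k hki hkj]
    have hywi : (y.val *ᵥ w) i = s * x - t * (a j / a i) * z := by
      rw [hyw]
      simp [Pi.single_apply, hij, hki.symm]
      ring
    have hywj : (y.val *ᵥ w) j = s * z + t * x := by
      rw [hyw]
      simp [Pi.single_apply, hij.symm, hkj.symm]
    have hywk : (y.val *ᵥ w) k = 1 := by
      rw [hyw]
      simp [Pi.single_apply, hki, hkj]
    have hQw : bD a w w ≠ 0 := by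
      rw [hwdef, bD_three_left, ← hwdef, hwi, hwj, hwk]
      have : a i * s * s + a j * t * t + a k * 1 = a k * (x - 1) / x := by
        field_simp
        have := hst'
        field_simp at this
        linear_combination this
      rw [this]
      exact div_ne_zero (mul_ne_zero (ha k) (sub_ne_zero.2 hx1)) hx0
    have hwy : bD a w (y.val *ᵥ w) = 0 := by
      rw [hwdef, bD_three_left, ← hwdef, hywi, hywj, hywk]
      have hai := ha i
      have := hst'
      field_simp at this ⊢
      linear_combination this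
    by_cases hn3 : n = 3
    · exact inv_contra_three a N hnorm hodd h2 hn3 y hyN hyO w hQw hwy
    · obtain ⟨l, hli, hlj, hlk⟩ := exists_ne_ne_ne (by omega) i j k
      apply inv_contra_partner a N hnorm hodd h2 y hyN hyO w (Pi.single l 1) hQw
      · rw [bD_single_left, Pi.single_eq_same, mul_one, mul_one]
        exact ha l
      · rw [bD_single_right, hwdef]
        simp [Pi.single_apply, hli, hlj, hlk]
      · exact hyl l hli hlj
      · exact hwy

end Cfsg.Agent.Lib.Helper8.BalL
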