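import Cfsg.Agent.Lib.Helper8.BalL.Sign

/-!
# The shape of a matrix commuting with many sign changes, and the squares of block isometries
(helper8)
-/

set_option autoImplicit false

namespace Cfsg.Agent.Lib.Helper8.BalL

open Matrix

variable {F : Type*} [Field F] {n : ℕ}

/-- the coordinates `k`, `l` are separated from the others in `M` -/
def Sep (M : Matrix (Fin n) (Fin n) F) (k l : Fin n) : Prop :=
  ∀ u v, (u = k ∨ u = l) → ¬ (v = k ∨ v = l) → M u v = 0 ∧ M v u = 0

/-- at most one pair of coordinates is mixed -/
def OnePair (M : Matrix (Fin n) (Fin n) F) (i j : Fin n) : Prop :=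
  ∀ u v, u ≠ v → M u v ≠ 0 → (u = i ∧ v = j) ∨ (u = j ∧ v = i)

/-- **the shape lemma**: if among any three coordinates two are separated from the rest, at most
one pair of coordinates is mixed (`n = 3` or `n ≥ 5`) -/
theorem onePair_of_triples (hn : n = 3 ∨ 5 ≤ n) (M : Matrix (Fin n) (Fin n) F)
    (hT : ∀ i j k : Fin n, i ≠ j → i ≠ k → j ≠ k → Sep M i j ∨ Sep M i k ∨ Sep M j k) :
    ∃ i j : Fin n, i ≠ j ∧ OnePair M i j := by
  classical
  have hn3 : 3 ≤ n := by omega
  by_cases hex : ∃ a b : Fin n, a ≠ b ∧ M a b ≠ 0
  · obtain ⟨a, b, hab, hMab⟩ := hex
    refine ⟨a, b, hab, ?_⟩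
    -- `a`, `b` are separated from the rest
    have hsep : Sep M a b := by
      obtain ⟨c, hca, hcb⟩ := exists_ne_ne hn3 a b
      rcases hT a b c hab hca.symm hcb.symm with h | h | h
      · exact h
      · exact absurd (h a b (Or.inl rfl) (by rintro (h' | h'); exact hab h'.symm; exact hcb h'.symm)).1
          hMab
      · exact absurd (h b a (Or.inl rfl) (by rintro (h' | h'); exact hab h'; exact hca h'.symm)).2
          hMab
    intro u v huv hMuv
    by_cases hu : u = a ∨ u = b
    · by_cases hv : v = a ∨ v = b
      · rcases hu with rfl | rfl <;> rcases hv with rfl | rfl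
        · exact absurd rfl huv
        · exact Or.inl ⟨rfl, rfl⟩
        · exact Or.inr ⟨rfl, rfl⟩
        · exact absurd rfl huv
      · exact absurd (hsep u v hu hv).1 hMuv
    · by_cases hv : v = a ∨ v = b
      · exact absurd (hsep v u hv hu).2 hMuv
      · -- neither: needs a fifth coordinate
        exfalso
        rw [not_or] at hu hv
        rcases hn with h3 | h5
        · -- five distinct... impossible in dimension 3: `a, b, u, v` distinct
          have : ({a, b, u, v} : Finset (Fin n)).card = 4 := by
            rw [Finset.card_insert_of_notMem, Finset.card_insert_of_notMem,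
              Finset.card_insert_of_notMem, Finset.card_singleton]
            · rw [Finset.mem_singleton]; exact huv
            · rw [Finset.mem_insert, Finset.mem_singleton]
              rintro (h' | h')
              · exact hu.2 h'.symm
              · exact hv.2 h'.symm
            · rw [Finset.mem_insert, Finset.mem_insert, Finset.mem_singleton]
              rintro (h' | h' | h')
              · exact hab h'
              · exact hu.1 h'.symm
              · exact hv.1 h'.symm
          have h4 := Finset.card_le_univ ({a, b, u, v} : Finset (Fin n))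
          rw [this, Fintype.card_fin, h3] at h4
          omega
        · obtain ⟨e, he⟩ := exists_not_mem ({a, b, u, v} : Finset (Fin n))
            (lt_of_le_of_lt (Finset.card_insert_le _ _)
              (lt_of_le_of_lt (Nat.succ_le_succ (Finset.card_insert_le _ _))
                (lt_of_le_of_lt (Nat.succ_le_succ (Nat.succ_le_succ (Finset.card_insert_le _ _)))
                  (by rw [Finset.card_singleton]; omega))))
          simp only [Finset.mem_insert, Finset.mem_singleton, not_or] at he
          obtain ⟨hea, heb, heu, hev⟩ := he
          rcases hT a u e (Ne.symm hu.1) (Ne.symm hea) (Ne.symm heu) with h | h | h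
          · exact hMab (h a b (Or.inl rfl)
              (by rintro (h' | h'); exact hab h'.symm; exact hu.2 h'.symm)).1
          · exact hMab (h a b (Or.inl rfl)
              (by rintro (h' | h'); exact hab h'.symm; exact heb h'.symm)).1
          · exact hMuv (h u v (Or.inl rfl)
              (by rintro (h' | h'); exact huv h'.symm; exact hev h'.symm)).1
  · -- diagonal
    push Not at hex
    refine ⟨⟨0, by omega⟩, ⟨1, by omega⟩, by
      intro h
      have := congrArg Fin.val h
      simp at this, ?_⟩
    intro u v huv hMuv
    exact absurd (hex u v huv) hMuv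

/-! ### the algebra of a `2 × 2` isometry -/

/-- the square of a `2 × 2` isometry of `diag(A, B)` is a rotation -/
theorem blk_sq (A B p q r s : F) (hA : A ≠ 0) (hB : B ≠ 0)
    (h1 : A * p ^ 2 + B * r ^ 2 = A) (h2 : A * q ^ 2 + B * s ^ 2 = B)
    (h3 : A * p * q + B * r * s = 0) :
    q * r + s ^ 2 = p ^ 2 + r * q ∧ q * p + s * q = -(B / A) * (p * r + r * s) := by
  -- the determinant squares to one
  have hd : (p * s - q * r) ^ 2 = 1 := by
    have : A * B * (p * s - q * r) ^ 2 = A * B := by
      linear_combination (A * q ^ 2 + B * s ^ 2) * h1 + A * h2 - (A * p * q + B * r * s) * h3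
    have hAB : A * B ≠ 0 := mul_ne_zero hA hB
    exact mul_left_cancel₀ hAB (by rw [this, mul_one])
  have hs : s = (p * s - q * r) * p := by
    have : A * s = A * ((p * s - q * r) * p) := by
      linear_combination (-s) * h1 + r * h3
    exact mul_left_cancel₀ hA this
  have hq : A * q = -(p * s - q * r) * (B * r) := by
    linear_combination p * h3 - q * h1
  constructor
  · linear_combination (s + (p * s - q * r) * p) * hs + p ^ 2 * hd
  · have key : A * (q * p + s * q) = -B * (p * r + r * s) := by
      linear_combination (p + s) * hq - B * r * ((p * s - q * r) - 1) * hs - B * r * p * hd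
    field_simp
    linear_combination key

end Cfsg.Agent.Lib.Helper8.BalL
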