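import Cfsg.Agent.Lib.Helper8.BalL.OddA
import Cfsg.Agent.Lib.Helper8.BalL.Shape

/-!
# Odd-order normal subgroups of the orthogonal groups, dimension `3` and `≥ 5` (helper8)

`central_of_onePair`: an element of `N` mixing at most one pair of coordinates is central.
`coreO_ne_four`: a subgroup of the isometry group of a diagonal form, normalised by the special
orthogonal group and of odd order modulo the centre, is central (`n = 3` or `n ≥ 5`).
-/

set_option autoImplicit false

namespace Cfsg.Agent.Lib.Helper8.BalL

open Matrix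

variable {F : Type*} [Field F] {n : ℕ}

theorem gl_ext_single (g h : GL (Fin n) F)
    (H : ∀ l, g.val *ᵥ Pi.single l 1 = h.val *ᵥ Pi.single l 1) : g = h := by
  apply Units.ext
  ext i j
  have := congrFun (H j) i
  rw [Matrix.mulVec_single_one, Matrix.mulVec_single_one] at this
  exact this

theorem bD_supp_two (a u v : Fin n → F) (i j : Fin n) (hij : i ≠ j)
    (hu : ∀ k, k ≠ i → k ≠ j → u k = 0) :
    bD a u v = a i * u i * v i + a j * u j * v j := by
  unfold bD
  rw [Finset.sum_eq_add i j hij]
  · intro k _ hk
    rw [hu k hk.1 hk.2, mul_zero, zero_mul]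
  · intro h; exact absurd (Finset.mem_univ i) h
  · intro h; exact absurd (Finset.mem_univ j) h

/-- the columns of a matrix mixing at most the pair `i`, `j` -/
theorem onePair_col_other (M : Matrix (Fin n) (Fin n) F) (i j : Fin n) (hM : OnePair M i j)
    (l : Fin n) (hli : l ≠ i) (hlj : l ≠ j) :
    M *ᵥ Pi.single l 1 = M l l • Pi.single l 1 := by
  rw [Matrix.mulVec_single_one]
  ext u
  rw [Matrix.col_apply, Pi.smul_apply, smul_eq_mul, Pi.single_apply]
  by_cases hul : u = l
  · subst hul
    rw [if_pos rfl, mul_one]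
  · rw [if_neg hul, mul_zero]
    by_contra h
    rcases hM u l hul h with ⟨_, h2⟩ | ⟨_, h2⟩
    · exact hlj h2
    · exact hli h2

theorem onePair_col_left (M : Matrix (Fin n) (Fin n) F) (i j : Fin n) (hij : i ≠ j)
    (hM : OnePair M i j) :
    M *ᵥ Pi.single i 1 = M i i • Pi.single i 1 + M j i • Pi.single j 1 := by
  rw [Matrix.mulVec_single_one]
  ext u
  rw [Matrix.col_apply, Pi.add_apply, Pi.smul_apply, Pi.smul_apply, smul_eq_mul, smul_eq_mul,
    Pi.single_apply, Pi.single_apply]
  by_cases hui : u = i
  · subst hui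
    rw [if_pos rfl, if_neg hij, mul_one, mul_zero, add_zero]
  · rw [if_neg hui, mul_zero, zero_add]
    by_cases huj : u = j
    · subst huj
      rw [if_pos rfl, mul_one]
    · rw [if_neg huj, mul_zero]
      by_contra h
      rcases hM u i hui h with ⟨h1, _⟩ | ⟨h1, _⟩
      · exact hui h1
      · exact huj h1

theorem onePair_symm (M : Matrix (Fin n) (Fin n) F) (i j : Fin n) (hM : OnePair M i j) :
    OnePair M j i := by
  intro u v huv h
  rcases hM u v huv h with h' | h'
  · exact Or.inr h'
  · exact Or.inl h'

section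

variable [Fintype F] (h2 : (2 : F) ≠ 0) (hn : 3 ≤ n) (a : Fin n → F) (ha : ∀ i, a i ≠ 0)
  (N : Subgroup (GL (Fin n) F))
  (hnorm : ∀ t ∈ SOa a, ∀ g ∈ N, t * g * t⁻¹ ∈ N)
  (hodd : ∀ g ∈ N, ∃ k, Odd k ∧ g ^ k ∈ Subgroup.center (GL (Fin n) F))

include h2 hn ha hnorm hodd in
/-- an isometry in `N` mixing at most one pair of coordinates is central -/
theorem central_of_onePair (g : GL (Fin n) F) (hgN : g ∈ N) (hgO : g ∈ Oa a) (i j : Fin n)
    (hij : i ≠ j) (hM : OnePair g.val i j) : g ∈ Subgroup.center (GL (Fin n) F) := by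
  classical
  apply central_of_sq N hodd g hgN
  set M := g.val with hMdef
  have hci := onePair_col_left M i j hij hM
  have hcj := onePair_col_left M j i hij.symm (onePair_symm M i j hM)
  have hcl := fun l hli hlj => onePair_col_other M i j hM l hli hlj
  set p := M i i with hp
  set r := M j i with hr
  set q := M i j with hq
  set s := M j j with hs
  -- the isometry conditions
  have e1 : a i * p ^ 2 + a j * r ^ 2 = a i := by
    have := hgO (Pi.single i 1) (Pi.single i 1)
    rw [← hMdef, hci, bD_supp_two a _ _ i j hij (by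
      intro k hki hkj
      simp [Pi.single_apply, hki, hkj]), bD_single_left] at this
    simp only [Pi.add_apply, Pi.smul_apply, smul_eq_mul, Pi.single_eq_same, mul_one,
      Pi.single_eq_of_ne hij, Pi.single_eq_of_ne hij.symm, mul_zero, add_zero, zero_add] at this
    linear_combination this
  have e2 : a i * q ^ 2 + a j * s ^ 2 = a j := by
    have := hgO (Pi.single j 1) (Pi.single j 1)
    rw [← hMdef, hcj, bD_supp_two a _ _ i j hij (by
      intro k hki hkj
      simp [Pi.single_apply, hki, hkj]), bD_single_left] at this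
    simp only [Pi.add_apply, Pi.smul_apply, smul_eq_mul, Pi.single_eq_same, mul_one,
      Pi.single_eq_of_ne hij, Pi.single_eq_of_ne hij.symm, mul_zero, add_zero, zero_add] at this
    linear_combination this
  have e3 : a i * p * q + a j * r * s = 0 := by
    have := hgO (Pi.single i 1) (Pi.single j 1)
    rw [← hMdef, hci, hcj, bD_supp_two a _ _ i j hij (by
      intro k hki hkj
      simp [Pi.single_apply, hki, hkj]), bD_single_left] at this
    simp only [Pi.add_apply, Pi.smul_apply, smul_eq_mul, Pi.single_eq_same, mul_one,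
      Pi.single_eq_of_ne hij, Pi.single_eq_of_ne hij.symm, mul_zero, add_zero, zero_add] at this
    linear_combination this
  obtain ⟨b1, b2⟩ := blk_sq (a i) (a j) p q r s (ha i) (ha j) e1 e2 e3
  -- the square
  set y := g * g with hy
  have hyval : y.val = M * M := by rw [hy, Units.val_mul]
  have hyi : y.val *ᵥ Pi.single i 1 =
      (p ^ 2 + r * q) • Pi.single i 1 + (p * r + r * s) • Pi.single j 1 := by
    rw [hyval, ← Matrix.mulVec_mulVec, hci, Matrix.mulVec_add, Matrix.mulVec_smul,
      Matrix.mulVec_smul, hci, hcj]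
    ext u
    simp only [Pi.add_apply, Pi.smul_apply, smul_eq_mul]
    ring
  have hyj : y.val *ᵥ Pi.single j 1 =
      (-(a j / a i) * (p * r + r * s)) • Pi.single i 1 + (p ^ 2 + r * q) • Pi.single j 1 := by
    rw [hyval, ← Matrix.mulVec_mulVec, hcj, Matrix.mulVec_add, Matrix.mulVec_smul,
      Matrix.mulVec_smul, hci, hcj, ← b1, ← b2]
    ext u
    simp only [Pi.add_apply, Pi.smul_apply, smul_eq_mul]
    ring
  have hyl : ∀ l, l ≠ i → l ≠ j → y.val *ᵥ Pi.single l 1 = Pi.single l 1 := by
    intro l hli hlj
    have hsq : M l l * M l l = 1 := by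
      have := hgO (Pi.single l 1) (Pi.single l 1)
      rw [← hMdef, hcl l hli hlj, bD_smul_left, bD_smul_right, bD_single_left,
        Pi.single_eq_same] at this
      have hal := ha l
      have h' : a l * (M l l * M l l) = a l * 1 := by linear_combination this
      exact mul_left_cancel₀ hal h'
    rw [hyval, ← Matrix.mulVec_mulVec, hcl l hli hlj, Matrix.mulVec_smul, hcl l hli hlj,
      smul_smul, hsq, one_smul]
  have hyN : y ∈ N := N.mul_mem hgN hgN
  have hyO : y ∈ Oa a := (Oa a).mul_mem hgO hgO
  have hx1 := rot_kill h2 hn a ha N hnorm hodd y hyN hyO i j hij _ _ hyi hyj hyl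
  -- the sine vanishes
  have hz0 : p * r + r * s = 0 := by
    have := hyO (Pi.single i 1) (Pi.single i 1)
    rw [hyi, hx1, bD_supp_two a _ _ i j hij (by
      intro k hki hkj
      simp [Pi.single_apply, hki, hkj]), bD_single_left] at this
    simp only [Pi.add_apply, Pi.smul_apply, smul_eq_mul, Pi.single_eq_same, mul_one,
      Pi.single_eq_of_ne hij, Pi.single_eq_of_ne hij.symm, mul_zero, add_zero, zero_add] at this
    have h' : a j * ((p * r + r * s) * (p * r + r * s)) = 0 := by linear_combination this
    rcases mul_eq_zero.1 h' with h'' | h''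
    · exact absurd h'' (ha j)
    · exact mul_self_eq_zero.1 h''
  show y = 1
  apply gl_ext_single
  intro l
  rw [Units.val_one, Matrix.one_mulVec]
  by_cases hli : l = i
  · subst hli
    rw [hyi, hx1, hz0, one_smul, zero_smul, add_zero]
  · by_cases hlj : l = j
    · subst hlj
      rw [hyj, hx1, hz0, mul_zero, one_smul, zero_smul, zero_add]
    · exact hyl l hli hlj

end

end Cfsg.Agent.Lib.Helper8.BalL
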