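import Cfsg.Agent.Lib.Helper8.BalL.OddB

/-!
# Odd-order normal subgroups of the orthogonal groups, dimension `3` and `≥ 5`: the theorem
(helper8)
-/

set_option autoImplicit false

namespace Cfsg.Agent.Lib.Helper8.BalL

open Matrix

variable {F : Type*} [Field F] {n : ℕ}

/-- a sign change in two coordinates is not central in dimension at least three -/
theorem sg_not_central (h2 : (2 : F) ≠ 0) (hn : 3 ≤ n) (i j : Fin n) :
    sg (F := F) i j ∉ Subgroup.center (GL (Fin n) F) := by
  intro hc
  obtain ⟨c, hc⟩ := central_val _ hc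
  obtain ⟨k, hki, hkj⟩ := exists_ne_ne hn i j
  have h1 := congrFun (hc (Pi.single i 1)) i
  have h3 := congrFun (hc (Pi.single k 1)) k
  rw [sg_val, signDiag_mulVec _ (isSignDiag_sgM i j), sgM_apply_eq, Pi.smul_apply,
    Pi.single_eq_same, smul_eq_mul, mul_one, mul_one] at h1 h3
  rw [if_pos (Or.inl rfl)] at h1
  rw [if_neg (by rintro (h | h); exact hki h; exact hkj h)] at h3
  apply h2
  have : (1 : F) = -1 := by rw [h1, h3]
  linear_combination this

/-- **odd-order normal subgroups of orthogonal groups are central** (`n = 3` or `n ≥ 5`) -/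
theorem coreO_ne_four [Fintype F] (h2 : (2 : F) ≠ 0) (hn : n = 3 ∨ 5 ≤ n) (a : Fin n → F)
    (ha : ∀ i, a i ≠ 0) (N : Subgroup (GL (Fin n) F)) (hNO : N ≤ Oa a)
    (hnorm : ∀ t ∈ SOa a, ∀ g ∈ N, t * g * t⁻¹ ∈ N)
    (hodd : ∀ g ∈ N, ∃ k, Odd k ∧ g ^ k ∈ Subgroup.center (GL (Fin n) F)) :
    N ≤ Subgroup.center (GL (Fin n) F) := by
  classical
  have hn3 : 3 ≤ n := by omega
  apply core_of_sign_group N (Esub n F) Esub_mul_self
    (fun e₁ he₁ e₂ he₂ => Esub_comm e₁ e₂ he₁ he₂)
    (fun e he g hg => hnorm e (Esub_le_SOa a he) g hg) hodd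
  · -- a Klein four-group modulo the centre
    have h01 : (⟨0, by omega⟩ : Fin n) ≠ ⟨1, by omega⟩ := by
      intro h; have := congrArg Fin.val h; simp at this
    have h02 : (⟨0, by omega⟩ : Fin n) ≠ ⟨2, by omega⟩ := by
      intro h; have := congrArg Fin.val h; simp at this
    have h12 : (⟨1, by omega⟩ : Fin n) ≠ ⟨2, by omega⟩ := by
      intro h; have := congrArg Fin.val h; simp at this
    refine ⟨sg ⟨0, by omega⟩ ⟨1, by omega⟩, sg_mem _ _ h01, sg ⟨0, by omega⟩ ⟨2, by omega⟩,
      sg_mem _ _ h02, sg_not_central h2 hn3 _ _, sg_not_central h2 hn3 _ _, ?_⟩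
    rw [sg_mul_sg _ _ _ h01 h02 h12]
    exact sg_not_central h2 hn3 _ _
  · -- the elements commuting with a hyperplane
    intro g hg hkey
    have hT : ∀ i j k : Fin n, i ≠ j → i ≠ k → j ≠ k →
        Sep g.val i j ∨ Sep g.val i k ∨ Sep g.val j k := by
      intro i j k hij hik hjk
      have hsep : ∀ u v : Fin n, g * sg u v = sg u v * g → Sep g.val u v := by
        intro u v h
        have h' : g.val * sgM u v = sgM u v * g.val := by
          have := congrArg Units.val h
          rwa [Units.val_mul, Units.val_mul, sg_val] at this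
        intro x y hx hy
        exact sep_of_comm h2 g.val u v h' x y hx hy
      rcases hkey (sg i j) (sg_mem i j hij) (sg i k) (sg_mem i k hik) with h | h | h
      · exact Or.inl (hsep i j h)
      · exact Or.inr (Or.inl (hsep i k h))
      · rw [sg_mul_sg i j k hij hik hjk] at h
        exact Or.inr (Or.inr (hsep j k h))
    obtain ⟨i, j, hij, hM⟩ := onePair_of_triples hn g.val hT
    exact central_of_onePair h2 hn3 a ha N hnorm hodd g hg (hNO hg) i j hij hM

end Cfsg.Agent.Lib.Helper8.BalL
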