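import Cfsg.Agent.Lib.Helper8.BalL.OddC

/-!
# Odd-order normal subgroups of the orthogonal groups, all dimensions `≥ 3` (helper8)

With the full group of diagonal sign matrices every hyperplane piece mixes at most one pair of
coordinates (`onePair_of_hyperplane`), whence `coreO_full` for subgroups normalised by the sign
matrices; a subgroup `N ≤ SO` normalised by `SO` only is enlarged to `N · r N r⁻¹` (`coreO`).
-/

set_option autoImplicit false

namespace Cfsg.Agent.Lib.Helper8.BalL

open Matrix

variable {F : Type*} [Field F] {n : ℕ}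

/-! ### the full sign group -/

/-- all diagonal sign matrices -/
def Dfull (n : ℕ) (F : Type*) [Field F] : Subgroup (GL (Fin n) F) where
  carrier := {g | IsSignDiag g.val}
  one_mem' := by
    show IsSignDiag (1 : GL (Fin n) F).val
    rw [Units.val_one]; exact isSignDiag_one
  mul_mem' := by
    intro g h hg hh
    show IsSignDiag (g * h).val
    rw [Units.val_mul]
    exact isSignDiag_mul _ _ hg hh
  inv_mem' := by
    intro g hg
    have : g⁻¹ = g := by
      apply inv_eq_of_mul_eq_one_right
      apply Units.ext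
      rw [Units.val_mul, Units.val_one]
      exact signDiag_mul_self _ hg
    show IsSignDiag g⁻¹.val
    rw [this]
    exact hg

theorem mem_Dfull (g : GL (Fin n) F) : g ∈ Dfull n F ↔ IsSignDiag g.val := Iff.rfl

theorem Esub_le_Dfull : Esub n F ≤ Dfull n F := fun _ h => h.1

theorem Dfull_le_Oa (a : Fin n → F) : Dfull n F ≤ Oa a := by
  intro g hg u v
  unfold bD
  apply Finset.sum_congr rfl
  intro i _
  rw [signDiag_mulVec _ hg, signDiag_mulVec _ hg]
  rcases hg.2 i with h | h <;> rw [h] <;> ring

theorem Dfull_mul_self (g : GL (Fin n) F) (hg : g ∈ Dfull n F) : g * g = 1 := by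
  apply Units.ext
  rw [Units.val_mul, Units.val_one]
  exact signDiag_mul_self _ hg

theorem Dfull_comm (g h : GL (Fin n) F) (hg : g ∈ Dfull n F) (hh : h ∈ Dfull n F) :
    g * h = h * g := by
  apply Units.ext
  rw [Units.val_mul, Units.val_mul]
  exact signDiag_comm _ _ hg hh

theorem Dfull_det (g : GL (Fin n) F) (hg : g ∈ Dfull n F) :
    g.val.det = 1 ∨ g.val.det = -1 := by
  have h := congrArg Matrix.det (signDiag_mul_self _ hg)
  rw [Matrix.det_mul, Matrix.det_one] at h
  exact mul_self_eq_one_iff.1 h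

/-- the reflection in the coordinate `i` -/
def rM (i : Fin n) : Matrix (Fin n) (Fin n) F :=
  Matrix.diagonal (fun u => if u = i then -1 else 1)

theorem isSignDiag_rM (i : Fin n) : IsSignDiag (rM (F := F) i) := by
  constructor
  · intro u v huv
    exact Matrix.diagonal_apply_ne _ huv
  · intro u
    unfold rM
    rw [Matrix.diagonal_apply_eq]
    split_ifs
    · right; rfl
    · left; rfl

theorem rM_apply_eq (i u : Fin n) : rM (F := F) i u u = if u = i then -1 else 1 := by
  unfold rM
  rw [Matrix.diagonal_apply_eq]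

def rg (i : Fin n) : GL (Fin n) F :=
  ⟨rM i, rM i, signDiag_mul_self _ (isSignDiag_rM i), signDiag_mul_self _ (isSignDiag_rM i)⟩

theorem rg_val (i : Fin n) : (rg (F := F) i).val = rM i := rfl

theorem rg_mem (i : Fin n) : rg (F := F) i ∈ Dfull n F := isSignDiag_rM i

theorem rg_det (i : Fin n) : (rg (F := F) i).val.det = -1 := by
  classical
  rw [rg_val]
  unfold rM
  rw [Matrix.det_diagonal, Finset.prod_ite_eq' Finset.univ i (fun _ => (-1 : F))]
  simp

theorem rg_mul_rg (i k : Fin n) (hik : i ≠ k) : rg (F := F) i * rg k = sg i k := by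
  apply Units.ext
  rw [Units.val_mul, rg_val, rg_val, sg_val]
  ext u v
  rw [mul_apply_of_signDiag _ _ (isSignDiag_rM i)]
  by_cases huv : u = v
  · subst huv
    rw [rM_apply_eq, rM_apply_eq, sgM_apply_eq]
    by_cases hui : u = i
    · subst hui
      rw [if_pos rfl, if_neg hik, if_pos (Or.inl rfl), mul_one]
    · by_cases huk : u = k
      · subst huk
        rw [if_neg hui, if_pos rfl, if_pos (Or.inr rfl), one_mul]
      · rw [if_neg hui, if_neg huk, if_neg (by tauto), one_mul]
  · rw [(isSignDiag_rM k).1 u v huv, (isSignDiag_sgM i k).1 u v huv, mul_zero]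

/-- commuting with a coordinate reflection separates the coordinate from the others -/
theorem sep_of_comm_r (h2 : (2 : F) ≠ 0) (M : Matrix (Fin n) (Fin n) F) (i : Fin n)
    (h : M * rM i = rM i * M) (v : Fin n) (hv : v ≠ i) : M i v = 0 ∧ M v i = 0 := by
  have e1 := congrFun (congrFun h i) v
  have e2 := congrFun (congrFun h v) i
  rw [mul_apply_of_signDiag' _ _ (isSignDiag_rM i), mul_apply_of_signDiag _ _ (isSignDiag_rM i),
    rM_apply_eq, rM_apply_eq, if_pos rfl, if_neg hv] at e1
  rw [mul_apply_of_signDiag' _ _ (isSignDiag_rM i), mul_apply_of_signDiag _ _ (isSignDiag_rM i),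
    rM_apply_eq, rM_apply_eq, if_pos rfl, if_neg hv] at e2
  constructor
  · have : (2 : F) * M i v = 0 := by linear_combination e1
    rcases mul_eq_zero.1 this with h' | h'
    · exact absurd h' h2
    · exact h'
  · have : (2 : F) * M v i = 0 := by linear_combination -e2
    rcases mul_eq_zero.1 this with h' | h'
    · exact absurd h' h2
    · exact h'

/-- **the shape of a hyperplane piece**: an invertible matrix commuting with a "hyperplane" of
the full sign group mixes at most one pair of coordinates -/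
theorem onePair_of_hyperplane (h2 : (2 : F) ≠ 0) (hn : 2 ≤ n) (g : GL (Fin n) F)
    (B' : Subgroup (GL (Fin n) F))
    (htri : ∀ e₁ ∈ Dfull n F, ∀ e₂ ∈ Dfull n F, e₁ ∈ B' ∨ e₂ ∈ B' ∨ e₁ * e₂ ∈ B')
    (hcomm : ∀ e ∈ B', g * e = e * g) :
    ∃ i j : Fin n, i ≠ j ∧ OnePair g.val i j := by
  classical
  -- consequences of a non-zero off-diagonal entry
  have hr : ∀ x y : Fin n, x ≠ y → g.val x y ≠ 0 → rg x ∉ B' := by
    intro x y hxy hne hmem
    have h := congrArg Units.val (hcomm _ hmem)
    rw [Units.val_mul, Units.val_mul, rg_val] at h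
    exact hne (sep_of_comm_r h2 g.val x h y (Ne.symm hxy)).1
  have hs : ∀ x y k : Fin n, x ≠ y → k ≠ x → k ≠ y → g.val x y ≠ 0 → sg x k ∉ B' := by
    intro x y k hxy hkx hky hne hmem
    have h := congrArg Units.val (hcomm _ hmem)
    rw [Units.val_mul, Units.val_mul, sg_val] at h
    exact hne (sep_of_comm h2 g.val x k h x y (Or.inl rfl)
      (by rintro (h' | h'); exact hxy h'.symm; exact hky h'.symm)).1
  by_cases hex : ∃ u v : Fin n, u ≠ v ∧ g.val u v ≠ 0
  · obtain ⟨u, v, huv, hne⟩ := hex
    refine ⟨u, v, huv, ?_⟩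
    intro u' v' huv' hne'
    by_contra hcon
    rw [not_or] at hcon
    -- a coordinate of the second entry outside `{u, v}`
    have hk : ∃ k : Fin n, (k = u' ∨ k = v') ∧ k ≠ u ∧ k ≠ v := by
      by_cases h1 : u' ≠ u ∧ u' ≠ v
      · exact ⟨u', Or.inl rfl, h1.1, h1.2⟩
      · by_cases h3 : v' ≠ u ∧ v' ≠ v
        · exact ⟨v', Or.inr rfl, h3.1, h3.2⟩
        · exfalso
          rw [not_and_or, not_not, not_not] at h1 h3
          rcases h1 with h1 | h1 <;> rcases h3 with h3 | h3
          · exact huv' (h1.trans h3.symm)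
          · exact hcon.1 ⟨h1, h3⟩
          · exact hcon.2 ⟨h1, h3⟩
          · exact huv' (h1.trans h3.symm)
    obtain ⟨k, hk1, hku, hkv⟩ := hk
    have hrk : rg k ∉ B' := by
      rcases hk1 with rfl | rfl
      · exact hr _ _ huv' hne'
      · -- the transposed entry: use the reflection in the column coordinate
        intro hmem
        have h := congrArg Units.val (hcomm _ hmem)
        rw [Units.val_mul, Units.val_mul, rg_val] at h
        exact hne' (sep_of_comm_r h2 g.val _ h u' huv').2
    have hru : rg u ∉ B' := hr u v huv hne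
    rcases htri (rg u) (rg_mem u) (rg k) (rg_mem k) with h | h | h
    · exact hru h
    · exact hrk h
    · rw [rg_mul_rg u k (Ne.symm hku)] at h
      exact hs u v k huv hku hkv hne h
  · push Not at hex
    refine ⟨⟨0, by omega⟩, ⟨1, by omega⟩, by
      intro h
      have := congrArg Fin.val h
      simp at this, ?_⟩
    intro u v huv hne
    exact absurd (hex u v huv) hne

/-! ### subgroups normalised by the sign matrices -/

/-- **odd-order subgroups normalised by `SO` and the sign matrices are central** -/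
theorem coreO_full [Fintype F] (h2 : (2 : F) ≠ 0) (hn : 3 ≤ n) (a : Fin n → F)
    (ha : ∀ i, a i ≠ 0) (N : Subgroup (GL (Fin n) F)) (hNO : N ≤ Oa a)
    (hnorm : ∀ t ∈ SOa a, ∀ g ∈ N, t * g * t⁻¹ ∈ N)
    (hnormD : ∀ e ∈ Dfull n F, ∀ g ∈ N, e * g * e⁻¹ ∈ N)
    (hodd : ∀ g ∈ N, ∃ k, Odd k ∧ g ^ k ∈ Subgroup.center (GL (Fin n) F)) :
    N ≤ Subgroup.center (GL (Fin n) F) := by
  classical
  apply core_of_sign_group' N (Dfull n F) Dfull_mul_self
    (fun e₁ he₁ e₂ he₂ => Dfull_comm e₁ e₂ he₁ he₂) hnormD hodd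
  · have h01 : (⟨0, by omega⟩ : Fin n) ≠ ⟨1, by omega⟩ := by
      intro h; have := congrArg Fin.val h; simp at this
    have h02 : (⟨0, by omega⟩ : Fin n) ≠ ⟨2, by omega⟩ := by
      intro h; have := congrArg Fin.val h; simp at this
    have h12 : (⟨1, by omega⟩ : Fin n) ≠ ⟨2, by omega⟩ := by
      intro h; have := congrArg Fin.val h; simp at this
    refine ⟨sg ⟨0, by omega⟩ ⟨1, by omega⟩, Esub_le_Dfull (sg_mem _ _ h01),
      sg ⟨0, by omega⟩ ⟨2, by omega⟩, Esub_le_Dfull (sg_mem _ _ h02),
      sg_not_central h2 hn _ _, sg_not_central h2 hn _ _, ?_⟩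
    rw [sg_mul_sg _ _ _ h01 h02 h12]
    exact sg_not_central h2 hn _ _
  · intro g hg B' _ htri hcomm
    obtain ⟨i, j, hij, hM⟩ := onePair_of_hyperplane h2 (by omega) g B' htri hcomm
    exact central_of_onePair h2 hn a ha N hnorm hodd g hg (hNO hg) i j hij hM

end Cfsg.Agent.Lib.Helper8.BalL
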