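import Mathlib

/-!
# Diagonal bilinear forms and their reflections (helper8)

`bD a u v = Σ aᵢ uᵢ vᵢ`; the group `Oa a` of invertible matrices preserving it; the reflection
`rfG a w` along a non-singular vector, with its basic properties.
-/

set_option autoImplicit false

namespace Cfsg.Agent.Lib.Helper8.BalL

open Matrix

variable {F : Type*} [Field F] {n : ℕ}

/-- the diagonal bilinear form -/
def bD (a : Fin n → F) (u v : Fin n → F) : F := ∑ i, a i * u i * v i

theorem bD_comm (a u v : Fin n → F) : bD a u v = bD a v u := by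
  unfold bD
  exact Finset.sum_congr rfl (fun i _ => by ring)

theorem bD_add_left (a u u' v : Fin n → F) : bD a (u + u') v = bD a u v + bD a u' v := by
  unfold bD
  rw [← Finset.sum_add_distrib]
  exact Finset.sum_congr rfl (fun i _ => by rw [Pi.add_apply]; ring)

theorem bD_add_right (a u v v' : Fin n → F) : bD a u (v + v') = bD a u v + bD a u v' := by
  rw [bD_comm, bD_add_left, bD_comm a v, bD_comm a v']

theorem bD_smul_left (a : Fin n → F) (c : F) (u v : Fin n → F) :
    bD a (c • u) v = c * bD a u v := by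
  unfold bD
  rw [Finset.mul_sum]
  exact Finset.sum_congr rfl (fun i _ => by rw [Pi.smul_apply, smul_eq_mul]; ring)

theorem bD_smul_right (a : Fin n → F) (c : F) (u v : Fin n → F) :
    bD a u (c • v) = c * bD a u v := by
  rw [bD_comm, bD_smul_left, bD_comm]

theorem bD_sub_left (a u u' v : Fin n → F) : bD a (u - u') v = bD a u v - bD a u' v := by
  rw [sub_eq_add_neg, bD_add_left, ← neg_one_smul F u', bD_smul_left]
  ring

theorem bD_sub_right (a u v v' : Fin n → F) : bD a u (v - v') = bD a u v - bD a u v' := by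
  rw [bD_comm, bD_sub_left, bD_comm a v, bD_comm a v']

theorem bD_neg_left (a u v : Fin n → F) : bD a (-u) v = - bD a u v := by
  rw [← neg_one_smul F u, bD_smul_left]
  ring

theorem bD_neg_right (a u v : Fin n → F) : bD a u (-v) = - bD a u v := by
  rw [bD_comm, bD_neg_left, bD_comm]

theorem bD_zero_left (a v : Fin n → F) : bD a 0 v = 0 := by
  unfold bD
  simp

theorem bD_zero_right (a u : Fin n → F) : bD a u 0 = 0 := by
  rw [bD_comm, bD_zero_left]

theorem bD_single_left (a : Fin n → F) (i : Fin n) (c : F) (v : Fin n → F) :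
    bD a (Pi.single i c) v = a i * c * v i := by
  unfold bD
  rw [Finset.sum_eq_single i]
  · rw [Pi.single_eq_same]
  · intro j _ hj
    rw [Pi.single_eq_of_ne hj]
    ring
  · intro h
    exact absurd (Finset.mem_univ i) h

theorem bD_single_right (a : Fin n → F) (i : Fin n) (c : F) (u : Fin n → F) :
    bD a u (Pi.single i c) = a i * u i * c := by
  rw [bD_comm, bD_single_left]
  ring

theorem bD_eq_dot (a u v : Fin n → F) : bD a u v = u ⬝ᵥ (Matrix.diagonal a *ᵥ v) := by
  unfold bD dotProduct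
  apply Finset.sum_congr rfl
  intro i _
  rw [Matrix.mulVec_diagonal]
  ring

/-- non-degeneracy -/
theorem eq_zero_of_bD (a : Fin n → F) (ha : ∀ i, a i ≠ 0) (u : Fin n → F)
    (h : ∀ v, bD a u v = 0) : u = 0 := by
  ext i
  have := h (Pi.single i 1)
  rw [bD_single_right, mul_one] at this
  rcases mul_eq_zero.1 this with h1 | h1
  · exact absurd h1 (ha i)
  · exact h1

/-! ### the isometry group -/

/-- the invertible matrices preserving `bD a` -/
def Oa (a : Fin n → F) : Subgroup (GL (Fin n) F) where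
  carrier := {g | ∀ u v, bD a (g.val *ᵥ u) (g.val *ᵥ v) = bD a u v}
  one_mem' := by
    intro u v
    rw [Units.val_one, Matrix.one_mulVec, Matrix.one_mulVec]
  mul_mem' := by
    intro g h hg hh u v
    rw [Units.val_mul, ← Matrix.mulVec_mulVec, ← Matrix.mulVec_mulVec, hg, hh]
  inv_mem' := by
    intro g hg u v
    have h1 : g.val * g⁻¹.val = 1 := by rw [← Units.val_mul, mul_inv_cancel, Units.val_one]
    have := hg (g⁻¹.val *ᵥ u) (g⁻¹.val *ᵥ v)
    rw [Matrix.mulVec_mulVec, Matrix.mulVec_mulVec, h1, Matrix.one_mulVec, Matrix.one_mulVec]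
      at this
    exact this.symm

theorem mem_Oa (a : Fin n → F) (g : GL (Fin n) F) :
    g ∈ Oa a ↔ ∀ u v, bD a (g.val *ᵥ u) (g.val *ᵥ v) = bD a u v := Iff.rfl

/-- the isometries of determinant one -/
def SOa (a : Fin n → F) : Subgroup (GL (Fin n) F) where
  carrier := {g | g ∈ Oa a ∧ g.val.det = 1}
  one_mem' := ⟨(Oa a).one_mem, by rw [Units.val_one, Matrix.det_one]⟩
  mul_mem' := by
    rintro g h ⟨hg, hg'⟩ ⟨hh, hh'⟩
    exact ⟨(Oa a).mul_mem hg hh, by rw [Units.val_mul, Matrix.det_mul, hg', hh', one_mul]⟩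
  inv_mem' := by
    rintro g ⟨hg, hg'⟩
    refine ⟨(Oa a).inv_mem hg, ?_⟩
    have h1 : g.val * g⁻¹.val = 1 := by rw [← Units.val_mul, mul_inv_cancel, Units.val_one]
    have := congrArg Matrix.det h1
    rw [Matrix.det_mul, hg', one_mul, Matrix.det_one] at this
    exact this

theorem mem_SOa (a : Fin n → F) (g : GL (Fin n) F) :
    g ∈ SOa a ↔ g ∈ Oa a ∧ g.val.det = 1 := Iff.rfl

theorem SOa_le_Oa (a : Fin n → F) : SOa a ≤ Oa a := fun _ h => h.1

/-- an isometry, applied on one side, moves to the inverse on the other -/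
theorem bD_inv_right (a : Fin n → F) (g : GL (Fin n) F) (hg : g ∈ Oa a) (u v : Fin n → F) :
    bD a (g.val *ᵥ u) v = bD a u (g⁻¹.val *ᵥ v) := by
  have h1 : g.val * g⁻¹.val = 1 := by rw [← Units.val_mul, mul_inv_cancel, Units.val_one]
  have := hg u (g⁻¹.val *ᵥ v)
  rw [Matrix.mulVec_mulVec, h1, Matrix.one_mulVec] at this
  exact this

/-- two invertible matrices with the same action are equal -/
theorem gl_ext (g h : GL (Fin n) F) (H : ∀ v, g.val *ᵥ v = h.val *ᵥ v) : g = h := by
  apply Units.ext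
  ext i j
  have := congrFun (H (Pi.single j 1)) i
  rw [Matrix.mulVec_single_one, Matrix.mulVec_single_one] at this
  exact this

theorem mat_ext (M N : Matrix (Fin n) (Fin n) F) (H : ∀ v, M *ᵥ v = N *ᵥ v) : M = N := by
  ext i j
  have := congrFun (H (Pi.single j 1)) i
  rw [Matrix.mulVec_single_one, Matrix.mulVec_single_one] at this
  exact this

/-! ### reflections -/

/-- the reflection along `w`, on vectors -/
def rfv (a : Fin n → F) (w v : Fin n → F) : Fin n → F :=
  v - (2 * bD a w v / bD a w w) • w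

/-- the matrix of the reflection along `w` -/
def rfM (a : Fin n → F) (w : Fin n → F) : Matrix (Fin n) (Fin n) F :=
  1 - (2 / bD a w w) • Matrix.vecMulVec w (fun j => a j * w j)

theorem rfM_mulVec (a : Fin n → F) (w v : Fin n → F) : rfM a w *ᵥ v = rfv a w v := by
  unfold rfM rfv
  rw [Matrix.sub_mulVec, Matrix.one_mulVec, Matrix.smul_mulVec, Matrix.vecMulVec_mulVec]
  congr 1
  have : (fun j => a j * w j) ⬝ᵥ v = bD a w v := by
    unfold bD dotProduct
    rfl
  rw [this]
  ext i
  simp only [Pi.smul_apply, smul_eq_mul, MulOpposite.smul_eq_mul_unop, MulOpposite.unop_op]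
  ring

theorem bD_rfv_right (a : Fin n → F) (w : Fin n → F) (hw : bD a w w ≠ 0) (v : Fin n → F) :
    bD a w (rfv a w v) = - bD a w v := by
  unfold rfv
  rw [bD_sub_right, bD_smul_right]
  field_simp
  ring

theorem rfv_rfv (a : Fin n → F) (w : Fin n → F) (hw : bD a w w ≠ 0) (v : Fin n → F) :
    rfv a w (rfv a w v) = v := by
  have h1 := bD_rfv_right a w hw v
  have h2 : rfv a w (rfv a w v) = rfv a w v - (2 * bD a w (rfv a w v) / bD a w w) • w := rfl
  rw [h2, h1]
  unfold rfv
  ext i
  simp only [Pi.sub_apply, Pi.smul_apply, smul_eq_mul]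
  ring

theorem bD_rfv (a : Fin n → F) (w : Fin n → F) (hw : bD a w w ≠ 0) (u v : Fin n → F) :
    bD a (rfv a w u) (rfv a w v) = bD a u v := by
  unfold rfv
  rw [bD_sub_left, bD_sub_right, bD_sub_right, bD_smul_left, bD_smul_left, bD_smul_right,
    bD_smul_right, bD_comm a u w]
  field_simp
  ring

theorem rfM_mul_self (a : Fin n → F) (w : Fin n → F) (hw : bD a w w ≠ 0) :
    rfM a w * rfM a w = 1 := by
  apply mat_ext
  intro v
  rw [← Matrix.mulVec_mulVec, rfM_mulVec, rfM_mulVec, rfv_rfv a w hw, Matrix.one_mulVec]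

open Classical in
/-- the reflection along `w`, as an invertible matrix (the identity if `w` is singular) -/
noncomputable def rfG (a : Fin n → F) (w : Fin n → F) : GL (Fin n) F :=
  if hw : bD a w w ≠ 0 then ⟨rfM a w, rfM a w, rfM_mul_self a w hw, rfM_mul_self a w hw⟩ else 1

theorem rfG_val (a : Fin n → F) (w : Fin n → F) (hw : bD a w w ≠ 0) :
    (rfG a w).val = rfM a w := by
  unfold rfG
  rw [dif_pos hw]

theorem rfG_mulVec (a : Fin n → F) (w : Fin n → F) (hw : bD a w w ≠ 0) (v : Fin n → F) :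
    (rfG a w).val *ᵥ v = rfv a w v := by
  rw [rfG_val a w hw, rfM_mulVec]

theorem rfG_mul_self (a : Fin n → F) (w : Fin n → F) : rfG a w * rfG a w = 1 := by
  by_cases hw : bD a w w ≠ 0
  · apply Units.ext
    rw [Units.val_mul, rfG_val a w hw, rfM_mul_self a w hw, Units.val_one]
  · unfold rfG
    rw [dif_neg hw, one_mul]

theorem rfG_inv (a : Fin n → F) (w : Fin n → F) : (rfG a w)⁻¹ = rfG a w :=
  inv_eq_of_mul_eq_one_right (rfG_mul_self a w)

theorem rfG_mem (a : Fin n → F) (w : Fin n → F) : rfG a w ∈ Oa a := by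
  by_cases hw : bD a w w ≠ 0
  · intro u v
    rw [rfG_mulVec a w hw, rfG_mulVec a w hw, bD_rfv a w hw]
  · unfold rfG
    rw [dif_neg hw]
    exact (Oa a).one_mem

theorem rfG_det (a : Fin n → F) (w : Fin n → F) (hw : bD a w w ≠ 0) :
    (rfG a w).val.det = -1 := by
  rw [rfG_val a w hw]
  unfold rfM
  have h1 : (2 / bD a w w) • Matrix.vecMulVec w (fun j => a j * w j) =
      Matrix.replicateCol Unit ((2 / bD a w w) • w) *
        Matrix.replicateRow Unit (fun j => a j * w j) := by
    rw [← Matrix.vecMulVec_eq]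
    ext i j
    simp only [Matrix.smul_apply, Matrix.vecMulVec_apply, Pi.smul_apply, smul_eq_mul]
    ring
  rw [h1, Matrix.det_one_sub_mul_comm, Matrix.det_unique]
  simp only [Matrix.sub_apply, Matrix.one_apply_eq, Matrix.replicateRow_mul_replicateCol_apply]
  have h2 : (fun j => a j * w j) ⬝ᵥ ((2 / bD a w w) • w) = 2 := by
    rw [dotProduct_smul]
    have : (fun j => a j * w j) ⬝ᵥ w = bD a w w := by
      unfold bD dotProduct
      rfl
    rw [this, smul_eq_mul]
    field_simp
  rw [h2]
  ring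

/-- conjugating a reflection by an isometry -/
theorem conj_rfG (a : Fin n → F) (g : GL (Fin n) F) (hg : g ∈ Oa a) (w : Fin n → F) :
    g * rfG a w * g⁻¹ = rfG a (g.val *ᵥ w) := by
  have hQ : bD a (g.val *ᵥ w) (g.val *ᵥ w) = bD a w w := hg w w
  by_cases hw : bD a w w ≠ 0
  · have hw' : bD a (g.val *ᵥ w) (g.val *ᵥ w) ≠ 0 := by rwa [hQ]
    apply gl_ext
    intro v
    rw [Units.val_mul, Units.val_mul, ← Matrix.mulVec_mulVec, ← Matrix.mulVec_mulVec,
      rfG_mulVec a w hw, rfG_mulVec a _ hw']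
    unfold rfv
    rw [Matrix.mulVec_sub, Matrix.mulVec_smul, Matrix.mulVec_mulVec, ← Units.val_mul,
      mul_inv_cancel, Units.val_one, Matrix.one_mulVec, hQ, bD_inv_right a g hg]
  · have hw' : ¬ bD a (g.val *ᵥ w) (g.val *ᵥ w) ≠ 0 := by rwa [hQ]
    unfold rfG
    rw [dif_neg hw, dif_neg hw', mul_one, mul_inv_cancel]

/-- a vector orthogonal to `w` is fixed by the reflection along `w` -/
theorem rfv_of_orth (a : Fin n → F) (w v : Fin n → F) (h : bD a w v = 0) : rfv a w v = v := by
  unfold rfv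
  rw [h, mul_zero, zero_div, zero_smul, sub_zero]

theorem rfv_self (a : Fin n → F) (w : Fin n → F) (hw : bD a w w ≠ 0) : rfv a w w = -w := by
  unfold rfv
  ext i
  simp only [Pi.sub_apply, Pi.smul_apply, smul_eq_mul, Pi.neg_apply]
  field_simp
  ring

end Cfsg.Agent.Lib.Helper8.BalL
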