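import Mathlib
import Cfsg.Agent.S0250
import Cfsg.Agent.S0251

/-!
# `PSL_2(F)` is not simple for `|F| ≤ 3` (helper8)
-/

set_option autoImplicit false

namespace Cfsg.Agent.Lib.Helper8.BalL

open Matrix

/-- the symmetric group on three letters is not simple -/
theorem perm_three_not_simple : ¬ IsSimpleGroup (Equiv.Perm (Fin 3)) := by
  intro h
  have hcard : Fintype.card ↥(alternatingGroup (Fin 3)) = 3 := by
    rw [card_alternatingGroup, Fintype.card_fin]
    rfl
  rcases (alternatingGroup.normal (α := Fin 3)).eq_bot_or_eq_top with hb | ht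
  · have : Fintype.card ↥(alternatingGroup (Fin 3)) = 1 := by
      rw [← Nat.card_eq_fintype_card, hb]
      exact Subgroup.card_bot
    omega
  · have : Fintype.card ↥(alternatingGroup (Fin 3)) = 6 := by
      rw [← Nat.card_eq_fintype_card, ht, Subgroup.card_top, Nat.card_eq_fintype_card,
        Fintype.card_perm, Fintype.card_fin]
      rfl
    omega

/-- the alternating group on four letters is not simple -/
theorem alt_four_not_simple : ¬ IsSimpleGroup ↥(alternatingGroup (Fin 4)) := by
  intro h
  have h4 : Nat.card (Fin 4) = 4 := by rw [Nat.card_eq_fintype_card, Fintype.card_fin]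
  have hn := alternatingGroup.normal_kleinFour h4
  have hc := alternatingGroup.kleinFour_card_of_card_eq_four h4
  rcases hn.eq_bot_or_eq_top with hb | ht
  · rw [hb, Subgroup.card_bot] at hc
    omega
  · rw [ht, Subgroup.card_top, Nat.card_eq_fintype_card, card_alternatingGroup,
      Fintype.card_fin] at hc
    have : (4 : ℕ).factorial / 2 = 12 := rfl
    omega

/-- `PSL_2(F)` simple implies `|F| ≥ 4` -/
theorem four_le_card_of_simple {F : Type*} [Field F] [Fintype F]
    (hK : IsSimpleGroup (Matrix.ProjectiveSpecialLinearGroup (Fin 2) F)) :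
    4 ≤ Fintype.card F := by
  by_contra hlt
  have h1 := Fintype.one_lt_card (α := F)
  have hcases : Fintype.card F = 2 ∨ Fintype.card F = 3 := by omega
  rcases hcases with hF | hF
  · obtain ⟨e⟩ := Cfsg.Agent.S0250.result hF
    have hcen : Subgroup.center (Matrix.SpecialLinearGroup (Fin 2) F) = ⊥ := by
      rw [eq_bot_iff]
      intro A hA
      rw [Subgroup.mem_bot]
      rw [Matrix.SpecialLinearGroup.mem_center_iff] at hA
      obtain ⟨c, hc, hcA⟩ := hA
      have hc0 : c ≠ 0 := by
        rintro rfl
        rw [Fintype.card_fin] at hc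
        simp at hc
      have hc1 : c = 1 := by
        have := FiniteField.pow_card_sub_one_eq_one c hc0
        rw [hF] at this
        simpa using this
      apply Subtype.ext
      rw [← hcA, hc1, map_one, Matrix.SpecialLinearGroup.coe_one]
    let e2 : Matrix.ProjectiveSpecialLinearGroup (Fin 2) F ≃* Equiv.Perm (Fin 3) :=
      ((QuotientGroup.quotientMulEquivOfEq hcen).trans QuotientGroup.quotientBot).trans e
    have := hK
    exact perm_three_not_simple (e2.symm.isSimpleGroup)
  · obtain ⟨e⟩ := Cfsg.Agent.S0251.result hF
    have := hK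
    exact alt_four_not_simple (e.symm.isSimpleGroup)

end Cfsg.Agent.Lib.Helper8.BalL
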