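import Mathlib

/-!
# Rank-one unipotents and semilinear maps normalising them (helper8)

If `h * s^τ = ζ • (s * h)` for a rank-one perturbation `s = 1 + v φᵀ` of the identity, then
`ζ = 1` and `h (τ v)` is a multiple of `v`.
-/

set_option autoImplicit false

namespace Cfsg.Agent.Lib.Helper8.BalL

open Matrix

variable {F : Type*} [Field F] {n : ℕ}

/-- the rank-one perturbation `1 + v φᵀ` of the identity -/
def tv (v φ : Fin n → F) : Matrix (Fin n) (Fin n) F := 1 + Matrix.vecMulVec v φ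

theorem tv_apply (v φ : Fin n → F) (i j : Fin n) :
    tv v φ i j = (if i = j then 1 else 0) + v i * φ j := by
  unfold tv
  rw [Matrix.add_apply, Matrix.one_apply, Matrix.vecMulVec_apply]

theorem tv_mulVec (v φ x : Fin n → F) : tv v φ *ᵥ x = x + (φ ⬝ᵥ x) • v := by
  unfold tv
  rw [Matrix.add_mulVec, Matrix.one_mulVec, Matrix.vecMulVec_mulVec, op_smul_eq_smul]

theorem tv_map {F' : Type*} [Field F'] (τ : F →+* F') (v φ : Fin n → F) :
    (tv v φ).map τ = tv (fun i => τ (v i)) (fun i => τ (φ i)) := by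
  ext i j
  rw [Matrix.map_apply, tv_apply, tv_apply, map_add, map_mul]
  split_ifs
  · rw [map_one]
  · rw [map_zero]

theorem tv_det (v φ : Fin n → F) : (tv v φ).det = 1 + φ ⬝ᵥ v := by
  unfold tv
  rw [Matrix.vecMulVec_eq Unit, Matrix.det_one_add_replicateCol_mul_replicateRow]

theorem tv_zero_right (v : Fin n → F) : tv v 0 = 1 := by
  ext i j
  rw [tv_apply, Matrix.one_apply, Pi.zero_apply, mul_zero, add_zero]

/-- two linear conditions in dimension at least three have a common nonzero solution -/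
theorem exists_ne_zero_two_conditions (hn : 3 ≤ n) (φ ψ : Fin n → F) :
    ∃ x : Fin n → F, x ≠ 0 ∧ φ ⬝ᵥ x = 0 ∧ ψ ⬝ᵥ x = 0 := by
  let L : (Fin n → F) →ₗ[F] (Fin 2 → F) :=
    Matrix.mulVecLin (Matrix.of ![φ, ψ] : Matrix (Fin 2) (Fin n) F)
  have hker : LinearMap.ker L ≠ ⊥ := by
    apply LinearMap.ker_ne_bot_of_finrank_lt
    rw [Module.finrank_fin_fun, Module.finrank_fin_fun]
    omega
  obtain ⟨x, hx, hx0⟩ := (Submodule.ne_bot_iff _).1 hker
  refine ⟨x, hx0, ?_, ?_⟩
  · have := congrFun (LinearMap.mem_ker.1 hx) 0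
    exact this
  · have := congrFun (LinearMap.mem_ker.1 hx) 1
    exact this

/-- the relation applied to a vector -/
theorem tv_rel (h : Matrix (Fin n) (Fin n) F) (v' φ' v φ : Fin n → F) (ζ : F)
    (H : h * tv v' φ' = ζ • (tv v φ * h)) (x : Fin n → F) :
    h *ᵥ x + (φ' ⬝ᵥ x) • (h *ᵥ v') =
      ζ • (h *ᵥ x) + (ζ * (φ ⬝ᵥ (h *ᵥ x))) • v := by
  have := congrArg (fun M => M *ᵥ x) H
  beta_reduce at this
  rw [← Matrix.mulVec_mulVec, tv_mulVec, Matrix.mulVec_add, Matrix.mulVec_smul,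
    Matrix.smul_mulVec, ← Matrix.mulVec_mulVec, tv_mulVec, smul_add, smul_smul] at this
  exact this

/-- the multiplier is trivial in dimension at least three -/
theorem tv_zeta (hn : 3 ≤ n) (h : Matrix (Fin n) (Fin n) F) (hh : IsUnit h)
    (v' φ' v φ : Fin n → F) (ζ : F)
    (H : h * tv v' φ' = ζ • (tv v φ * h)) : ζ = 1 := by
  have hinj := (Matrix.mulVec_injective_iff_isUnit).2 hh
  obtain ⟨x, hx0, hx1, hx2⟩ := exists_ne_zero_two_conditions hn φ' (φ ᵥ* h)
  have e := tv_rel h v' φ' v φ ζ H x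
  rw [hx1, zero_smul, add_zero] at e
  rw [← Matrix.dotProduct_mulVec] at hx2
  rw [hx2, mul_zero, zero_smul, add_zero] at e
  have hne : h *ᵥ x ≠ 0 := by
    intro h0
    apply hx0
    apply hinj
    rw [h0, Matrix.mulVec_zero]
  by_contra hζ1
  apply hne
  have e2 : (1 - ζ) • (h *ᵥ x) = 0 := by
    rw [sub_smul, one_smul, ← e, sub_self]
  rcases smul_eq_zero.1 e2 with h3 | h3
  · exact absurd (sub_eq_zero.1 h3).symm hζ1
  · exact h3

theorem tv_trace (v φ : Fin n → F) : (tv v φ).trace = (n : F) + φ ⬝ᵥ v := by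
  unfold tv
  rw [Matrix.trace_add, Matrix.trace_one, Matrix.trace_vecMulVec, Fintype.card_fin, dotProduct_comm]

/-- the multiplier is trivial in dimension two, for transvections -/
theorem tv_zeta_two (hn : n = 2) (h : Matrix (Fin n) (Fin n) F) (hh : IsUnit h)
    (v' φ' v φ : Fin n → F) (hφv' : φ' ⬝ᵥ v' = 0) (hφv : φ ⬝ᵥ v = 0) (ζ : F)
    (H : h * tv v' φ' = ζ • (tv v φ * h)) : ζ = 1 := by
  obtain ⟨u, rfl⟩ := hh
  have H2 : u.val * tv v' φ' * u⁻¹.val = ζ • tv v φ := by
    rw [H, Matrix.smul_mul, Matrix.mul_assoc, ← Units.val_mul, mul_inv_cancel, Units.val_one,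
      Matrix.mul_one]
  have htr := congrArg Matrix.trace H2
  rw [Matrix.trace_units_conj, tv_trace, Matrix.trace_smul, tv_trace, hφv, hφv', add_zero,
    smul_eq_mul, hn] at htr
  have hdet := congrArg Matrix.det H2
  rw [Matrix.det_units_conj, tv_det, Matrix.det_smul, tv_det, hφv, hφv', add_zero,
    mul_one, Fintype.card_fin, hn] at hdet
  by_cases h2 : ((2 : ℕ) : F) = 0
  · have : (ζ - 1) ^ 2 = 0 := by
      have h2' : (2 : F) = 0 := by exact_mod_cast h2
      linear_combination -hdet + (1 - ζ) * h2'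
    have := pow_eq_zero_iff (two_ne_zero) |>.1 this
    exact sub_eq_zero.1 this
  · have : ((2 : ℕ) : F) * (ζ - 1) = 0 := by linear_combination -htr
    rcases mul_eq_zero.1 this with h3 | h3
    · exact absurd h3 h2
    · exact sub_eq_zero.1 h3

/-- **the centre of a transvection is preserved**, given that the multiplier is trivial -/
theorem tv_center_of_one (h : Matrix (Fin n) (Fin n) F)
    (v' φ' v φ : Fin n → F) (hφ' : φ' ≠ 0)
    (H : h * tv v' φ' = tv v φ * h) :
    ∃ c : F, h *ᵥ v' = c • v := by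
  obtain ⟨i, hi⟩ : ∃ i, φ' i ≠ 0 := by
    by_contra hcon
    push Not at hcon
    exact hφ' (funext hcon)
  have e := tv_rel h v' φ' v φ 1 (by rw [one_smul]; exact H) (Pi.single i 1)
  rw [one_smul, one_mul] at e
  have e2 := add_left_cancel e
  rw [dotProduct_single, mul_one] at e2
  refine ⟨(φ' i)⁻¹ * (φ ⬝ᵥ (h *ᵥ Pi.single i 1)), ?_⟩
  rw [← smul_smul, ← e2, smul_smul, inv_mul_cancel₀ hi, one_smul]

/-- **the centre of a transvection is preserved** (dimension at least three) -/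
theorem tv_center (hn : 3 ≤ n) (h : Matrix (Fin n) (Fin n) F) (hh : IsUnit h)
    (v' φ' v φ : Fin n → F) (hφ' : φ' ≠ 0) (ζ : F)
    (H : h * tv v' φ' = ζ • (tv v φ * h)) :
    ∃ c : F, h *ᵥ v' = c • v := by
  have hζ := tv_zeta hn h hh v' φ' v φ ζ H
  rw [hζ, one_smul] at H
  exact tv_center_of_one h v' φ' v φ hφ' H

/-- both cases at once, for transvections in dimension at least two -/
theorem tv_center' (hn : 2 ≤ n) (h : Matrix (Fin n) (Fin n) F) (hh : IsUnit h)
    (v' φ' v φ : Fin n → F) (hφ' : φ' ≠ 0) (hφv' : φ' ⬝ᵥ v' = 0) (hφv : φ ⬝ᵥ v = 0) (ζ : F)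
    (H : h * tv v' φ' = ζ • (tv v φ * h)) :
    ∃ c : F, h *ᵥ v' = c • v := by
  rcases Nat.lt_or_ge n 3 with h3 | h3
  · have hζ := tv_zeta_two (by omega) h hh v' φ' v φ hφv' hφv ζ H
    rw [hζ, one_smul] at H
    exact tv_center_of_one h v' φ' v φ hφ' H
  · exact tv_center h3 h hh v' φ' v φ hφ' ζ H

/-- the dot product of the images under a ring homomorphism -/
theorem dot_map {F' : Type*} [Field F'] (τ : F →+* F') (φ v : Fin n → F) :
    (fun i => τ (φ i)) ⬝ᵥ (fun i => τ (v i)) = τ (φ ⬝ᵥ v) := by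
  rw [dotProduct, dotProduct, map_sum]
  apply Finset.sum_congr rfl
  intro i _
  rw [map_mul]

/-! ### semilinear maps preserving enough lines -/

theorem map_single_add (τ : F →+* F) (i j : Fin n) (t : F) :
    (fun k => τ ((Pi.single i 1 + t • Pi.single j 1 : Fin n → F) k)) =
      Pi.single i 1 + τ t • Pi.single j 1 := by
  funext k
  simp only [Pi.add_apply, Pi.smul_apply, smul_eq_mul, map_add, map_mul, Pi.single_apply]
  split_ifs <;> simp

/-- a semilinear map preserving the lines `⟨e_i + t e_j⟩`, `t ∈ T ∋ 0, 1`, is a scalar and its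
field automorphism fixes `T` -/
theorem scalar_of_lines (hn : 2 ≤ n) (h : Matrix (Fin n) (Fin n) F) (hh : IsUnit h)
    (τ : F →+* F) (T : Set F) (h0T : (0 : F) ∈ T) (h1T : (1 : F) ∈ T)
    (hline : ∀ i j : Fin n, i ≠ j → ∀ t ∈ T, ∃ c : F,
      h *ᵥ (Pi.single i 1 + τ t • Pi.single j 1) = c • (Pi.single i 1 + t • Pi.single j 1)) :
    (∀ t ∈ T, τ t = t) ∧ ∃ c : F, h = c • (1 : Matrix (Fin n) (Fin n) F) := by
  have hinj := (Matrix.mulVec_injective_iff_isUnit).2 hh
  have hother : ∀ i : Fin n, ∃ j : Fin n, i ≠ j := by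
    intro i
    by_cases hi : i.val = 0
    · exact ⟨⟨1, by omega⟩, fun h => by rw [h] at hi; simp at hi⟩
    · exact ⟨⟨0, by omega⟩, fun h => by rw [h] at hi; simp at hi⟩
  have hbase : ∀ i : Fin n, ∃ c : F, h *ᵥ Pi.single i 1 = c • (Pi.single i 1 : Fin n → F) := by
    intro i
    obtain ⟨j, hij⟩ := hother i
    obtain ⟨c, hc⟩ := hline i j hij 0 h0T
    rw [map_zero, zero_smul, add_zero] at hc
    exact ⟨c, hc⟩
  choose c hc using hbase
  have hrel : ∀ i j : Fin n, i ≠ j → ∀ t ∈ T, τ t * c j = c i * t := by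
    intro i j hij t ht
    obtain ⟨d, hd⟩ := hline i j hij t ht
    rw [Matrix.mulVec_add, Matrix.mulVec_smul, hc, hc] at hd
    have e1 := congrFun hd i
    have e2 := congrFun hd j
    simp only [Pi.add_apply, Pi.smul_apply, smul_eq_mul, Pi.single_eq_same,
      Pi.single_eq_of_ne hij, Pi.single_eq_of_ne hij.symm, mul_zero, mul_one, add_zero,
      zero_add] at e1 e2
    rw [e2, ← e1]
  have hceq : ∀ i j : Fin n, c i = c j := by
    intro i j
    by_cases hij : i = j
    · rw [hij]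
    · have := hrel i j hij 1 h1T
      rw [map_one, one_mul, mul_one] at this
      exact this.symm
  have hc0 : ∀ i, c i ≠ 0 := by
    intro i h0
    have h1 := hc i
    rw [h0, zero_smul] at h1
    have h2 : (Pi.single i 1 : Fin n → F) = 0 := hinj (by rw [h1, Matrix.mulVec_zero])
    have := congrFun h2 i
    rw [Pi.single_eq_same, Pi.zero_apply] at this
    exact one_ne_zero this
  constructor
  · intro t ht
    obtain ⟨j, hij⟩ := hother (⟨0, by omega⟩ : Fin n)
    have := hrel _ j hij t ht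
    rw [hceq ⟨0, by omega⟩ j, mul_comm] at this
    exact mul_left_cancel₀ (hc0 j) this
  · refine ⟨c ⟨0, by omega⟩, ?_⟩
    ext i j
    have := congrFun (hc j) i
    rw [Matrix.mulVec_single_one, hceq j ⟨0, by omega⟩] at this
    rw [Matrix.smul_apply, Matrix.one_apply, smul_eq_mul]
    rw [Pi.smul_apply, Pi.single_apply, smul_eq_mul] at this
    exact this

end Cfsg.Agent.Lib.Helper8.BalL
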